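import Groth.Agent.GMod80.Bridge
import Groth.Agent.AlgGrp79.SepDense
import Mathlib.LinearAlgebra.TensorProduct.Submodule
import Mathlib.AlgebraicGeometry.Morphisms.Smooth
import Mathlib.AlgebraicGeometry.Morphisms.ClosedImmersion
import Mathlib.RingTheory.Spectrum.Prime.Topology

/-!
Fixed vectors, stable subspaces and translation invariant functions in comodule terms.
-/

set_option autoImplicit false
set_option linter.unusedSectionVars false

universe u v

open CategoryTheory MonoidalCategory CartesianMonoidalCategory MonObj GrpObj AlgebraicGeometry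
open CategoryTheory.Limits
open scoped TensorProduct
open WithConv TensorProduct

noncomputable section

namespace Groth.Agent.GMod80

variable {k : Type u} [Field k] {A : Type u} [CommRing A] [HopfAlgebra k A]
  {G : Over (Spec (CommRingCat.of k))} [GrpObj G] (ψ : sp k A ≅ G) [IsMonHom ψ.hom]

theorem appTop_injective {X Y : Scheme.{u}} (f : X ⟶ Y) [IsIso f] :
    Function.Injective f.appTop.hom := by
  have h : f.appTop ≫ (inv f).appTop = 𝟙 _ := by
    rw [← Scheme.Hom.comp_appTop, IsIso.inv_hom_id]; rfl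
  intro x y hxy
  simpa using (congrArg (fun q => q.hom x) h).symm.trans
    ((congrArg (inv f).appTop.hom hxy).trans (congrArg (fun q => q.hom y) h))

theorem e_id : e ψ A (toConv (AlgHom.id k A)) = ψ.hom := by
  apply Over.OverMorphism.ext
  rw [e_left, show CommRingCat.ofHom (toConv (AlgHom.id k A)).ofConv.toRingHom = 𝟙 _ from rfl,
    Spec.map_id]
  exact Category.id_comp _

section Pull

variable {A' : Type u} [CommRing A'] [HopfAlgebra k A']
  {H : Over (Spec (CommRingCat.of k))} [GrpObj H] (ψ' : sp k A' ≅ H) [IsMonHom ψ'.hom]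
  (i : H ⟶ G)

/-- The algebra map of coordinates of a morphism. -/
def pull : A →ₐ[k] A' :=
  ((e ψ A').symm (e ψ' A' (toConv (AlgHom.id k A')) ≫ i)).ofConv

theorem e_comp {B : Type u} [CommRing B] [Algebra k B] (f : WithConv (A' →ₐ[k] B)) :
    e ψ' B f ≫ i = e ψ B (toConv (f.ofConv.comp (pull ψ ψ' i))) := by
  have h1 : e ψ' B f = VecGrp.ptMap f.ofConv ≫ e ψ' A' (toConv (AlgHom.id k A')) := by
    rw [e_natural]; rfl
  rw [h1, Category.assoc, pull, ← MulEquiv.apply_symm_apply (e ψ A') (_ ≫ i), e_natural,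
    MulEquiv.symm_apply_apply]

theorem appTop_i_fn (a : A) : i.left.appTop.hom (fn ψ a) = fn ψ' (pull ψ ψ' i a) := by
  have h := e_comp ψ ψ' i (toConv (AlgHom.id k A'))
  rw [ofConv_toConv, AlgHom.id_comp] at h
  have h1 : (e ψ' A' (toConv (AlgHom.id k A'))).left.appTop.hom (i.left.appTop.hom (fn ψ a)) =
      (Scheme.ΓSpecIso (CommRingCat.of A')).inv.hom (pull ψ ψ' i a) := by
    have h2 := appTop_fn ψ (toConv (pull ψ ψ' i)) a
    rw [← h, Over.comp_left, Scheme.Hom.comp_appTop] at h2
    exact h2
  have h3 := appTop_fn ψ' (toConv (AlgHom.id k A')) (pull ψ ψ' i a)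
  rw [ofConv_toConv, AlgHom.id_apply, ← h1] at h3
  refine Function.Injective.eq_iff ?_ |>.1 h3.symm
  rw [e_id]
  exact @appTop_injective _ _ ψ'.hom.left ((Over.forget _).mapIso ψ').isIso_hom

variable [IsMonHom i]

/-- The map of coordinates of a homomorphism is a map of bialgebras. -/
def pullBialg : A →ₐc[k] A' :=
  .ofAlgHom (pull ψ ψ' i)
    (by
      have h := e_comp ψ ψ' i (1 : WithConv (A' →ₐ[k] k))
      rw [map_one, MonObj.one_comp] at h
      have h1 := (e ψ k).symm_apply_eq.2 h
      rw [map_one] at h1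
      ext a
      exact (congrArg (fun q : WithConv (A →ₐ[k] k) => q.ofConv a) h1).symm)
    (by
      let l : WithConv (A' →ₐ[k] A' ⊗[k] A') := toConv Algebra.TensorProduct.includeLeft
      let r : WithConv (A' →ₐ[k] A' ⊗[k] A') := toConv Algebra.TensorProduct.includeRight
      have h := e_comp ψ ψ' i (l * r)
      rw [map_mul, MonObj.mul_comp, e_comp ψ ψ' i l, e_comp ψ ψ' i r, ← map_mul] at h
      have h1 := (e ψ _).injective h
      refine AlgHom.ext fun a => ?_
      have h2 := congrArg (fun q : WithConv (A →ₐ[k] A' ⊗[k] A') => q.ofConv a) h1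
      change _ = (l * r).ofConv (pull ψ ψ' i a) at h2
      rw [AlgHom.convMul_apply, AlgHom.convMul_apply] at h2
      simp only [AlgHom.comp_apply, Bialgebra.comulAlgHom_apply]
      have key : ∀ z : A' ⊗[k] A', Algebra.TensorProduct.lift l.ofConv r.ofConv
          (fun _ _ => Commute.all _ _) z = z := by
        intro z
        induction z using TensorProduct.induction_on with
        | zero => simp
        | add p q hp hq => simp only [map_add, hp, hq]
        | tmul p q => simp [l, r]
      rw [key] at h2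
      rw [← h2]
      generalize CoalgebraStruct.comul (R := k) a = z
      induction z using TensorProduct.induction_on with
      | zero => simp
      | add p q hp hq => simp only [map_add, hp, hq]
      | tmul p q => simp [l, r])

theorem pullBialg_apply (a : A) : pullBialg ψ ψ' i a = pull ψ ψ' i a := rfl

theorem pull_surjective [IsClosedImmersion i.left] : Function.Surjective (pull ψ ψ' i) := by
  intro a'
  have : IsAffine G.left := IsAffine.of_isIso (sch ψ).inv
  obtain ⟨f, hf⟩ := (IsClosedImmersion.isAffine_surjective_of_isAffine (f := i.left)).2 (fn ψ' a')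
  obtain ⟨a, rfl⟩ := (fn ψ).surjective f
  exact ⟨a, (fn ψ').injective ((appTop_i_fn ψ ψ' i a).symm.trans hf)⟩

end Pull

section Fixed

variable {M : Type u} [AddCommGroup M] [Module k M] (ρ : VecGrp.GMod G M)

theorem app_eq_one_tmul {B : Type u} [CommRing B] [Algebra k B] (c : M →ₗ[k] M ⊗[k] A)
    (f : A →ₐ[k] B) (m : M) :
    app c f m = (1 : B) ⊗ₜ[k] m ↔ f.toLinearMap.lTensor M (c m) = m ⊗ₜ[k] (1 : B) := by
  rw [← (TensorProduct.comm k M B).injective.eq_iff (a := f.toLinearMap.lTensor M (c m))]
  rfl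

theorem fixes_iff {B : Type u} [CommRing B] [Algebra k B] (f : WithConv (A →ₐ[k] B)) (m : M) :
    ρ.ρ B (e ψ B f) ((1 : B) ⊗ₜ[k] m) = (1 : B) ⊗ₜ[k] m ↔
      f.ofConv.toLinearMap.lTensor M (coactOf ψ ρ m) = m ⊗ₜ[k] (1 : B) := by
  rw [rho_eq, one_smul, app_eq_one_tmul]

theorem mem_fixedUnder_iff {A' : Type u} [CommRing A'] [HopfAlgebra k A']
    {H : Over (Spec (CommRingCat.of k))} [GrpObj H] (ψ' : sp k A' ≅ H) [IsMonHom ψ'.hom]
    (i : H ⟶ G) (m : M) :
    m ∈ ρ.fixedUnder i ↔
      (pull ψ ψ' i).toLinearMap.lTensor M (coactOf ψ ρ m) = m ⊗ₜ[k] (1 : A') := by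
  constructor
  · intro hm
    have h := hm A' (e ψ' A' (toConv (AlgHom.id k A')))
    rw [e_comp ψ, fixes_iff, ofConv_toConv, ofConv_toConv, AlgHom.id_comp] at h
    exact h
  · intro hm B _ _ g
    obtain ⟨f, rfl⟩ := (e ψ' B).surjective g
    rw [e_comp ψ, fixes_iff, ofConv_toConv, AlgHom.comp_toLinearMap, LinearMap.lTensor_comp,
      LinearMap.comp_apply, hm, LinearMap.lTensor_tmul, AlgHom.toLinearMap_apply, map_one]

theorem mem_fixedUnder_id_iff (m : M) :
    m ∈ ρ.fixedUnder (𝟙 G) ↔ coactOf ψ ρ m = m ⊗ₜ[k] (1 : A) := by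
  rw [mem_fixedUnder_iff ψ ρ ψ]
  have : pull ψ ψ (𝟙 G) = AlgHom.id k A := by
    rw [pull, Category.comp_id, MulEquiv.symm_apply_apply, ofConv_toConv]
  rw [this, AlgHom.toLinearMap_id, LinearMap.lTensor_id, LinearMap.id_apply]

theorem rho_pt (f : WithConv (A →ₐ[k] k)) (m : M) :
    ρ.ρ k (e ψ k f) ((1 : k) ⊗ₜ[k] m) =
      (1 : k) ⊗ₜ[k] @HopfRep.Comod.act k A _ _ _ M _ _ (toComod ψ ρ) f.ofConv m := by
  rw [rho_eq, one_smul]
  apply (TensorProduct.lid k M).injective
  rw [TensorProduct.lid_tmul, one_smul]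
  change TensorProduct.lid k M (TensorProduct.comm k M k
    (f.ofConv.toLinearMap.lTensor M (coactOf ψ ρ m))) =
      TensorProduct.rid k M (f.ofConv.toLinearMap.lTensor M (coactOf ψ ρ m))
  generalize f.ofConv.toLinearMap.lTensor M (coactOf ψ ρ m) = y
  induction y using TensorProduct.induction_on with
  | zero => simp
  | add p q hp hq => simp only [map_add, hp, hq]
  | tmul n c => simp

theorem comm_symm_smul {B : Type u} [CommRing B] [Algebra k B] (b : B) (p : B ⊗[k] M) :
    (TensorProduct.comm k M B).symm (b • p) =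
      (LinearMap.mulLeft k b).lTensor M ((TensorProduct.comm k M B).symm p) := by
  induction p using TensorProduct.induction_on with
  | zero => simp
  | add p q hp hq => simp only [smul_add, map_add, hp, hq]
  | tmul c n => simp [TensorProduct.smul_tmul']

theorem comm_mem_baseChange_iff {B : Type u} [CommRing B] [Algebra k B] (W : Submodule k M)
    (x : M ⊗[k] B) :
    TensorProduct.comm k M B x ∈ W.baseChange B ↔
      x ∈ LinearMap.range (W.subtype.rTensor B) := by
  constructor
  · intro hx
    rw [Submodule.baseChange_eq_span] at hx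
    suffices h : ∀ y ∈ Submodule.span B ((W.map (TensorProduct.mk k B M 1) : Set (B ⊗[k] M))),
        (TensorProduct.comm k M B).symm y ∈ LinearMap.range (W.subtype.rTensor B) by
      simpa using h _ hx
    intro y hy
    induction hy using Submodule.span_induction with
    | mem z hz =>
      obtain ⟨w, hw, rfl⟩ := hz
      exact ⟨⟨w, hw⟩ ⊗ₜ[k] 1, by simp⟩
    | zero => simp
    | add p q _ _ hp hq => rw [map_add]; exact add_mem hp hq
    | smul b p _ hp =>
      obtain ⟨z, hz⟩ := hp
      refine ⟨(LinearMap.mulLeft k b).lTensor W z, ?_⟩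
      rw [show (TensorProduct.comm k M B).symm (b • p) =
          (LinearMap.mulLeft k b).lTensor M ((TensorProduct.comm k M B).symm p) from ?_, ← hz]
      · clear hz
        induction z using TensorProduct.induction_on with
        | zero => simp
        | add p q hp hq => simp only [map_add, hp, hq]
        | tmul n c => simp
      · exact comm_symm_smul b p
  · rintro ⟨z, rfl⟩
    induction z using TensorProduct.induction_on with
    | zero => simp
    | add p q hp hq => simp only [map_add]; exact add_mem hp hq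
    | tmul w c =>
      rw [LinearMap.rTensor_tmul, TensorProduct.comm_tmul]
      exact Submodule.tmul_mem_baseChange_of_mem c w.2

theorem isStable_iff {A' : Type u} [CommRing A'] [HopfAlgebra k A']
    {H : Over (Spec (CommRingCat.of k))} [GrpObj H] (ψ' : sp k A' ≅ H) [IsMonHom ψ'.hom]
    (i : H ⟶ G) (W : Submodule k M) :
    ρ.IsStable i W ↔ ∀ w ∈ W, (pull ψ ψ' i).toLinearMap.lTensor M (coactOf ψ ρ w) ∈
      LinearMap.range (W.subtype.rTensor A') := by
  constructor
  · intro h w hw
    have h1 := h A' (e ψ' A' (toConv (AlgHom.id k A'))) w hw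
    rw [e_comp ψ, rho_eq, one_smul, ofConv_toConv, ofConv_toConv, AlgHom.id_comp] at h1
    exact (comm_mem_baseChange_iff W _).1 h1
  · intro h B _ _ g w hw
    obtain ⟨f, rfl⟩ := (e ψ' B).surjective g
    rw [e_comp ψ, rho_eq, one_smul, ofConv_toConv]
    refine (comm_mem_baseChange_iff W _).2 ?_
    rw [AlgHom.comp_toLinearMap, LinearMap.lTensor_comp, LinearMap.comp_apply]
    obtain ⟨z, hz⟩ := h w hw
    refine ⟨f.ofConv.toLinearMap.lTensor W z, ?_⟩
    simp only [LinearMap.comp_apply]
    rw [← hz]
    clear hz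
    induction z using TensorProduct.induction_on with
    | zero => simp
    | add p q hp hq => simp only [map_add, hp, hq]
    | tmul n c => simp

theorem isStable_id_iff (W : Submodule k M) :
    ρ.IsStable (𝟙 G) W ↔ @HopfRep.IsSubcomod k A _ _ _ _ M _ _ (toComod ψ ρ) W := by
  rw [isStable_iff ψ ρ ψ]
  have : pull ψ ψ (𝟙 G) = AlgHom.id k A := by
    rw [pull, Category.comp_id, MulEquiv.symm_apply_apply, ofConv_toConv]
  simp only [this, AlgHom.toLinearMap_id, LinearMap.lTensor_id, LinearMap.id_apply]
  rfl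

end Fixed

section Trans

/-- The pair of a point of the group and a point of a test scheme, in coordinates. -/
def pairIso (B : Type u) [CommRing B] [Algebra k B] :
    VecGrp.pt k (A ⊗[k] B) ⟶ G ⊗ VecGrp.pt k B :=
  lift (e ψ _ (toConv Algebra.TensorProduct.includeLeft))
    (VecGrp.ptMap Algebra.TensorProduct.includeRight)

theorem pairIso_appTop_injective (B : Type u) [CommRing B] [Algebra k B] :
    Function.Injective (pairIso ψ B).left.appTop.hom := by
  suffices IsIso (pairIso ψ B).left from @appTop_injective _ _ _ this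
  let w : G ⊗ VecGrp.pt k B ≅ sp k A ⊗ VecGrp.pt k B := whiskerRightIso ψ.symm (VecGrp.pt k B)
  have : IsIso w.hom.left := ((Over.forget _).mapIso w).isIso_hom
  have hpw : (pairIso ψ B).left ≫ w.hom.left = (pullbackSpecIso k A B).inv := by
    apply pullback.hom_ext
    · refine Eq.trans ?_ (pullbackSpecIso_inv_fst k A B).symm
      change ((pairIso ψ B).left ≫ w.hom.left) ≫ (fst (sp k A) (VecGrp.pt k B)).left = _
      have : pairIso ψ B ≫ w.hom ≫ fst (sp k A) (VecGrp.pt k B) =
          e ψ _ (toConv Algebra.TensorProduct.includeLeft) ≫ ψ.inv := by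
        simp [w, pairIso]
      rw [Category.assoc, ← Over.comp_left, ← Over.comp_left, this, Over.comp_left, e_left,
        Category.assoc]
      change _ ≫ (sch ψ).hom ≫ (sch ψ).inv = _
      rw [Iso.hom_inv_id]
      exact Category.comp_id _
    · refine Eq.trans ?_ (pullbackSpecIso_inv_snd k A B).symm
      change ((pairIso ψ B).left ≫ w.hom.left) ≫ (snd (sp k A) (VecGrp.pt k B)).left = _
      have : pairIso ψ B ≫ w.hom ≫ snd (sp k A) (VecGrp.pt k B) =
          VecGrp.ptMap Algebra.TensorProduct.includeRight := by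
        simp [w, pairIso]
      rw [Category.assoc, ← Over.comp_left, ← Over.comp_left, this]
      rfl
  have : IsIso ((pairIso ψ B).left ≫ w.hom.left) := by rw [hpw]; infer_instance
  exact IsIso.of_isIso_comp_right _ w.hom.left

theorem isRTransInv_pt {B : Type u} [CommRing B] [Algebra k B] (f : WithConv (A →ₐ[k] B)) (a : A) :
    AGF.IsRTransInv (e ψ B f) (fn ψ a) ↔
      f.ofConv.toLinearMap.lTensor A (CoalgebraStruct.comul (R := k) a) = a ⊗ₜ[k] (1 : B) := by
  let l : WithConv (A →ₐ[k] A ⊗[k] B) := toConv Algebra.TensorProduct.includeLeft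
  let r : WithConv (A →ₐ[k] A ⊗[k] B) :=
    toConv ((Algebra.TensorProduct.includeRight).comp f.ofConv)
  have h1 : pairIso ψ B ≫ (G ◁ e ψ B f) ≫ μ[G] = e ψ _ (l * r) := by
    rw [← Category.assoc, pairIso, lift_whiskerLeft, e_natural, map_mul, Hom.mul_def]
  have h2 : pairIso ψ B ≫ fst G (VecGrp.pt k B) = e ψ _ l := lift_fst _ _
  have h3 := appTop_fn ψ (l * r) a
  have h4 := appTop_fn ψ l a
  rw [← h1, Over.comp_left, Scheme.Hom.comp_appTop] at h3
  rw [← h2, Over.comp_left, Scheme.Hom.comp_appTop] at h4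
  have e1 : (l * r).ofConv a =
      f.ofConv.toLinearMap.lTensor A (CoalgebraStruct.comul (R := k) a) := by
    rw [AlgHom.convMul_apply]
    generalize CoalgebraStruct.comul (R := k) a = z
    induction z using TensorProduct.induction_on with
    | zero => simp
    | add p q hp hq => simp only [map_add, hp, hq]
    | tmul p q => simp [l, r]
  rw [e1] at h3
  have hinj : Function.Injective (Scheme.ΓSpecIso (CommRingCat.of (A ⊗[k] B))).inv.hom :=
    (ConcreteCategory.bijective_of_isIso (Scheme.ΓSpecIso (CommRingCat.of (A ⊗[k] B))).inv).1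
  constructor
  · intro h
    apply hinj
    rw [← h3]
    exact (congrArg (pairIso ψ B).left.appTop.hom h).trans h4
  · intro h
    apply pairIso_appTop_injective ψ B
    refine h3.trans ?_
    rw [h]
    exact h4.symm

theorem isRTransInv_iso_comp {T T' : Over (Spec (CommRingCat.of k))} (v : T' ≅ T) (g : T ⟶ G)
    (f : Γ(G.left, ⊤)) : AGF.IsRTransInv (v.hom ≫ g) f ↔ AGF.IsRTransInv g f := by
  have hiso : IsIso (G ◁ v.hom).left := ((Over.forget _).mapIso (whiskerLeftIso G v)).isIso_hom
  have hinj := @appTop_injective _ _ (G ◁ v.hom).left hiso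
  have e1 : ((G ◁ (v.hom ≫ g)) ≫ μ[G]).left.appTop.hom f =
      (G ◁ v.hom).left.appTop.hom (((G ◁ g) ≫ μ[G]).left.appTop.hom f) := by
    rw [MonoidalCategory.whiskerLeft_comp, Category.assoc, Over.comp_left, Scheme.Hom.comp_appTop]
    rfl
  have e2 : (fst G T').left.appTop.hom f =
      (G ◁ v.hom).left.appTop.hom ((fst G T).left.appTop.hom f) := by
    rw [← whiskerLeft_fst G v.hom, Over.comp_left, Scheme.Hom.comp_appTop]
    rfl
  change ((G ◁ (v.hom ≫ g)) ≫ μ[G]).left.appTop.hom f = (fst G T').left.appTop.hom f ↔ _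
  rw [e1, e2]
  exact hinj.eq_iff

theorem isRTransInv_iff {A' : Type u} [CommRing A'] [HopfAlgebra k A']
    {H : Over (Spec (CommRingCat.of k))} [GrpObj H] (ψ' : sp k A' ≅ H) [IsMonHom ψ'.hom]
    (i : H ⟶ G) (a : A) :
    AGF.IsRTransInv i (fn ψ a) ↔
      (pull ψ ψ' i).toLinearMap.lTensor A (CoalgebraStruct.comul (R := k) a) =
        a ⊗ₜ[k] (1 : A') := by
  have h : e ψ' A' (toConv (AlgHom.id k A')) = ψ'.hom := e_id ψ'
  have h2 := e_comp ψ ψ' i (toConv (AlgHom.id k A'))
  rw [ofConv_toConv, AlgHom.id_comp] at h2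
  rw [← isRTransInv_iso_comp ψ' i, show ψ'.hom ≫ i = e ψ A' (toConv (pull ψ ψ' i)) from
      (congrArg (· ≫ i) h.symm).trans h2]
  exact isRTransInv_pt ψ (toConv (pull ψ ψ' i)) a

end Trans

section Props
include ψ

theorem finiteType [LocallyOfFiniteType G.hom] : Algebra.FiniteType k A := by
  have h : LocallyOfFiniteType (Spec.map (CommRingCat.ofHom (algebraMap k A))) := by
    have : Spec.map (CommRingCat.ofHom (algebraMap k A)) = (sch ψ).hom ≫ G.hom :=
      (Over.w ψ.hom).symm
    rw [this]
    infer_instance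
  rw [HasRingHomProperty.Spec_iff (P := @LocallyOfFiniteType)] at h
  exact RingHom.finiteType_algebraMap.1 h

theorem isReduced [Smooth G.hom] : IsReduced A := by
  have : AlgebraicGeometry.IsReduced G.left := AlgGrp79.isReduced_of_smooth G.hom
  exact isReduced_of_injective (fn ψ).toRingHom (fn ψ).injective

theorem connected [ConnectedSpace G.left] : ∀ a : A, IsIdempotentElem a → a = 0 ∨ a = 1 := by
  have : ConnectedSpace (Spec (CommRingCat.of A) :) :=
    (sch ψ).inv.homeomorph.surjective.connectedSpace (sch ψ).inv.homeomorph.continuous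
  intro a ha
  have hcl : IsClopen (X := PrimeSpectrum A) (PrimeSpectrum.basicOpen a) :=
    PrimeSpectrum.isClopen_iff.2 ⟨a, ha, rfl⟩
  have : ConnectedSpace (PrimeSpectrum A) := this
  rcases isClopen_iff.1 hcl with h | h
  · left
    refine ha.eq_zero_of_isNilpotent ?_
    rw [← PrimeSpectrum.basicOpen_eq_bot_iff]
    exact TopologicalSpace.Opens.ext h
  · right
    refine IsIdempotentElem.iff_eq_one_of_isUnit ?_ |>.1 ha
    by_contra hu
    obtain ⟨m, hm, ham⟩ := exists_max_ideal_of_mem_nonunits hu
    have h1 : (⟨m, hm.isPrime⟩ : PrimeSpectrum A) ∈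
        (PrimeSpectrum.basicOpen a : Set (PrimeSpectrum A)) := h ▸ Set.mem_univ _
    exact h1 ham

end Props

end Groth.Agent.GMod80
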