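import Groth.Agent.GMod80.Coord
import Groth.Agent.Comod33.MatrixRep
import Groth.Prelude.Def_GLin4
import Mathlib.RingTheory.Smooth.Basic
import Mathlib.AlgebraicGeometry.Morphisms.Smooth

/-!
The general linear group as a target of matrix representations.
-/

set_option autoImplicit false
set_option linter.unusedSectionVars false
set_option linter.style.haveILetI false

universe u v

open CategoryTheory MonoidalCategory CartesianMonoidalCategory MonObj GrpObj AlgebraicGeometry
open scoped TensorProduct
open WithConv TensorProduct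

noncomputable section

namespace Groth.Agent.GMod80

open CoordGrp

variable {k : Type u} [Field k] {n : ℕ}

theorem gl_ext {B : Type u} [CommRing B] [Algebra k B] {f g : GLn n k →ₐ[k] B}
    (h : ∀ i j, f (GLn.X i j) = g (GLn.X i j)) : f = g := by
  refine GLn.algHom_ext h ?_
  have hdet : f GLn.det = g GLn.det := by
    rw [GLn.det_eq, AlgHom.map_det, AlgHom.map_det]
    congr 1
    ext i j
    exact h i j
  have h1 : f GLn.Dinv * f GLn.det = 1 := by rw [← map_mul, GLn.Dinv_mul_det, map_one]
  have h2 : g GLn.Dinv * g GLn.det = 1 := by rw [← map_mul, GLn.Dinv_mul_det, map_one]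
  rw [← hdet] at h2
  calc f GLn.Dinv = f GLn.Dinv * (g GLn.Dinv * f GLn.det) := by rw [h2, _root_.mul_one]
    _ = g GLn.Dinv * (f GLn.Dinv * f GLn.det) := by ring
    _ = g GLn.Dinv := by rw [h1, _root_.mul_one]

instance gl_smooth : Algebra.Smooth k (GLn n k) := by
  haveI : Algebra.FinitePresentation k (GLb n k) :=
    inferInstanceAs (Algebra.FinitePresentation k (MvPolynomial (GLPoly.Idx n) k))
  haveI : Algebra.FinitePresentation k (GLn n k) :=
    Algebra.FinitePresentation.quotient (Submodule.fg_span_singleton (GLb.rel n k))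
  refine ⟨Algebra.FormallySmooth.of_comp_surjective fun B _ _ I hI f => ?_, this⟩
  choose M hM using fun i j => Ideal.Quotient.mk_surjective (f (GLn.X i j))
  have hdet : Ideal.Quotient.mk I (Matrix.det (Matrix.of M)) = f GLn.det := by
    rw [RingHom.map_det, GLn.det_eq, AlgHom.map_det]
    congr 1
    ext i j
    exact hM i j
  have hu : IsUnit (Matrix.det (Matrix.of M)) := by
    obtain ⟨d, hd⟩ := Ideal.Quotient.mk_surjective (I := I) (f GLn.Dinv)
    have h1 : Ideal.Quotient.mk I (d * Matrix.det (Matrix.of M)) = 1 := by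
      rw [map_mul, hd, hdet, ← map_mul, GLn.Dinv_mul_det, map_one]
    have h2 : d * Matrix.det (Matrix.of M) - 1 ∈ I := by
      rw [← Ideal.Quotient.eq_zero_iff_mem, map_sub, h1, map_one, sub_self]
    have h3 : IsNilpotent (d * Matrix.det (Matrix.of M) - 1) :=
      ⟨2, by
        have := Ideal.pow_mem_pow h2 2
        rwa [hI, Ideal.mem_bot] at this⟩
    have h4 := h3.isUnit_add_one
    rw [sub_add_cancel] at h4
    exact isUnit_of_mul_isUnit_right h4
  refine ⟨GLn.pt n k (Matrix.of M) ↑(hu.unit⁻¹) (IsUnit.mul_val_inv hu), gl_ext fun i j => ?_⟩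
  rw [AlgHom.comp_apply, GLn.pt_X]
  exact hM i j

instance sp_gl_smooth : Smooth (sp k (GLn n k)).hom := by
  change Smooth (Spec.map (CommRingCat.ofHom (algebraMap k (GLn n k))))
  rw [HasRingHomProperty.Spec_iff (P := @Smooth)]
  exact RingHom.smooth_algebraMap.2 inferInstance

section Hom

variable {A : Type u} [CommRing A] [HopfAlgebra k A] {c : Fin n → Fin n → A}
  (hc : Comod33.Mat.IsRep (k := k) c)

include hc in
theorem isUnit_det : IsUnit (Matrix.det (Comod33.Mat.ev (AlgHom.id k A) c)) := by
  let S : A →ₐ[k] A := HopfAlgebra.antipodeAlgHom k A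
  have h := Comod33.Mat.ev_mul hc S (AlgHom.id k A)
  have h1 : toConv S * toConv (AlgHom.id k A) = 1 := by
    apply WithConv.ofConv_injective
    refine AlgHom.ext fun a => ?_
    rw [AlgHom.convMul_apply]
    change _ = algebraMap k A (CoalgebraStruct.counit (R := k) a)
    rw [← HopfAlgebra.mul_antipode_rTensor_comul_apply (R := k) a]
    generalize CoalgebraStruct.comul (R := k) a = z
    induction z using TensorProduct.induction_on with
    | zero => simp
    | add p q hp hq => simp only [map_add, hp, hq]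
    | tmul p q => simp [S]
  rw [h1, Comod33.Mat.ev_one hc] at h
  have h2 := congrArg Matrix.det h
  rw [Matrix.det_one, Matrix.det_mul] at h2
  exact isUnit_of_mul_isUnit_right (h2.symm ▸ isUnit_one)

/-- The map of coordinates of a matrix representation. -/
def repBialg : GLn n k →ₐc[k] A :=
  .ofAlgHom (GLn.pt n k (Comod33.Mat.ev (AlgHom.id k A) c) ↑((isUnit_det hc).unit⁻¹)
      (IsUnit.mul_val_inv (isUnit_det hc)))
    (gl_ext fun i j => by
      simp only [AlgHom.comp_apply, Bialgebra.counitAlgHom_apply]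
      rw [GLn.pt_X, GLn.counit_X, Comod33.Mat.ev_apply, AlgHom.id_apply, hc.counit])
    (gl_ext fun i j => by
      simp only [AlgHom.comp_apply, Bialgebra.comulAlgHom_apply]
      rw [GLn.pt_X, GLn.comul_X, Comod33.Mat.ev_apply, AlgHom.id_apply, hc.comul, map_sum]
      simp [Comod33.Mat.ev_apply])

theorem repBialg_X (i j : Fin n) : repBialg hc (GLn.X i j) = c i j :=
  GLn.pt_X _ _ (IsUnit.mul_val_inv (isUnit_det hc)) i j

end Hom

section SpecHom

variable {A : Type u} [CommRing A] [HopfAlgebra k A] {B : Type u} [CommRing B] [HopfAlgebra k B]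

/-- The homomorphism of group schemes of a map of bialgebras. -/
def spHom (φ : B →ₐc[k] A) : sp k A ⟶ sp k B :=
  Spec.mapMulEquiv (toConv (φ : B →ₐ[k] A))

instance (φ : B →ₐc[k] A) : IsMonHom (spHom φ) :=
  inferInstanceAs (IsMonHom ((bialgSpec (CommRingCat.of k)).map (CommBialgCat.ofHom φ).op).hom)

theorem spHom_left (φ : B →ₐc[k] A) :
    (spHom φ).left = Spec.map (CommRingCat.ofHom (φ : B →ₐ[k] A).toRingHom) := rfl

theorem comp_spHom {T : Type u} [CommRing T] [Algebra k T] (φ : B →ₐc[k] A)
    (f : WithConv (A →ₐ[k] T)) :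
    Spec.mapMulEquiv f ≫ spHom φ = Spec.mapMulEquiv (toConv (f.ofConv.comp (φ : B →ₐ[k] A))) := by
  apply Over.OverMorphism.ext
  change Spec.map _ ≫ Spec.map _ = Spec.map _
  rw [← Spec.map_comp]
  rfl

end SpecHom

end Groth.Agent.GMod80
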