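import Groth.Agent.GMod80.Inv
import Mathlib.RingTheory.Flat.Basic

/-!
Actions by algebra automorphisms as comodule algebras; translations.
-/

set_option autoImplicit false
set_option linter.unusedSectionVars false
set_option linter.style.haveILetI false

universe u v

open CategoryTheory MonoidalCategory CartesianMonoidalCategory MonObj GrpObj AlgebraicGeometry
open scoped TensorProduct
open WithConv TensorProduct

noncomputable section

namespace Groth.Agent.GMod80

variable {k : Type u} [Field k] {A : Type u} [CommRing A] [HopfAlgebra k A]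

section Mult

variable {G : Over (Spec (CommRingCat.of k))} [GrpObj G] (ψ : sp k A ≅ G) [IsMonHom ψ.hom]
  {R : Type u} [CommRing R] [Algebra k R]

theorem comm_eq (B : Type u) [CommRing B] [Algebra k B] (z : R ⊗[k] B) :
    TensorProduct.comm k R B z = Algebra.TensorProduct.comm k R B z := by
  induction z using TensorProduct.induction_on with
  | zero => simp
  | add p q hp hq => simp only [map_add, hp, hq]
  | tmul p q => simp

theorem isMult_ofComod (c : HopfRep.Comod k A R) (hmul : ∀ x y, c.coact (x * y) = c.coact x * c.coact y)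
    (hone : c.coact 1 = 1) : (ofComod ψ c).IsMult := by
  intro B _ _ g
  obtain ⟨f, rfl⟩ := (e ψ B).surjective g
  have happ : ∀ r, app c.coact f.ofConv r =
      Algebra.TensorProduct.comm k R B (Algebra.TensorProduct.map (AlgHom.id k R) f.ofConv (c.coact r)) :=
    fun r => by
      rw [← comm_eq]
      change TensorProduct.comm k R B (f.ofConv.toLinearMap.lTensor R (c.coact r)) = _
      congr 1
  constructor
  · intro x y
    induction x using TensorProduct.induction_on with
    | zero => simp
    | add p q hp hq => simp only [add_mul, map_add, hp, hq]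
    | tmul b r =>
      induction y using TensorProduct.induction_on with
      | zero => simp
      | add p q hp hq => simp only [mul_add, map_add, hp, hq]
      | tmul b' r' =>
        rw [Algebra.TensorProduct.tmul_mul_tmul, ofComod_apply, ofComod_apply, ofComod_apply,
          happ, happ, happ, hmul, map_mul, map_mul, smul_mul_smul_comm]
  · rw [Algebra.TensorProduct.one_def, ofComod_apply, happ, hone, map_one, map_one, one_smul]
    rfl

theorem coactOf_mul (ρ : VecGrp.GMod G R) (hρ : ρ.IsMult) (x y : R) :
    coactOf ψ ρ (x * y) = coactOf ψ ρ x * coactOf ψ ρ y := by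
  have h := (hρ A (e ψ A (toConv (AlgHom.id k A)))).1 ((1 : A) ⊗ₜ[k] x) ((1 : A) ⊗ₜ[k] y)
  rw [Algebra.TensorProduct.tmul_mul_tmul, _root_.one_mul] at h
  change TensorProduct.comm k A R (ρ.ρ A (e ψ A (toConv (AlgHom.id k A))) ((1 : A) ⊗ₜ[k] (x * y))) =
    TensorProduct.comm k A R (ρ.ρ A (e ψ A (toConv (AlgHom.id k A))) ((1 : A) ⊗ₜ[k] x)) *
    TensorProduct.comm k A R (ρ.ρ A (e ψ A (toConv (AlgHom.id k A))) ((1 : A) ⊗ₜ[k] y))
  rw [h, comm_eq, comm_eq, comm_eq, map_mul]

theorem coactOf_one (ρ : VecGrp.GMod G R) (hρ : ρ.IsMult) : coactOf ψ ρ 1 = 1 := by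
  have h := (hρ A (e ψ A (toConv (AlgHom.id k A)))).2
  rw [Algebra.TensorProduct.one_def] at h
  change TensorProduct.comm k A R (ρ.ρ A (e ψ A (toConv (AlgHom.id k A))) ((1 : A) ⊗ₜ[k] (1 : R))) = _
  rw [h, TensorProduct.comm_tmul, Algebra.TensorProduct.one_def]

end Mult

section Transl

/-- The constant endomorphism at a rational point. -/
def cst (f : WithConv (A →ₐ[k] k)) : WithConv (A →ₐ[k] A) :=
  toConv ((Algebra.ofId k A).comp f.ofConv)

theorem cst_one : cst (1 : WithConv (A →ₐ[k] k)) = 1 := by
  apply WithConv.ofConv_injective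
  ext a
  rfl

theorem cst_mul (f g : WithConv (A →ₐ[k] k)) : cst (f * g) = cst f * cst g := by
  apply WithConv.ofConv_injective
  exact AlgHom.comp_convMul_distrib (Algebra.ofId k A) f g

/-- Left translation by a rational point, on functions. -/
def ltr (f : WithConv (A →ₐ[k] k)) : A →ₐ[k] A := (cst f * toConv (AlgHom.id k A)).ofConv

theorem ltr_ltr (f g : WithConv (A →ₐ[k] k)) : (ltr f).comp (ltr g) = ltr (g * f) := by
  change (ltr f).comp (cst g * toConv (AlgHom.id k A)).ofConv = _
  rw [AlgHom.comp_convMul_distrib]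
  have h1 : (toConv ((ltr f).comp (cst g).ofConv) : WithConv (A →ₐ[k] A)) = cst g := by
    apply WithConv.ofConv_injective
    ext a
    exact (ltr f).commutes _
  rw [h1]
  change (cst g * toConv (ltr f)).ofConv = _
  rw [ltr, toConv_ofConv, ← _root_.mul_assoc, ← cst_mul]
  rfl

theorem ltr_one : ltr (1 : WithConv (A →ₐ[k] k)) = AlgHom.id k A := by
  rw [ltr, cst_one, _root_.one_mul, ofConv_toConv]

theorem point_comp_ltr (p f : WithConv (A →ₐ[k] k)) :
    toConv (p.ofConv.comp (ltr f)) = f * p := by
  apply WithConv.ofConv_injective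
  change p.ofConv.comp (cst f * toConv (AlgHom.id k A)).ofConv = _
  rw [AlgHom.comp_convMul_distrib]
  congr 2
  · apply WithConv.ofConv_injective
    ext a
    exact p.ofConv.commutes _

theorem comulAlgHom_eq_lr : toConv (Bialgebra.comulAlgHom k A) =
    toConv (Algebra.TensorProduct.includeLeft : A →ₐ[k] A ⊗[k] A) *
      toConv Algebra.TensorProduct.includeRight := by
  apply WithConv.ofConv_injective
  refine AlgHom.ext fun a => ?_
  rw [AlgHom.convMul_apply]
  simp only [Bialgebra.comulAlgHom_apply]
  generalize CoalgebraStruct.comul (R := k) a = z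
  induction z using TensorProduct.induction_on with
  | zero => simp
  | add p q hp hq => simp only [map_add]; rw [← hp, ← hq]
  | tmul p q => simp

theorem comul_ltr (f : WithConv (A →ₐ[k] k)) :
    (Bialgebra.comulAlgHom k A).comp (ltr f) =
      (Algebra.TensorProduct.map (ltr f) (AlgHom.id k A)).comp (Bialgebra.comulAlgHom k A) := by
  apply WithConv.toConv_injective
  let c : WithConv (A →ₐ[k] A ⊗[k] A) := toConv ((Algebra.ofId k (A ⊗[k] A)).comp f.ofConv)
  let l : WithConv (A →ₐ[k] A ⊗[k] A) := toConv Algebra.TensorProduct.includeLeft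
  let r : WithConv (A →ₐ[k] A ⊗[k] A) := toConv Algebra.TensorProduct.includeRight
  have h1 : toConv ((Bialgebra.comulAlgHom k A).comp (ltr f)) = c * (l * r) := by
    rw [ltr, AlgHom.comp_convMul_distrib, toConv_ofConv, ← comulAlgHom_eq_lr]
    congr 2
    ext a
    exact (Bialgebra.comulAlgHom k A).commutes _
  have h2 : toConv ((Algebra.TensorProduct.map (ltr f) (AlgHom.id k A)).comp
      (Bialgebra.comulAlgHom k A)) = c * l * r := by
    have hl : (Algebra.TensorProduct.map (ltr f) (AlgHom.id k A)).comp l.ofConv =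
        (Algebra.TensorProduct.includeLeft : A →ₐ[k] A ⊗[k] A).comp (ltr f) := by ext a; simp [l]
    have hr : toConv ((Algebra.TensorProduct.map (ltr f) (AlgHom.id k A)).comp r.ofConv) = r := by
      apply WithConv.ofConv_injective; ext a; simp [r]
    have hlr : Bialgebra.comulAlgHom k A = (l * r).ofConv :=
      congrArg WithConv.ofConv (comulAlgHom_eq_lr (k := k) (A := A))
    rw [hlr, AlgHom.comp_convMul_distrib, toConv_ofConv, hl, hr, ltr, AlgHom.comp_convMul_distrib,
      toConv_ofConv]
    congr 2
  rw [h1, h2, _root_.mul_assoc]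

theorem ker_rTensor {V W : Type u} [AddCommGroup V] [Module k V] [AddCommGroup W] [Module k W]
    (q : V →ₗ[k] W) (B : Type u) [AddCommGroup B] [Module k B] (x : V ⊗[k] B)
    (hx : q.rTensor B x = 0) : x ∈ LinearMap.range ((LinearMap.ker q).subtype.rTensor B) :=
  (Module.Flat.rTensor_exact B (LinearMap.exact_subtype_ker_map q) x).1 hx

end Transl

end Groth.Agent.GMod80
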