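import Groth.Agent.GMod80.GLHom
import Groth.Agent.GMod80.Alg
import Groth.Agent.RedPts82.Points
import Groth.Agent.RedPts82.TorusBasic
import Groth.Agent.Unip38.Criterion
import Groth.Prelude.Def_Par
import Mathlib.AlgebraicGeometry.Morphisms.IsIso

/-!
A connected group without subtori is unipotent.
-/

set_option autoImplicit false
set_option linter.unusedSectionVars false
set_option linter.style.haveILetI false

universe u v

open CategoryTheory MonoidalCategory CartesianMonoidalCategory MonObj GrpObj AlgebraicGeometry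
open CategoryTheory.Limits
open scoped TensorProduct
open WithConv TensorProduct

noncomputable section

namespace Groth.Agent.GMod80

open RedPts82

/-- The base change of a diagonalisable group is diagonalisable. -/
theorem nonempty_bc_DS_iso {S U : Scheme.{u}} (g : U ⟶ S) {M N : Type} [AddCommGroup M]
    [AddCommGroup N] (φ : M ≃+ N) :
    Nonempty (Grp.mk (Red.bc g (Red.DS S M)) ≅ Grp.mk (Red.DS U N)) := by
  let c : Multiplicative N →* Γ((Red.bc g (Red.DS S M)).left, ⊤) :=
    { toFun := fun n => dsFn (X := (Over.map g).obj (Red.bc g (Red.DS S M)))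
        (toBase g (𝟙 _)) (φ.symm (Multiplicative.toAdd n))
      map_one' := by simp only [toAdd_one, map_zero, dsFn_zero]
      map_mul' := fun a b => by simp only [toAdd_mul, map_add, dsFn_add] }
  obtain ⟨gam, hgam⟩ := dsFn_surjective (S := U) (X := Red.bc g (Red.DS S M)) c
  have key : ∀ (X : Over U) (x : X ⟶ Red.bc g (Red.DS S M)) (n : N),
      (dsFn (x ≫ gam) n : Γ(X.left, ⊤)) = dsFn (toBase g x) (φ.symm n) := by
    intro X x n
    rw [dsFn_comp, hgam]
    conv_rhs => rw [show x = x ≫ 𝟙 _ from (Category.comp_id x).symm, toBase_comp, dsFn_comp]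
    rfl
  let d : Multiplicative M →* Γ((Red.DS U N).left, ⊤) :=
    { toFun := fun m => dsFn (X := Red.DS U N) (𝟙 _) (φ (Multiplicative.toAdd m))
      map_one' := by simp only [toAdd_one, map_zero, dsFn_zero]
      map_mul' := fun a b => by simp only [toAdd_mul, map_add, dsFn_add] }
  obtain ⟨δ, hδ⟩ := dsFn_surjective (S := S) (X := (Over.map g).obj (Red.DS U N)) d
  have h1 : ofBase g δ ≫ gam = 𝟙 _ := by
    apply dsFn_injective
    intro n
    rw [key, toBase_ofBase, hδ]
    exact congrArg (dsFn (𝟙 (Red.DS U N))) (φ.apply_symm_apply n)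
  have h2 : Mono gam := ⟨fun {X} x y h => toBase_injective g (dsFn_injective fun m => by
    have := congrArg (fun q => dsFn q (φ m)) h
    simp only [key, φ.symm_apply_apply] at this
    exact this)⟩
  have hm : IsMonHom gam := isMonHom_of_points gam fun X x y => dsFn_injective fun n => by
    rw [dsFn_mul, key, key, key, toBase_mul, dsFn_mul]
  have : IsIso gam :=
    ⟨ofBase g δ, by rw [← cancel_mono gam, Category.assoc, h1, Category.comp_id, Category.id_comp], h1⟩
  exact ⟨Grp.mkIso (asIso gam) (by exact hm.one_hom) (by exact hm.mul_hom)⟩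

theorem isTorus_Gm (S : Scheme.{u}) : Red.IsTorus (Red.Gm S) := by
  refine ⟨S, 𝟙 S, inferInstance, inferInstance, fun V hV => ⟨V, hV.isCompact, by simp⟩,
    fun s => ⟨⊤, trivial, 1, ?_⟩⟩
  exact nonempty_bc_DS_iso _ (LinearEquiv.funUnique (Fin 1) ℤ ℤ).symm.toAddEquiv

variable {k : Type u} [Field k] {A : Type u} [CommRing A] [HopfAlgebra k A]
  {U : Over (Spec (CommRingCat.of k))} [GrpObj U] (ψ : sp k A ≅ U) [IsMonHom ψ.hom]

include ψ in
theorem not_surjective_to_Gm
    (h : ∀ (j : Red.Gm (Spec (CommRingCat.of k)) ⟶ U), IsMonHom j → Mono j →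
      IsIso (Red.Gm (Spec (CommRingCat.of k))).hom)
    (φ : A →ₐc[k] MonoidAlgebra k Unip38.Zm) : ¬ Function.Surjective φ := by
  intro hφ
  let T := Red.Gm (Spec (CommRingCat.of k))
  haveI : IsAffine T.left := by
    haveI := RedPts82.isAffineHom_DS (Spec (CommRingCat.of k)) ℤ
    exact isAffine_of_isAffineHom T.hom
  obtain ⟨B, _, _, ψd, _⟩ := exists_coord T
  let val : ∀ {R : Type u} [CommRing R] [Algebra k R], (WithConv (B →ₐ[k] R)) → ℤ → R :=
    fun {R} _ _ f m => (Scheme.ΓSpecIso (CommRingCat.of R)).hom.hom (dsFn (e ψd R f) m)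
  have vnat : ∀ {R R' : Type u} [CommRing R] [Algebra k R] [CommRing R'] [Algebra k R']
      (q : R →ₐ[k] R') (f : WithConv (B →ₐ[k] R)) (m : ℤ),
      val (toConv (q.comp f.ofConv)) m = q (val f m) := by
    intro R R' _ _ _ _ q f m
    simp only [val]
    rw [← e_natural, dsFn_comp]
    exact congrArg (fun r => r.hom (dsFn (e ψd R f) m))
      (Scheme.ΓSpecIso_naturality (CommRingCat.ofHom q.toRingHom))
  have vadd : ∀ {R : Type u} [CommRing R] [Algebra k R] (f : WithConv (B →ₐ[k] R)) (m m' : ℤ),
      val f (m + m') = val f m * val f m' := fun f m m' => by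
    simp only [val, dsFn_add, map_mul]
  have vzero : ∀ {R : Type u} [CommRing R] [Algebra k R] (f : WithConv (B →ₐ[k] R)),
      val f 0 = 1 := fun f => by
    simp only [val, dsFn_zero, map_one]
  have vmul : ∀ {R : Type u} [CommRing R] [Algebra k R] (f f' : WithConv (B →ₐ[k] R)) (m : ℤ),
      val (f * f') m = val f m * val f' m := fun f f' m => by
    simp only [val, map_mul]
    exact (congrArg _ (dsFn_mul _ _ m)).trans (map_mul _ _ _)
  have vone : ∀ {R : Type u} [CommRing R] [Algebra k R] (m : ℤ),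
      val (1 : WithConv (B →ₐ[k] R)) m = 1 := fun m => by
    simp only [val, map_one]
    exact (congrArg _ (dsFn_one m)).trans (map_one _)
  have vinj : ∀ {R : Type u} [CommRing R] [Algebra k R] (f f' : WithConv (B →ₐ[k] R)),
      (∀ m, val f m = val f' m) → f = f' := fun {R} _ _ f f' hff =>
    (e ψd R).injective (dsFn_injective fun m =>
      (ConcreteCategory.bijective_of_isIso (Scheme.ΓSpecIso (CommRingCat.of R)).hom).1 (hff m))
  let u₀ : WithConv (B →ₐ[k] B) := toConv (AlgHom.id k B)
  let c : Unip38.Zm →* B :=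
    { toFun := fun m => val u₀ (Multiplicative.toAdd m)
      map_one' := vzero _
      map_mul' := fun a b => vadd _ _ _ }
  let θ₀ : MonoidAlgebra k Unip38.Zm →ₐ[k] B := MonoidAlgebra.lift k B Unip38.Zm c
  have hθ : ∀ (R : Type u) [CommRing R] [Algebra k R] (q : B →ₐ[k] R) (m : Unip38.Zm),
      q (θ₀ (MonoidAlgebra.single m 1)) = val (toConv q) (Multiplicative.toAdd m) := by
    intro R _ _ q m
    rw [show θ₀ (MonoidAlgebra.single m 1) = val u₀ (Multiplicative.toAdd m) by
      simp [θ₀, c]]
    exact (vnat q u₀ _).symm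
  let θ : MonoidAlgebra k Unip38.Zm →ₐc[k] B := BialgHom.ofAlgHom θ₀
    (MonoidAlgebra.algHom_ext (fun m => by
      change Bialgebra.counitAlgHom k B (θ₀ (MonoidAlgebra.single m 1)) = _
      rw [hθ]
      have h1 : (toConv (Bialgebra.counitAlgHom k B) : WithConv (B →ₐ[k] k)) = 1 := by
        apply WithConv.ofConv_injective; ext x; rfl
      rw [h1, vone]
      simp) (Subsingleton.elim _ _))
    (MonoidAlgebra.algHom_ext (fun m => by
      change _ = Bialgebra.comulAlgHom k B (θ₀ (MonoidAlgebra.single m 1))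
      rw [hθ, comulAlgHom_eq_lr, vmul, ← hθ, ← hθ]
      simp) (Subsingleton.elim _ _))
  obtain ⟨t, ht⟩ := dsFn_surjective (S := Spec (CommRingCat.of k))
    (X := VecGrp.pt k (MonoidAlgebra k Unip38.Zm)) (M := ℤ)
    ((Scheme.ΓSpecIso (CommRingCat.of (MonoidAlgebra k Unip38.Zm))).inv.hom.toMonoidHom.comp
      (MonoidAlgebra.of k Unip38.Zm))
  obtain ⟨eta, rfl⟩ := (e ψd _).surjective t
  have heta : ∀ m, val eta m = MonoidAlgebra.single (Multiplicative.ofAdd m) 1 := fun m => by
    simp only [val]
    rw [ht]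
    simp
  have hl : ∀ x, eta.ofConv (θ₀ x) = x := by
    intro x
    have : eta.ofConv.comp θ₀ = AlgHom.id k _ := MonoidAlgebra.algHom_ext (fun m => by
      rw [AlgHom.comp_apply, hθ, toConv_ofConv, heta]
      simp) (Subsingleton.elim _ _)
    exact DFunLike.congr_fun this x
  have hr : ∀ b, θ₀ (eta.ofConv b) = b := by
    intro b
    have : toConv (θ₀.comp eta.ofConv) = u₀ := vinj _ _ fun m => by
      rw [vnat, heta]
      simp [θ₀, c]
    exact congrArg (fun q : WithConv (B →ₐ[k] B) => q.ofConv b) this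
  have hθb : Function.Bijective θ :=
    ⟨fun x y hxy => by rw [← hl x, ← hl y]; exact congrArg eta.ofConv hxy, fun b => ⟨eta.ofConv b, hr b⟩⟩
  let χ : A →ₐc[k] B := θ.comp φ
  have hχ : Function.Surjective χ := hθb.2.comp hφ
  let j : T ⟶ U := ψd.inv ≫ spHom χ ≫ ψ.hom
  haveI : IsClosedImmersion (Spec.map (CommRingCat.ofHom (χ : A →ₐ[k] B).toRingHom)) :=
    IsClosedImmersion.spec_of_surjective _ hχ
  haveI : Mono (spHom χ) := by
    haveI : Mono ((Over.forget _).map (spHom χ)) :=
      inferInstanceAs (Mono (Spec.map (CommRingCat.ofHom (χ : A →ₐ[k] B).toRingHom)))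
    exact Functor.mono_of_mono_map (Over.forget _) inferInstance
  have htriv : IsIso T.hom := h j inferInstance inferInstance
  have hB : IsIso (Spec.map (CommRingCat.ofHom (algebraMap k B))) := by
    have e1 : Spec.map (CommRingCat.ofHom (algebraMap k B)) = (sch ψd).hom ≫ T.hom :=
      (Over.w ψd.hom).symm
    rw [e1]; infer_instance
  obtain ⟨r, hr'⟩ := ((isIso_SpecMap_iff).1 hB).2
    (θ₀ (MonoidAlgebra.single (Multiplicative.ofAdd (1 : ℤ)) 1))
  have h3 := congrArg eta.ofConv hr'
  rw [hl] at h3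
  change eta.ofConv (algebraMap k B r) = _ at h3
  rw [AlgHom.commutes, MonoidAlgebra.coe_algebraMap, Function.comp_apply] at h3
  have h4 := congrArg (fun x => x.coeff (Multiplicative.ofAdd (1 : ℤ))) h3
  simp [MonoidAlgebra.coeff_single] at h4

include ψ in
theorem isUnipotent_of_no_Gm [IsAlgClosed k] [IsAffine U.left] [Smooth U.hom]
    [ConnectedSpace U.left] (h : ∀ (j : Red.Gm (Spec (CommRingCat.of k)) ⟶ U), IsMonHom j → Mono j →
      IsIso (Red.Gm (Spec (CommRingCat.of k))).hom) : HopfRep.IsUnipotent k A := by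
  have := finiteType ψ
  have := isReduced ψ
  rcases Unip38.points_unipotent_or_Gm_of_connected (k := k) (connected ψ) with hp | ⟨φ, hφ⟩
  · exact Unip38.isUnipotent_of_points hp
  · exact absurd hφ (not_surjective_to_Gm ψ h φ)

include ψ in
theorem isUnipotent_of_hasNoSubtorus [IsAlgClosed k] [IsAffine U.left] [Smooth U.hom]
    [ConnectedSpace U.left] (h : Red.HasNoSubtorus k U) : HopfRep.IsUnipotent k A :=
  isUnipotent_of_no_Gm ψ fun j _ _ => h _ j (isTorus_Gm _)

theorem no_Gm_of_bc {K : Type u} [Field K] (g : Spec (CommRingCat.of K) ⟶ Spec (CommRingCat.of k))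
    [IsIso g] (h : Red.HasNoSubtorus K (Red.bc g U))
    (j : Red.Gm (Spec (CommRingCat.of k)) ⟶ U) (_ : IsMonHom j) (_ : Mono j) :
    IsIso (Red.Gm (Spec (CommRingCat.of k))).hom := by
  obtain ⟨e₀⟩ := nonempty_bc_DS_iso g (AddEquiv.refl ℤ)
  let e' : Red.bc g (Red.Gm (Spec (CommRingCat.of k))) ≅ Red.Gm (Spec (CommRingCat.of K)) :=
    (Grp.forget _).mapIso e₀
  haveI : IsMonHom e'.inv := e₀.inv.hom.isMonHom_hom
  haveI : Mono ((Over.pullback g).map j) := inferInstance
  have h1 : IsIso (Red.Gm (Spec (CommRingCat.of K))).hom :=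
    h _ (e'.inv ≫ (Over.pullback g).map j) (isTorus_Gm _)
  have h2 : IsIso (Red.bc g (Red.Gm (Spec (CommRingCat.of k)))).hom := by
    rw [← Over.w e'.hom]
    haveI : IsIso e'.hom.left := ((Over.forget _).mapIso e').isIso_hom
    infer_instance
  have h3 : pullback.fst (Red.Gm (Spec (CommRingCat.of k))).hom g ≫
      (Red.Gm (Spec (CommRingCat.of k))).hom =
      (Red.bc g (Red.Gm (Spec (CommRingCat.of k)))).hom ≫ g := pullback.condition
  haveI : IsIso (pullback.fst (Red.Gm (Spec (CommRingCat.of k))).hom g ≫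
      (Red.Gm (Spec (CommRingCat.of k))).hom) := by
    rw [h3]; infer_instance
  exact IsIso.of_isIso_comp_left (pullback.fst (Red.Gm (Spec (CommRingCat.of k))).hom g) _

theorem isIso_geomPt [IsAlgClosed k] (s : Spec (CommRingCat.of k)) : IsIso (Red.geomPt s) := by
  let F := (Spec (CommRingCat.of k)).fromSpecResidueField s
  have hcl : IsClosed (Set.range F) := by
    rw [Scheme.range_fromSpecResidueField]
    exact isClosed_discrete _
  haveI : IsClosedImmersion F := .of_isPreimmersion _ hcl
  obtain ⟨r, hr⟩ : ∃ r, Spec.map r = F := ⟨Spec.preimage _, Spec.map_preimage _⟩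
  haveI : IsClosedImmersion (Spec.map r) := by rw [hr]; infer_instance
  have hsurj : Function.Surjective r.hom := by
    intro y
    obtain ⟨z, hz⟩ := (IsClosedImmersion.isAffine_surjective_of_isAffine (f := Spec.map r)).2
      ((Scheme.ΓSpecIso _).inv.hom y)
    refine ⟨(Scheme.ΓSpecIso _).hom.hom z, ?_⟩
    have h1 := congrArg (fun q => q.hom z) (Scheme.ΓSpecIso_naturality r)
    simp only [CommRingCat.hom_comp, RingHom.comp_apply] at h1
    rw [← h1, hz]
    exact congrArg (fun q => q.hom y) (Scheme.ΓSpecIso _).inv_hom_id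
  have hb : Function.Bijective r.hom := ⟨r.hom.injective, hsurj⟩
  haveI : IsAlgClosed ((Spec (CommRingCat.of k)).residueField s) :=
    IsAlgClosed.of_ringEquiv k _ (RingEquiv.ofBijective r.hom hb)
  rw [Red.geomPt, show (Spec (CommRingCat.of k)).fromSpecResidueField s = Spec.map r from hr.symm,
    ← Spec.map_comp, isIso_SpecMap_iff]
  exact Function.Bijective.comp (g := algebraMap ((Spec (CommRingCat.of k)).residueField s)
    (AlgebraicClosure ((Spec (CommRingCat.of k)).residueField s))) (f := r.hom)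
    IsAlgClosed.algebraMap_bijective_of_isIntegral hb

include ψ in
theorem isUnipotent_of_isUnipotentRadical [IsAlgClosed k] [IsAffine U.left] {P : Over (Spec (CommRingCat.of k))}
    [GrpObj P] (u : U ⟶ P) (hu : Par.IsUnipotentRadical u) : HopfRep.IsUnipotent k A := by
  obtain ⟨-, -, -, hsm, -, hgeo, -⟩ := hu
  obtain ⟨hconn, hno⟩ := hgeo default
  haveI := isIso_geomPt (k := k) default
  haveI : IsIso (pullback.fst U.hom (Red.geomPt (default : Spec (CommRingCat.of k)))) := inferInstance
  haveI : ConnectedSpace (pullback U.hom (Red.geomPt (default : Spec (CommRingCat.of k))) :) := hconn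
  haveI : ConnectedSpace U.left :=
    (pullback.fst U.hom (Red.geomPt (default : Spec (CommRingCat.of k)))).homeomorph.surjective.connectedSpace
      (Scheme.Hom.homeomorph _).continuous
  exact isUnipotent_of_no_Gm ψ (no_Gm_of_bc _ hno)

end Groth.Agent.GMod80
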