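import Groth.Agent.GMod80.Unipotent
import Mathlib.RingTheory.UniqueFactorizationDomain.Basic

/-!
Groups without characters; invariants of factorial rings.
-/

set_option autoImplicit false
set_option linter.unusedSectionVars false
set_option linter.style.haveILetI false

universe u v

open CategoryTheory MonoidalCategory CartesianMonoidalCategory MonObj GrpObj AlgebraicGeometry
open scoped TensorProduct
open WithConv TensorProduct

noncomputable section

namespace Groth.Agent.GMod80

open RedPts82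

variable {k : Type u} [Field k] {A : Type u} [CommRing A] [HopfAlgebra k A]
  {G : Over (Spec (CommRingCat.of k))} [GrpObj G] (ψ : sp k A ≅ G) [IsMonHom ψ.hom]

include ψ in
/-- A group-like function is the value of a character. -/
theorem exists_char (a : A)
    (hcomul : CoalgebraStruct.comul (R := k) a = a ⊗ₜ[k] a)
    (hcounit : CoalgebraStruct.counit (R := k) a = 1) :
    ∃ χ : G ⟶ Red.Gm (Spec (CommRingCat.of k)), IsMonHom χ ∧
      ∀ (B : Type u) [CommRing B] [Algebra k B] (g : WithConv (A →ₐ[k] B)),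
        VecGrp.chiVal χ (e ψ B g) = g.ofConv a := by
  let T := Red.Gm (Spec (CommRingCat.of k))
  haveI : IsAffine T.left := by
    haveI := RedPts82.isAffineHom_DS (Spec (CommRingCat.of k)) ℤ
    exact isAffine_of_isAffineHom T.hom
  obtain ⟨B, _, _, ψd, _⟩ := exists_coord T
  have hu : IsUnit a := by
    refine IsUnit.of_mul_eq_one (HopfAlgebraStruct.antipode k a) ?_
    have h := LinearMap.congr_fun (HopfAlgebra.mul_antipode_lTensor_comul (R := k) (A := A)) a
    simpa [hcomul, hcounit] using h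
  let val : ∀ {R : Type u} [CommRing R] [Algebra k R], (WithConv (B →ₐ[k] R)) → ℤ → R :=
    fun {R} _ _ f m => (Scheme.ΓSpecIso (CommRingCat.of R)).hom.hom (dsFn (e ψd R f) m)
  have vnat : ∀ {R R' : Type u} [CommRing R] [Algebra k R] [CommRing R'] [Algebra k R']
      (q : R →ₐ[k] R') (f : WithConv (B →ₐ[k] R)) (m : ℤ),
      val (toConv (q.comp f.ofConv)) m = q (val f m) := by
    intro R R' _ _ _ _ q f m
    simp only [val]
    rw [← e_natural, dsFn_comp]
    exact congrArg (fun r => r.hom (dsFn (e ψd R f) m))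
      (Scheme.ΓSpecIso_naturality (CommRingCat.ofHom q.toRingHom))
  have vmul : ∀ {R : Type u} [CommRing R] [Algebra k R] (f f' : WithConv (B →ₐ[k] R)) (m : ℤ),
      val (f * f') m = val f m * val f' m := fun f f' m => by
    simp only [val, map_mul]
    exact (congrArg _ (dsFn_mul _ _ m)).trans (map_mul _ _ _)
  have vone : ∀ {R : Type u} [CommRing R] [Algebra k R] (m : ℤ),
      val (1 : WithConv (B →ₐ[k] R)) m = 1 := fun m => by
    simp only [val, map_one]
    exact (congrArg _ (dsFn_one m)).trans (map_one _)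
  have vinj : ∀ {R : Type u} [CommRing R] [Algebra k R] (f f' : WithConv (B →ₐ[k] R)),
      (∀ m, val f m = val f' m) → f = f' := fun {R} _ _ f f' hff =>
    (e ψd R).injective (dsFn_injective fun m =>
      (ConcreteCategory.bijective_of_isIso (Scheme.ΓSpecIso (CommRingCat.of R)).hom).1 (hff m))
  let pw : Multiplicative ℤ →* A :=
    (Units.coeHom A).comp (zpowersHom Aˣ hu.unit)
  obtain ⟨t, ht⟩ := dsFn_surjective (S := Spec (CommRingCat.of k)) (X := VecGrp.pt k A) (M := ℤ)
    ((Scheme.ΓSpecIso (CommRingCat.of A)).inv.hom.toMonoidHom.comp pw)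
  obtain ⟨f₀, rfl⟩ := (e ψd _).surjective t
  have hf₀ : ∀ m, val f₀ m = ((hu.unit ^ m : Aˣ) : A) := fun m => by
    simp only [val]
    rw [ht]
    simp [pw]
  let χ₀ : B →ₐc[k] A := BialgHom.ofAlgHom f₀.ofConv
    (congrArg ofConv (show toConv ((Bialgebra.counitAlgHom k A).comp f₀.ofConv) =
        toConv (Bialgebra.counitAlgHom k B) from vinj _ _ fun m => by
      have h1 : (toConv (Bialgebra.counitAlgHom k B) : WithConv (B →ₐ[k] k)) = 1 := by
        apply WithConv.ofConv_injective; ext x; rfl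
      have h2 : Units.map (Bialgebra.counitAlgHom k A).toMonoidHom hu.unit = 1 :=
        Units.ext (by simpa using hcounit)
      rw [vnat, hf₀, h1, vone]
      have h4 := congrArg (fun z : kˣ => z ^ m) h2
      simp only [one_zpow, ← map_zpow] at h4
      exact congrArg Units.val h4))
    (congrArg ofConv (show toConv ((Algebra.TensorProduct.map f₀.ofConv f₀.ofConv).comp
        (Bialgebra.comulAlgHom k B)) = toConv ((Bialgebra.comulAlgHom k A).comp f₀.ofConv) from
      vinj _ _ fun m => by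
      have h2 : Units.map (Bialgebra.comulAlgHom k A).toMonoidHom hu.unit =
          Units.map (Algebra.TensorProduct.includeLeft : A →ₐ[k] A ⊗[k] A).toMonoidHom hu.unit *
            Units.map (Algebra.TensorProduct.includeRight : A →ₐ[k] A ⊗[k] A).toMonoidHom hu.unit :=
        Units.ext (by simpa using hcomul)
      have h3 := congrArg (fun z : (A ⊗[k] A)ˣ => ((z ^ m : (A ⊗[k] A)ˣ) : A ⊗[k] A)) h2
      simp only [mul_zpow, ← map_zpow, Units.val_mul, Units.coe_map] at h3
      rw [vnat (Bialgebra.comulAlgHom k A), hf₀, vnat (Algebra.TensorProduct.map f₀.ofConv f₀.ofConv),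
        comulAlgHom_eq_lr, vmul, map_mul, ← vnat, ← vnat,
        Algebra.TensorProduct.map_comp_includeLeft, Algebra.TensorProduct.map_comp_includeRight,
        vnat, vnat, hf₀]
      exact h3.symm))
  refine ⟨ψ.inv ≫ spHom χ₀ ≫ ψd.hom, inferInstance, fun R _ _ g => ?_⟩
  have h : e ψ R g ≫ ψ.inv ≫ spHom χ₀ ≫ ψd.hom = e ψd R (toConv (g.ofConv.comp f₀.ofConv)) := by
    change (Spec.mapMulEquiv g ≫ ψ.hom) ≫ ψ.inv ≫ spHom χ₀ ≫ ψd.hom = _
    rw [Category.assoc, Iso.hom_inv_id_assoc, ← Category.assoc, comp_spHom]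
    rfl
  rw [VecGrp.chiVal, h, gmFn_eq]
  refine (vnat g.ofConv f₀ 1).trans ?_
  rw [hf₀, zpow_one, IsUnit.unit_spec]

include ψ in
/-- A group without characters has no non-trivial group-like function. -/
theorem eq_one_of_comul_eq
    (hχ : ∀ χ : G ⟶ Red.Gm (Spec (CommRingCat.of k)), IsMonHom χ → χ = 1) (a : A)
    (hcomul : CoalgebraStruct.comul (R := k) a = a ⊗ₜ[k] a)
    (hcounit : CoalgebraStruct.counit (R := k) a = 1) : a = 1 := by
  obtain ⟨χ, hm, hval⟩ := exists_char ψ a hcomul hcounit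
  have h := hval A (toConv (AlgHom.id k A))
  rw [hχ χ hm, VecGrp.chiVal, MonObj.comp_one, gmFn_eq, dsFn_one, map_one] at h
  exact h.symm

section UFD

variable {R : Type u} [CommRing R] [IsDomain R] [Algebra k R] [UniqueFactorizationMonoid R]
  (ρ : VecGrp.GMod G R) (hρ : ρ.IsMult)
  [IsAlgClosed k] [Algebra.FiniteType k A] [_root_.IsReduced A]

/-- The action of a rational point as an automorphism. -/
def actEquiv (g : WithConv (A →ₐ[k] k)) : R ≃ₐ[k] R :=
  AlgEquiv.ofAlgHom (actAlg ψ ρ hρ g) (actAlg ψ ρ hρ g⁻¹)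
    (AlgHom.ext fun r => by rw [AlgHom.comp_apply, ← actAlg_mul, mul_inv_cancel, actAlg_one]; rfl)
    (AlgHom.ext fun r => by rw [AlgHom.comp_apply, ← actAlg_mul, inv_mul_cancel, actAlg_one]; rfl)

include ψ in
theorem isUFM_fixed
    (hχ : ∀ χ : G ⟶ Red.Gm (Spec (CommRingCat.of k)), IsMonHom χ → χ = 1)
    (hconn : ∀ e : A, IsIdempotentElem e → e = 0 ∨ e = 1)
    (hunits : ∀ x : Rˣ, (x : R) ∈ Set.range (algebraMap k R)) :
    UniqueFactorizationMonoid ↥(ρ.fixedSubalgebra hρ (𝟙 G)) := by
  classical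
  haveI : IsDomain A := Comod33.Units.isDomain k hconn
  letI := toComod ψ ρ
  let F := ρ.fixedSubalgebra hρ (𝟙 G)
  have hFg : ∀ x : R, x ∈ F → ∀ g, actAlg ψ ρ hρ g x = x := fun x hx g => by
    have := hx k (e ψ k g)
    rw [Category.comp_id, rho_pt] at this
    rw [actAlg_apply]
    simpa using congrArg (TensorProduct.lid k R) this
  have hgF : ∀ x : R, (∀ g, actAlg ψ ρ hρ g x = x) → x ∈ F := fun x hx => by
    refine (mem_fixedUnder_id_iff ψ ρ x).2 ?_
    have := fixed_of_points (AlgHom.id k A) (M := R) (m := x) fun q => by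
      rw [AlgHom.comp_id, ← actAlg_apply ψ ρ hρ (toConv q)]
      exact hx _
    rwa [AlgHom.toLinearMap_id, LinearMap.lTensor_id] at this
  have hassoc : ∀ p q : R, Associated q p → p ∈ Submodule.span k {q} := by
    rintro p q ⟨u, rfl⟩
    obtain ⟨c, hc⟩ := hunits u
    refine Submodule.mem_span_singleton.2 ⟨c, ?_⟩
    rw [← hc, Algebra.smul_def, mul_comm]
  have hprime : ∀ a ∈ F, a ≠ 0 → ∀ p ∈ UniqueFactorizationMonoid.factors a, p ∈ F := by
    intro a ha ha0 p hp
    let S := (UniqueFactorizationMonoid.factors a).toFinset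
    have hp0 : p ≠ 0 := (UniqueFactorizationMonoid.prime_of_factor p hp).ne_zero
    have hperm : ∀ g, ∃ q ∈ S, actAlg ψ ρ hρ g p ∈ Submodule.span k {q} := by
      intro g
      have h1 : Prime (actEquiv ψ ρ hρ g p) :=
        (MulEquiv.prime_iff (actEquiv ψ ρ hρ g).toMulEquiv).2
          (UniqueFactorizationMonoid.prime_of_factor p hp)
      have h2 : actAlg ψ ρ hρ g p ∣ a := by
        have := map_dvd (actAlg ψ ρ hρ g) (UniqueFactorizationMonoid.dvd_of_mem_factors hp)
        rwa [hFg a ha g] at this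
      obtain ⟨q, hq, hpq⟩ := UniqueFactorizationMonoid.exists_mem_factors_of_dvd ha0
        h1.irreducible h2
      exact ⟨q, Multiset.mem_toFinset.2 hq, hassoc _ _ hpq.symm⟩
    let I : R → Ideal A := fun q => Ideal.span {c : A | ∃ φ : R →ₗ[k] k,
      (∀ y ∈ Submodule.span k {q}, φ y = 0) ∧ c = Comod33.cf (A := A) φ p}
    have hprod : ∏ q ∈ S, I q = ⊥ := by
      refine eq_bot_iff.2 fun c hc => ?_
      refine Comod33.Conn.eq_zero_of_forall_point (k := k) fun x => ?_
      obtain ⟨q, hqS, hq⟩ := hperm x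
      have h1 : c ∈ I q := (Ideal.prod_le_inf.trans (Finset.inf_le hqS)) hc
      refine RingHom.mem_ker.1 ((Ideal.span_le (I := RingHom.ker x.ofConv)).2 ?_ h1)
      rintro _ ⟨φ, hφ, rfl⟩
      rw [SetLike.mem_coe, RingHom.mem_ker, apply_cf']
      rw [actAlg_apply] at hq
      exact hφ _ hq
    obtain ⟨q, -, hq⟩ := Finset.prod_eq_zero_iff.1 (show ∏ q ∈ S, I q = 0 from hprod)
    have hall : ∀ g, actAlg ψ ρ hρ g p ∈ Submodule.span k {q} := fun g => by
      by_contra hne
      obtain ⟨φ, hφ, hle⟩ := Submodule.exists_le_ker_of_notMem hne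
      refine hφ ?_
      have h0 : Comod33.cf (A := A) φ p = 0 := by
        have : Comod33.cf (A := A) φ p ∈ I q := Ideal.subset_span ⟨φ, fun y hy => hle hy, rfl⟩
        rwa [hq] at this
      rw [actAlg_apply]
      refine (apply_cf' g.ofConv φ p).symm.trans ?_
      rw [h0, map_zero]
    obtain ⟨c₁, hc₁⟩ := Submodule.mem_span_singleton.1 (hall 1)
    rw [actAlg_one] at hc₁
    have hline : ∀ g, actAlg ψ ρ hρ g p ∈ Submodule.span k {p} := fun g => by
      obtain ⟨c, hc⟩ := Submodule.mem_span_singleton.1 (hall g)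
      have hc₁0 : c₁ ≠ 0 := fun h => hp0 (by rw [← hc₁, h, zero_smul])
      refine Submodule.mem_span_singleton.2 ⟨c * c₁⁻¹, ?_⟩
      rw [← hc, ← hc₁, smul_smul, _root_.mul_assoc, inv_mul_cancel₀ hc₁0, _root_.mul_one]
    have hsub := (isStable_id_iff ψ ρ _).1 (isStable_of_points ψ ρ hρ (Submodule.span k {p})
      fun g x hx => by
        obtain ⟨c, rfl⟩ := Submodule.mem_span_singleton.1 hx
        rw [map_smul]
        exact Submodule.smul_mem _ _ (hline g))
    obtain ⟨z, hz⟩ := hsub p (Submodule.mem_span_singleton_self p)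
    obtain ⟨b, hb⟩ : ∃ b : A, HopfRep.Comod.coact (k := k) (A := A) p = p ⊗ₜ[k] b := by
      rw [← hz]
      clear hz
      induction z using TensorProduct.induction_on with
      | zero => exact ⟨0, by simp⟩
      | add x y hx hy =>
        obtain ⟨b, hb⟩ := hx
        obtain ⟨b', hb'⟩ := hy
        exact ⟨b + b', by rw [map_add, hb, hb', TensorProduct.tmul_add]⟩
      | tmul x y =>
        obtain ⟨c, hc⟩ := Submodule.mem_span_singleton.1 x.2
        exact ⟨c • y, by
          rw [LinearMap.rTensor_tmul, Submodule.subtype_apply, ← hc, TensorProduct.smul_tmul]⟩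
    obtain ⟨φ, hφ⟩ : ∃ φ : R →ₗ[k] k, φ p = 1 := by
      obtain ⟨φ, hφ⟩ : ∃ φ : R →ₗ[k] k, φ p ≠ 0 := by
        by_contra h
        push Not at h
        exact hp0 ((Module.forall_dual_apply_eq_zero_iff k p).1 h)
      exact ⟨(φ p)⁻¹ • φ, by simp [hφ]⟩
    have hco := LinearMap.congr_fun (HopfRep.Comod.coassoc (k := k) (A := A) (V := R)) p
    have hcu := LinearMap.congr_fun (HopfRep.Comod.counit_comp (k := k) (A := A) (V := R)) p
    simp only [LinearMap.comp_apply, LinearEquiv.coe_coe, hb, LinearMap.rTensor_tmul,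
      LinearMap.lTensor_tmul, TensorProduct.assoc_tmul, LinearMap.flip_apply,
      TensorProduct.mk_apply] at hco hcu
    have h1 := congrArg (fun y => TensorProduct.lid k (A ⊗[k] A) (φ.rTensor (A ⊗[k] A) y)) hco
    have h2 := congrArg (fun y => TensorProduct.lid k k (φ.rTensor k y)) hcu
    simp only [LinearMap.rTensor_tmul, TensorProduct.lid_tmul, hφ, one_smul] at h1 h2
    have hb1 := eq_one_of_comul_eq ψ hχ b h1.symm h2
    refine (mem_fixedUnder_id_iff ψ ρ p).2 ?_
    change HopfRep.Comod.coact (k := k) (A := A) p = _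
    rw [hb, hb1]
  have hdiv : ∀ x y : F, (x : R) ∣ (y : R) → x ∣ y := by
    intro x y h
    obtain ⟨z, hz⟩ := h
    by_cases hx0 : (x : R) = 0
    · refine ⟨0, Subtype.ext ?_⟩
      simp [hz, hx0]
    refine ⟨⟨z, hgF z fun g => mul_left_cancel₀ hx0 ?_⟩, Subtype.ext hz⟩
    have := congrArg (actAlg ψ ρ hρ g) hz
    rw [map_mul, hFg _ x.2, hFg _ y.2] at this
    rw [← this, hz]
  refine UniqueFactorizationMonoid.of_exists_prime_factors fun a ha => ?_
  have ha' : (a : R) ≠ 0 := fun h => ha (Subtype.ext h)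
  refine ⟨(UniqueFactorizationMonoid.factors (a : R)).attach.map
    fun p => ⟨p.1, hprime _ a.2 ha' p.1 p.2⟩, fun b hb => ?_, ?_⟩
  · obtain ⟨⟨p, hp⟩, -, rfl⟩ := Multiset.mem_map.1 hb
    have hP := UniqueFactorizationMonoid.prime_of_factor p hp
    refine ⟨fun h => hP.ne_zero (congrArg Subtype.val h),
      fun h => hP.not_unit (h.map (ρ.fixedSubalgebra hρ (𝟙 G)).val), fun x y hxy => ?_⟩
    exact (hP.dvd_or_dvd (map_dvd (ρ.fixedSubalgebra hρ (𝟙 G)).val hxy)).imp (hdiv _ _) (hdiv _ _)
  · obtain ⟨u, hu⟩ := UniqueFactorizationMonoid.factors_prod ha'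
    obtain ⟨c, hc⟩ := hunits u
    have hc0 : c ≠ 0 := fun h => u.ne_zero (by rw [← hc, h, map_zero])
    refine ⟨((IsUnit.mk0 c hc0).map (algebraMap k F)).unit, Subtype.ext ?_⟩
    refine Eq.trans ?_ hu
    rw [← hc]
    simp [map_multiset_prod, Multiset.map_map, Function.comp_def, Multiset.attach_map_val]

end UFD

end Groth.Agent.GMod80
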