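import Groth.Prelude.Def_W4bk4grossh111Obs
import Mathlib.AlgebraicGeometry.Group.Affine
import Mathlib.RingTheory.HopfAlgebra.Convolution

/-!
Coordinates for an affine group scheme over a field: points as algebra maps.
-/

set_option autoImplicit false
set_option linter.unusedSectionVars false

universe u

open CategoryTheory MonoidalCategory CartesianMonoidalCategory MonObj GrpObj AlgebraicGeometry
open scoped TensorProduct
open WithConv

noncomputable section

namespace Groth.Agent.GMod80

variable {k : Type u} [Field k]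

/-- The spectrum of an algebra as an object over the base. -/
abbrev sp (k : Type u) [Field k] (A : Type u) [CommRing A] [Algebra k A] :
    Over (Spec (CommRingCat.of k)) :=
  (Spec (CommRingCat.of A)).asOver (Spec (CommRingCat.of k))

theorem exists_coord (G : Over (Spec (CommRingCat.of k))) [GrpObj G] [IsAffine G.left] :
    ∃ (A : Type u) (_ : CommRing A) (_ : HopfAlgebra k A) (ψ : sp k A ≅ G), IsMonHom ψ.hom := by
  obtain ⟨Hop, ⟨e⟩⟩ := (essImage_hopfSpec (G := Grp.mk G)).2 ‹_›
  exact ⟨Hop.unop, inferInstance, inferInstance, (Grp.forget _).mapIso e, e.hom.hom.isMonHom_hom⟩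

variable {A : Type u} [CommRing A] [HopfAlgebra k A] {G : Over (Spec (CommRingCat.of k))} [GrpObj G]
  (ψ : sp k A ≅ G) [IsMonHom ψ.hom]

/-- The underlying isomorphism of schemes. -/
def sch : Spec (CommRingCat.of A) ≅ G.left := (Over.forget _).mapIso ψ

/-- Composition with an isomorphism of monoid objects, on points. -/
def post (X : Over (Spec (CommRingCat.of k))) : (X ⟶ sp k A) ≃* (X ⟶ G) where
  toFun f := f ≫ ψ.hom
  invFun g := g ≫ ψ.inv
  left_inv f := by simp
  right_inv g := by simp
  map_mul' f g := MonObj.mul_comp f g ψ.hom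

/-- Points of the group as algebra maps. -/
def e (B : Type u) [CommRing B] [Algebra k B] : WithConv (A →ₐ[k] B) ≃* (VecGrp.pt k B ⟶ G) :=
  Spec.mapMulEquiv.trans (post ψ (sp k B))

omit [IsMonHom ψ.hom] in
theorem e_left [IsMonHom ψ.hom] (B : Type u) [CommRing B] [Algebra k B] (f : WithConv (A →ₐ[k] B)) :
    (e ψ B f).left = Spec.map (CommRingCat.ofHom f.ofConv.toRingHom) ≫ (sch ψ).hom := rfl

theorem e_natural {B B' : Type u} [CommRing B] [Algebra k B] [CommRing B'] [Algebra k B']
    (φ : B →ₐ[k] B') (f : WithConv (A →ₐ[k] B)) :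
    VecGrp.ptMap φ ≫ e ψ B f = e ψ B' (toConv (φ.comp f.ofConv)) := by
  apply Over.OverMorphism.ext
  change Spec.map _ ≫ (e ψ B f).left = _
  rw [e_left, e_left, ← Category.assoc, ← Spec.map_comp]
  rfl

/-- The coordinate ring as the ring of global functions. -/
def fn : A ≃+* Γ(G.left, ⊤) :=
  ((Scheme.ΓSpecIso (CommRingCat.of A)).symm ≪≫
    (Scheme.Γ.mapIso (sch ψ).symm.op)).commRingCatIsoToRingEquiv

theorem fn_apply (a : A) :
    fn ψ a = (sch ψ).inv.appTop.hom ((Scheme.ΓSpecIso (CommRingCat.of A)).inv.hom a) := rfl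

theorem appTop_fn {B : Type u} [CommRing B] [Algebra k B] (f : WithConv (A →ₐ[k] B)) (a : A) :
    (e ψ B f).left.appTop.hom (fn ψ a) =
      (Scheme.ΓSpecIso (CommRingCat.of B)).inv.hom (f.ofConv a) := by
  have h1 : (e ψ B f).left ≫ (sch ψ).inv =
      Spec.map (CommRingCat.ofHom f.ofConv.toRingHom) := by
    rw [e_left, Category.assoc, Iso.hom_inv_id]
    exact Category.comp_id _
  have h2 : (sch ψ).inv.appTop ≫ (e ψ B f).left.appTop =
      (Spec.map (CommRingCat.ofHom f.ofConv.toRingHom)).appTop := by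
    rw [← h1]; rfl
  have h3 := Scheme.ΓSpecIso_inv_naturality (CommRingCat.ofHom f.ofConv.toRingHom)
  rw [fn_apply, ← CommRingCat.comp_apply, h2]
  exact (congrArg (fun q => q.hom a) h3).symm

end Groth.Agent.GMod80
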