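import Groth.Agent.GMod80.Coord
import Groth.Agent.Comod33.Act
import Mathlib.LinearAlgebra.GeneralLinearGroup.Basic

/-!
Rational modules over an affine group scheme as comodules over its coordinate ring.
-/

set_option autoImplicit false
set_option linter.unusedSectionVars false

universe u v

open CategoryTheory MonoidalCategory CartesianMonoidalCategory MonObj GrpObj AlgebraicGeometry
open scoped TensorProduct
open WithConv TensorProduct

noncomputable section

namespace Groth.Agent.GMod80

variable {k : Type u} [Field k] {A : Type u} [CommRing A] [HopfAlgebra k A]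
  {M : Type u} [AddCommGroup M] [Module k M]

section Ext

variable (γ : M →ₗ[k] M ⊗[k] A) {B : Type u} [CommRing B] [Algebra k B]

/-- The action of a point on the elements of the module. -/
def app (f : A →ₐ[k] B) : M →ₗ[k] B ⊗[k] M :=
  (TensorProduct.comm k M B).toLinearMap ∘ₗ f.toLinearMap.lTensor M ∘ₗ γ

/-- The action of a point on the base change of the module. -/
def ext' (f : A →ₐ[k] B) : B ⊗[k] M →ₗ[B] B ⊗[k] M := (app γ f).liftBaseChange B

theorem ext'_tmul (f : A →ₐ[k] B) (b : B) (m : M) :
    ext' γ f (b ⊗ₜ[k] m) = b • app γ f m := LinearMap.liftBaseChange_tmul _ _ _ _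

theorem ext'_app (f g : A →ₐ[k] B) (x : M ⊗[k] A) :
    ext' γ f (TensorProduct.comm k M B (g.toLinearMap.lTensor M x)) =
      TensorProduct.comm k M B
        ((LinearMap.mul' k B ∘ₗ TensorProduct.map f.toLinearMap g.toLinearMap).lTensor M
          (TensorProduct.assoc k M A A (γ.rTensor A x))) := by
  induction x using TensorProduct.induction_on with
  | zero => simp
  | add p q hp hq => simp only [map_add, hp, hq]
  | tmul m a =>
    rw [LinearMap.rTensor_tmul, LinearMap.lTensor_tmul, TensorProduct.comm_tmul, ext'_tmul]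
    change g a • TensorProduct.comm k M B (f.toLinearMap.lTensor M (γ m)) = _
    generalize γ m = y
    induction y using TensorProduct.induction_on with
    | zero => simp
    | add p q hp hq => simp only [map_add, smul_add, TensorProduct.add_tmul, hp, hq]
    | tmul n b =>
      simp only [TensorProduct.assoc_tmul, LinearMap.lTensor_tmul, TensorProduct.comm_tmul,
        LinearMap.comp_apply, TensorProduct.map_tmul, AlgHom.toLinearMap_apply,
        LinearMap.mul'_apply, TensorProduct.smul_tmul', smul_eq_mul, mul_comm (f b) (g a)]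

theorem mul'_map_comul (f g : WithConv (A →ₐ[k] B)) :
    (LinearMap.mul' k B ∘ₗ TensorProduct.map f.ofConv.toLinearMap g.ofConv.toLinearMap) ∘ₗ
        CoalgebraStruct.comul (R := k) (A := A) = (f * g).ofConv.toLinearMap := by
  ext a
  simp only [LinearMap.comp_apply, AlgHom.toLinearMap_apply]
  rw [AlgHom.convMul_apply]
  generalize CoalgebraStruct.comul (R := k) a = z
  induction z using TensorProduct.induction_on with
  | zero => simp
  | add p q hp hq => simp only [map_add, hp, hq]
  | tmul p q => simp

end Ext

section OfComod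

variable (c : HopfRep.Comod k A M) {B : Type u} [CommRing B] [Algebra k B]

theorem ext'_mul (f g : WithConv (A →ₐ[k] B)) :
    ext' c.coact (f * g).ofConv = ext' c.coact f.ofConv ∘ₗ ext' c.coact g.ofConv := by
  refine LinearMap.ext fun x => ?_
  induction x using TensorProduct.induction_on with
  | zero => simp
  | add p q hp hq => simp only [map_add, hp, hq]
  | tmul b m =>
    rw [LinearMap.comp_apply, ext'_tmul, ext'_tmul, map_smul]
    congr 1
    change _ = ext' c.coact f.ofConv
      (TensorProduct.comm k M B (g.ofConv.toLinearMap.lTensor M (c.coact m)))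
    rw [ext'_app]
    have h := LinearMap.congr_fun c.coassoc m
    simp only [LinearMap.comp_apply, LinearEquiv.coe_coe] at h
    rw [h]
    change TensorProduct.comm k M B ((f * g).ofConv.toLinearMap.lTensor M (c.coact m)) = _
    rw [← mul'_map_comul, LinearMap.lTensor_comp, LinearMap.comp_apply]

theorem ext'_one : ext' c.coact (1 : WithConv (A →ₐ[k] B)).ofConv = LinearMap.id := by
  refine LinearMap.ext fun x => ?_
  induction x using TensorProduct.induction_on with
  | zero => simp
  | add p q hp hq => simp only [map_add, hp, hq]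
  | tmul b m =>
    rw [ext'_tmul]
    have h1 : ((1 : WithConv (A →ₐ[k] B)).ofConv).toLinearMap =
        (Algebra.linearMap k B) ∘ₗ CoalgebraStruct.counit (R := k) (A := A) := rfl
    have h2 := LinearMap.congr_fun c.counit_comp m
    simp only [LinearMap.comp_apply, LinearMap.flip_apply, TensorProduct.mk_apply] at h2
    change b • TensorProduct.comm k M B (((1 : WithConv (A →ₐ[k] B)).ofConv).toLinearMap.lTensor M
      (c.coact m)) = b ⊗ₜ[k] m
    rw [h1, LinearMap.lTensor_comp, LinearMap.comp_apply, h2]
    simp [TensorProduct.smul_tmul']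

variable (B) in
/-- The representation of the points on the base change. -/
def rep : WithConv (A →ₐ[k] B) →* Module.End B (B ⊗[k] M) where
  toFun f := ext' c.coact f.ofConv
  map_one' := ext'_one c
  map_mul' f g := ext'_mul c f g

end OfComod

section Group

variable {G : Over (Spec (CommRingCat.of k))} [GrpObj G] (ψ : sp k A ≅ G) [IsMonHom ψ.hom]

/-- The rational module of a comodule. -/
def ofComod (c : HopfRep.Comod k A M) : VecGrp.GMod G M where
  ρ B _ _ :=
    (LinearMap.GeneralLinearGroup.generalLinearEquiv B (B ⊗[k] M)).toMonoidHom.comp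
      (((rep c B).comp (e ψ B).symm.toMonoidHom).toHomUnits)
  naturality {B B'} _ _ _ _ φ g x := by
    change VecGrp.Wmap φ (ext' c.coact ((e ψ B).symm g).ofConv x) =
      ext' c.coact ((e ψ B').symm (VecGrp.ptMap φ ≫ g)).ofConv (VecGrp.Wmap φ x)
    obtain ⟨f, rfl⟩ := (e ψ B).surjective g
    rw [e_natural, MulEquiv.symm_apply_apply, MulEquiv.symm_apply_apply, ofConv_toConv]
    induction x using TensorProduct.induction_on with
    | zero => simp
    | add p q hp hq => simp only [map_add, hp, hq]
    | tmul b m =>
      rw [ext'_tmul, VecGrp.Wmap_smul, VecGrp.Wmap_tmul, ext'_tmul]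
      congr 1
      change VecGrp.Wmap φ (TensorProduct.comm k M B (f.ofConv.toLinearMap.lTensor M (c.coact m)))
        = TensorProduct.comm k M B' ((φ.comp f.ofConv).toLinearMap.lTensor M (c.coact m))
      generalize c.coact m = y
      induction y using TensorProduct.induction_on with
      | zero => simp
      | add p q hp hq => simp only [map_add, hp, hq]
      | tmul n a => simp

theorem ofComod_apply (c : HopfRep.Comod k A M) {B : Type u} [CommRing B] [Algebra k B]
    (f : WithConv (A →ₐ[k] B)) (b : B) (m : M) :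
    (ofComod ψ c).ρ B (e ψ B f) (b ⊗ₜ[k] m) = b • app c.coact f.ofConv m := by
  change ext' c.coact ((e ψ B).symm (e ψ B f)).ofConv (b ⊗ₜ[k] m) = _
  rw [MulEquiv.symm_apply_apply, ext'_tmul]

variable (ρ : VecGrp.GMod G M)

/-- The coaction of a rational module. -/
def coactOf : M →ₗ[k] M ⊗[k] A :=
  (TensorProduct.comm k A M).toLinearMap ∘ₗ
    ((ρ.ρ A (e ψ A (toConv (AlgHom.id k A)))).toLinearMap.restrictScalars k) ∘ₗ
      TensorProduct.mk k A M 1

theorem rho_eq {B : Type u} [CommRing B] [Algebra k B] (f : WithConv (A →ₐ[k] B)) (b : B) (m : M) :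
    ρ.ρ B (e ψ B f) (b ⊗ₜ[k] m) = b • app (coactOf ψ ρ) f.ofConv m := by
  have hb : b ⊗ₜ[k] m = b • ((1 : B) ⊗ₜ[k] m) := by simp [TensorProduct.smul_tmul']
  rw [hb, map_smul]
  congr 1
  have h := ρ.naturality f.ofConv (e ψ A (toConv (AlgHom.id k A))) ((1 : A) ⊗ₜ[k] m)
  rw [e_natural, ofConv_toConv, AlgHom.comp_id, toConv_ofConv, VecGrp.Wmap_tmul, map_one] at h
  rw [← h]
  change _ = TensorProduct.comm k M B (f.ofConv.toLinearMap.lTensor M
    (TensorProduct.comm k A M (ρ.ρ A (e ψ A (toConv (AlgHom.id k A))) ((1 : A) ⊗ₜ[k] m))))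
  generalize ρ.ρ A (e ψ A (toConv (AlgHom.id k A))) ((1 : A) ⊗ₜ[k] m) = y
  induction y using TensorProduct.induction_on with
  | zero => simp
  | add p q hp hq => simp only [map_add, hp, hq]
  | tmul a n => simp

/-- The comodule of a rational module. -/
@[reducible] def toComod : HopfRep.Comod k A M where
  coact := coactOf ψ ρ
  coassoc := by
    refine LinearMap.ext fun m => ?_
    let l : WithConv (A →ₐ[k] A ⊗[k] A) := toConv Algebra.TensorProduct.includeLeft
    let r : WithConv (A →ₐ[k] A ⊗[k] A) := toConv Algebra.TensorProduct.includeRight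
    have hid : (LinearMap.mul' k (A ⊗[k] A) ∘ₗ TensorProduct.map l.ofConv.toLinearMap
        r.ofConv.toLinearMap) = LinearMap.id := by
      ext x y
      simp [l, r]
    have h1 : ρ.ρ (A ⊗[k] A) (e ψ _ (l * r)) ((1 : A ⊗[k] A) ⊗ₜ[k] m) =
        ρ.ρ (A ⊗[k] A) (e ψ _ l) (ρ.ρ (A ⊗[k] A) (e ψ _ r) ((1 : A ⊗[k] A) ⊗ₜ[k] m)) := by
      rw [map_mul, map_mul]; rfl
    have h2 : ∀ x, ρ.ρ (A ⊗[k] A) (e ψ _ l) x = ext' (coactOf ψ ρ) l.ofConv x := by
      intro x
      induction x using TensorProduct.induction_on with
      | zero => simp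
      | add p q hp hq => simp only [map_add, hp, hq]
      | tmul b n => rw [rho_eq, ext'_tmul]
    rw [rho_eq, rho_eq, one_smul, one_smul, h2] at h1
    change TensorProduct.comm k M _ ((l * r).ofConv.toLinearMap.lTensor M (coactOf ψ ρ m)) =
      ext' (coactOf ψ ρ) l.ofConv
        (TensorProduct.comm k M _ (r.ofConv.toLinearMap.lTensor M (coactOf ψ ρ m))) at h1
    rw [ext'_app, ← mul'_map_comul, hid, LinearMap.id_comp, LinearMap.lTensor_id,
      LinearMap.id_apply] at h1
    simp only [LinearMap.comp_apply, LinearEquiv.coe_coe]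
    exact ((TensorProduct.comm k M (A ⊗[k] A)).injective h1).symm
  counit_comp := by
    refine LinearMap.ext fun m => ?_
    have h := rho_eq ψ ρ (1 : WithConv (A →ₐ[k] k)) (1 : k) m
    rw [map_one, map_one, one_smul] at h
    apply (TensorProduct.comm k M k).injective
    have h1 : ((1 : WithConv (A →ₐ[k] k)).ofConv).toLinearMap =
        CoalgebraStruct.counit (R := k) (A := A) := rfl
    change TensorProduct.comm k M k ((CoalgebraStruct.counit (R := k) (A := A)).lTensor M
      (coactOf ψ ρ m)) = TensorProduct.comm k M k (m ⊗ₜ[k] 1)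
    rw [← h1, TensorProduct.comm_tmul]
    exact h.symm

theorem ext_of_coact {ρ σ : VecGrp.GMod G M} (h : coactOf ψ ρ = coactOf ψ σ)
    {B : Type u} [CommRing B] [Algebra k B] (g : VecGrp.pt k B ⟶ G) (x : B ⊗[k] M) :
    ρ.ρ B g x = σ.ρ B g x := by
  obtain ⟨f, rfl⟩ := (e ψ B).surjective g
  induction x using TensorProduct.induction_on with
  | zero => simp
  | add p q hp hq => simp only [map_add, hp, hq]
  | tmul b m => rw [rho_eq, rho_eq, h]

theorem coactOf_ofComod (c : HopfRep.Comod k A M) : coactOf ψ (ofComod ψ c) = c.coact := by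
  refine LinearMap.ext fun m => ?_
  change TensorProduct.comm k A M ((ofComod ψ c).ρ A (e ψ A (toConv (AlgHom.id k A)))
    ((1 : A) ⊗ₜ[k] m)) = _
  rw [ofComod_apply, one_smul]
  change TensorProduct.comm k A M (TensorProduct.comm k M A
    ((AlgHom.id k A).toLinearMap.lTensor M (c.coact m))) = _
  generalize c.coact m = y
  induction y using TensorProduct.induction_on with
  | zero => simp
  | add p q hp hq => simp only [map_add, hp, hq]
  | tmul a n => simp

end Group

end Groth.Agent.GMod80
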