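import Groth.Agent.GMod80.Inv

/-!
Characterisations of observable subgroups by stabilisers and separating invariant functions.
-/

set_option autoImplicit false
set_option linter.unusedSectionVars false
set_option linter.style.haveILetI false

universe u v

open CategoryTheory MonoidalCategory CartesianMonoidalCategory MonObj GrpObj AlgebraicGeometry
open scoped TensorProduct
open WithConv TensorProduct

noncomputable section

namespace Groth.Agent.GMod80

open Comod33 (cf dact)

variable {k : Type u} [Field k] [IsAlgClosed k]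

theorem fixed_of_points {A' : Type u} [CommRing A'] [HopfAlgebra k A'] [Algebra.FiniteType k A']
    [_root_.IsReduced A'] {A : Type u} [CommRing A] [HopfAlgebra k A] (π : A →ₐ[k] A')
    {M : Type u} [AddCommGroup M] [Module k M] [HopfRep.Comod k A M] {m : M}
    (h : ∀ g : A' →ₐ[k] k, HopfRep.Comod.act k A M (g.comp π) m = m) :
    π.toLinearMap.lTensor M (HopfRep.Comod.coact (k := k) (A := A) m) = m ⊗ₜ[k] (1 : A') := by
  refine Comod33.eq_of_lc fun φ => ?_
  rw [Comod33.lc_lTensor, Comod33.lc_tmul, ← Comod33.cf_apply]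
  refine sub_eq_zero.1 (Comod33.Conn.eq_zero_of_forall_point (k := k) fun g => ?_)
  rw [map_sub, map_smul, map_one, AlgHom.toLinearMap_apply, ← AlgHom.comp_apply, apply_cf', h,
    smul_eq_mul, _root_.mul_one, sub_self]

variable {G : Over (Spec (CommRingCat.of k))} [GrpObj G] {H : Over (Spec (CommRingCat.of k))}
  [GrpObj H] (i : H ⟶ G) [IsMonHom i]

theorem isRTransInv_of_point [IsAffine G.left] [IsAffine H.left] (h : VecGrp.pt k k ⟶ H)
    (f : Γ(G.left, ⊤)) (hf : AGF.IsRTransInv i f) : AGF.IsRTransInv (h ≫ i) f := by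
  obtain ⟨A, _, _, ψ, _⟩ := exists_coord G
  obtain ⟨A', _, _, ψ', _⟩ := exists_coord H
  obtain ⟨g, rfl⟩ := (e ψ' k).surjective h
  obtain ⟨a, rfl⟩ := (fn ψ).surjective f
  rw [e_comp ψ, isRTransInv_pt, ofConv_toConv, AlgHom.comp_toLinearMap, LinearMap.lTensor_comp,
    LinearMap.comp_apply, (isRTransInv_iff ψ ψ' i a).1 hf]
  simp

theorem exists_separating [IsAffine G.left] [Smooth G.hom] [IsAffine H.left]
    (hobs : AGF.IsObservableIn k i) :
    ∃ s : Finset Γ(G.left, ⊤), (∀ f ∈ s, AGF.IsRTransInv i f) ∧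
      ∀ g g' : VecGrp.pt k k ⟶ G, (∀ f ∈ s, g.left.appTop f = g'.left.appTop f) →
        ∃ h : VecGrp.pt k k ⟶ H, g' = g * (h ≫ i) := by
  classical
  obtain ⟨A, _, _, ψ, _⟩ := exists_coord G
  obtain ⟨A', _, _, ψ', _⟩ := exists_coord H
  have := finiteType ψ
  obtain ⟨t, ht, hcut⟩ := exists_finset_cut (pull ψ ψ' i)
  have hc : ∀ a ∈ t, ∃ s : Finset A, (∀ b ∈ s, IsInvFn (pull ψ ψ' i) b) ∧
      ∀ g g' : A →ₐ[k] k, (∀ b ∈ s, g b = g' b) →
        HopfRep.Comod.act k A A g a = HopfRep.Comod.act k A A g' a := fun a ha =>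
    exists_finset_coeff (pull ψ ψ' i) a (ht a ha)
  choose s hs hs' using hc
  refine ⟨(t.attach.biUnion fun a => s a.1 a.2).image (fn ψ), ?_, ?_⟩
  · intro f hf
    obtain ⟨b, hb, rfl⟩ := Finset.mem_image.1 hf
    obtain ⟨a, -, hb⟩ := Finset.mem_biUnion.1 hb
    exact (isRTransInv_iff ψ ψ' i b).2 (hs a.1 a.2 b hb)
  · intro g g' hgg
    obtain ⟨f, rfl⟩ := (e ψ k).surjective g
    obtain ⟨f', rfl⟩ := (e ψ k).surjective g'
    have key : ∀ a ∈ t, HopfRep.Comod.act k A A (f⁻¹ * f').ofConv a = a := by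
      intro a ha
      have h1 := hs' a ha f.ofConv f'.ofConv fun b hb => (appTop_eq_iff ψ f f' b).1
        (hgg _ (Finset.mem_image_of_mem _
          (Finset.mem_biUnion.2 ⟨⟨a, ha⟩, Finset.mem_attach _ _, hb⟩)))
      calc HopfRep.Comod.act k A A (f⁻¹ * f').ofConv a
          = HopfRep.Comod.act k A A (f⁻¹).ofConv (HopfRep.Comod.act k A A f'.ofConv a) :=
            LinearMap.congr_fun (Comod33.act_mul _ _) a
        _ = HopfRep.Comod.act k A A (f⁻¹).ofConv (HopfRep.Comod.act k A A f.ofConv a) := by rw [h1]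
        _ = HopfRep.Comod.act k A A (f⁻¹ * f).ofConv a :=
            (LinearMap.congr_fun (Comod33.act_mul _ _) a).symm
        _ = a := by rw [inv_mul_cancel, Comod33.act_one]; rfl
    obtain ⟨h, hh⟩ := hobs (e ψ k (f⁻¹ * f')) fun F hF => by
      obtain ⟨b, rfl⟩ := (fn ψ).surjective F
      exact (isRTransInv_pt_iff_act ψ _ b).2
        (hcut _ key b ((isRTransInv_iff ψ ψ' i b).1 hF))
    refine ⟨h, ?_⟩
    rw [hh, map_mul, map_inv, mul_inv_cancel_left]

theorem isObservableIn_of_separating [IsAffine G.left] [IsAffine H.left]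
    {s : Finset Γ(G.left, ⊤)} (hs : ∀ f ∈ s, AGF.IsRTransInv i f)
    (hsep : ∀ g g' : VecGrp.pt k k ⟶ G, (∀ f ∈ s, g.left.appTop f = g'.left.appTop f) →
        ∃ h : VecGrp.pt k k ⟶ H, g' = g * (h ≫ i)) : AGF.IsObservableIn k i := by
  intro g hg
  obtain ⟨A, _, _, ψ, _⟩ := exists_coord G
  obtain ⟨f, rfl⟩ := (e ψ k).surjective g
  obtain ⟨h, hh⟩ := hsep (e ψ k 1) (e ψ k f) fun F hF => by
    obtain ⟨b, rfl⟩ := (fn ψ).surjective F
    refine (appTop_eq_iff ψ _ _ b).2 ?_
    have h1 := (isRTransInv_pt_iff_act ψ f b).1 (hg _ (hs _ hF))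
    rw [← Comod33.counit_act f.ofConv b, h1]
    rfl
  refine ⟨h, ?_⟩
  rw [hh, map_one, _root_.one_mul]

theorem exists_stab [IsAffine G.left] [Smooth G.hom] [IsAffine H.left]
    (hobs : AGF.IsObservableIn k i) :
    ∃ (V : Type u) (_ : AddCommGroup V) (_ : Module k V) (_ : Module.Finite k V)
      (ρ : VecGrp.GMod G V) (v : V), AGF.IsStabOnPts k i ρ v := by
  classical
  obtain ⟨A, _, _, ψ, _⟩ := exists_coord G
  obtain ⟨A', _, _, ψ', _⟩ := exists_coord H
  have := finiteType ψ
  obtain ⟨t, ht, hcut⟩ := exists_finset_cut (pull ψ ψ' i)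
  haveI := Module.Finite.span_finset k t
  obtain ⟨W, hfin, hle, hW⟩ := Comod33.exists_finite_subcomod_le (k := k) (A := A)
    (Submodule.span k (t : Set A))
  let cW : HopfRep.Comod k A W := ComodSub.Comod.restr (HopfRep.Comod.regular k A) W hW
  letI c : HopfRep.Comod k A (t → W) := ComodTens.Comod.pi fun _ => cW
  let v : t → W := fun a => ⟨a.1, hle (Submodule.subset_span a.2)⟩
  have hproj : ∀ a : t, @Hoch.IsComodHom k _ A _ _ _ (t → W) _ _ c A _ _ _
      (W.subtype ∘ₗ LinearMap.proj a) := fun a => by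
    refine LinearMap.pi_ext' fun b => LinearMap.ext fun w => ?_
    simp only [LinearMap.comp_apply, LinearMap.single_apply]
    change _ = (W.subtype ∘ₗ LinearMap.proj a).rTensor A
      ((ComodTens.Comod.pi fun _ : t => cW).coact (Pi.single b w))
    rw [ComodTens.pi_coact_single, ← LinearMap.rTensor_comp_apply]
    by_cases hab : a = b
    · subst hab
      have h1 : (W.subtype ∘ₗ LinearMap.proj a) ∘ₗ LinearMap.single k (fun _ : t => W) a =
          W.subtype := by ext; simp
      rw [h1]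
      simp only [LinearMap.proj_apply, Pi.single_eq_same]
      exact LinearMap.congr_fun (ComodSub.isComodHom_subtype (HopfRep.Comod.regular k A) W hW) w
    · have h1 : (W.subtype ∘ₗ LinearMap.proj a) ∘ₗ LinearMap.single k (fun _ : t => W) b =
          0 := by ext x; simp [Pi.single_eq_of_ne hab]
      rw [h1]
      simp [Pi.single_eq_of_ne hab]
  have hact : ∀ (g : A →ₐ[k] k),
      HopfRep.Comod.act k A (t → W) g v = v ↔
        ∀ a ∈ t, HopfRep.Comod.act k A A g a = a := by
    intro g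
    have key : ∀ a : t, ((HopfRep.Comod.act k A (t → W) g v) a : A) =
        HopfRep.Comod.act k A A g a.1 := fun a => by
      have := Comod33.IsComodHom.dact (hproj a) g.toLinearMap v
      exact this
    constructor
    · intro h a ha
      rw [← key ⟨a, ha⟩, h]
    · intro h
      funext a
      exact Subtype.ext ((key a).trans (h a.1 a.2))
  refine ⟨t → W, inferInstance, inferInstance, inferInstance, ofComod ψ c, v, fun g => ?_⟩
  obtain ⟨f, rfl⟩ := (e ψ k).surjective g
  have hiff : (ofComod ψ c).ρ k (e ψ k f) ((1 : k) ⊗ₜ[k] v) = (1 : k) ⊗ₜ[k] v ↔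
      HopfRep.Comod.act k A (t → W) f.ofConv v = v := by
    rw [fixes_iff, coactOf_ofComod]
    constructor
    · intro h
      change TensorProduct.rid k _ (f.ofConv.toLinearMap.lTensor _ (c.coact v)) = v
      rw [h, TensorProduct.rid_tmul, one_smul]
    · intro h
      apply (TensorProduct.rid k _).injective
      rw [TensorProduct.rid_tmul, one_smul]
      exact h
  rw [hiff, hact]
  constructor
  · intro h
    exact hobs _ fun F hF => by
      obtain ⟨b, rfl⟩ := (fn ψ).surjective F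
      exact (isRTransInv_pt_iff_act ψ _ b).2 (hcut _ h b ((isRTransInv_iff ψ ψ' i b).1 hF))
  · rintro ⟨h, hh⟩ a ha
    rw [← isRTransInv_pt_iff_act ψ, ← hh]
    exact isRTransInv_of_point i h _ ((isRTransInv_iff ψ ψ' i a).2 (ht a ha))

theorem isObservableIn_of_stab [IsAffine G.left] [IsAffine H.left] [Smooth H.hom]
    {V : Type u} [AddCommGroup V] [Module k V] (ρ : VecGrp.GMod G V) (v : V)
    (hv : AGF.IsStabOnPts k i ρ v) : AGF.IsObservableIn k i := by
  intro g hg
  obtain ⟨A, _, _, ψ, _⟩ := exists_coord G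
  obtain ⟨A', _, _, ψ', _⟩ := exists_coord H
  have := finiteType ψ'
  have := isReduced ψ'
  obtain ⟨f, rfl⟩ := (e ψ k).surjective g
  refine (hv _).1 ?_
  letI := toComod ψ ρ
  rw [rho_pt]
  congr 1
  refine act_eq_self_of_invFn (pull ψ ψ' i) f.ofConv
    (fun b hb => (isRTransInv_pt_iff_act ψ f b).1 (hg _ ((isRTransInv_iff ψ ψ' i b).2 hb))) ?_
  refine fixed_of_points (pull ψ ψ' i) fun q => ?_
  have h1 := (hv (e ψ k (toConv (q.comp (pull ψ ψ' i))))).2
    ⟨e ψ' k (toConv q), e_comp ψ ψ' i (toConv q)⟩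
  rw [rho_pt] at h1
  have h2 := congrArg (TensorProduct.lid k V) h1
  simpa using h2

end Groth.Agent.GMod80
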