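import Groth.Agent.GMod80.Alg
import Groth.Agent.GMod80.Observable
import Groth.Agent.Comod33.Connected
import Mathlib.RingTheory.FiniteType
import Mathlib.RingTheory.Adjoin.Basic

/-!
The transfer principle for invariants of subgroups of reductive groups.
-/

set_option autoImplicit false
set_option linter.unusedSectionVars false
set_option linter.style.haveILetI false

universe u v

open CategoryTheory MonoidalCategory CartesianMonoidalCategory MonObj GrpObj AlgebraicGeometry
open scoped TensorProduct
open WithConv TensorProduct

noncomputable section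

namespace Groth.Agent.GMod80

variable {k : Type u} [Field k] {A : Type u} [CommRing A] [HopfAlgebra k A]

section Left

theorem act_regular (g : WithConv (A →ₐ[k] k)) (x : A) :
    HopfRep.Comod.act k A A g.ofConv x = (toConv (AlgHom.id k A) * cst g).ofConv x := by
  rw [AlgHom.convMul_apply]
  change TensorProduct.rid k A (g.ofConv.toLinearMap.lTensor A (CoalgebraStruct.comul (R := k) x)) = _
  generalize CoalgebraStruct.comul (R := k) x = z
  induction z using TensorProduct.induction_on with
  | zero => simp
  | add p q hp hq => simp only [map_add, hp, hq]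
  | tmul p q => simp [cst, Algebra.smul_def, mul_comm]

theorem antipode_antipode' (a : A) :
    HopfAlgebra.antipodeAlgHom k A (HopfAlgebra.antipodeAlgHom k A a) = a :=
  congrArg (fun q : WithConv (A →ₐ[k] A) => q.ofConv a)
    (_root_.inv_inv (toConv (AlgHom.id k A)))

/-- The antipode as a linear automorphism. -/
def antipodeEquiv : A ≃ₗ[k] A :=
  LinearEquiv.ofLinearMap (HopfAlgebra.antipodeAlgHom k A).toLinearMap
    (HopfAlgebra.antipodeAlgHom k A).toLinearMap
    (LinearMap.ext antipode_antipode') (LinearMap.ext antipode_antipode')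

variable (k A) in
/-- Left translation on functions. -/
@[reducible] def leftReg : HopfRep.Comod k A A :=
  ComodTens.Comod.ofEquiv antipodeEquiv (HopfRep.Comod.regular k A)

theorem leftReg_coact (a : A) : (leftReg k A).coact a =
    (HopfAlgebra.antipodeAlgHom k A).toLinearMap.rTensor A
      (CoalgebraStruct.comul (R := k) (HopfAlgebra.antipodeAlgHom k A a)) := rfl

/-- The constants as a homomorphism of groups of points. -/
def cstHom : WithConv (A →ₐ[k] k) →* WithConv (A →ₐ[k] A) where
  toFun := cst
  map_one' := cst_one
  map_mul' := cst_mul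

theorem act_leftReg (g : WithConv (A →ₐ[k] k)) (a : A) :
    @HopfRep.Comod.act k A _ _ _ A _ _ (leftReg k A) g.ofConv a = ltr g⁻¹ a := by
  let S := HopfAlgebra.antipodeAlgHom k A
  have h1 : @HopfRep.Comod.act k A _ _ _ A _ _ (leftReg k A) g.ofConv a =
      S (HopfRep.Comod.act k A A g.ofConv (S a)) := by
    change TensorProduct.rid k A (g.ofConv.toLinearMap.lTensor A
      (S.toLinearMap.rTensor A (CoalgebraStruct.comul (R := k) (S a)))) =
      S (TensorProduct.rid k A (g.ofConv.toLinearMap.lTensor A
        (CoalgebraStruct.comul (R := k) (S a))))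
    generalize CoalgebraStruct.comul (R := k) (S a) = z
    induction z using TensorProduct.induction_on with
    | zero => simp
    | add p q hp hq => simp only [map_add, hp, hq]
    | tmul p q => simp
  have h2 : (toConv (S.comp (toConv (AlgHom.id k A) * cst g).ofConv) : WithConv (A →ₐ[k] A)) =
      (toConv (AlgHom.id k A))⁻¹ * cst g := by
    rw [AlgHom.comp_convMul_distrib, toConv_ofConv]
    congr 2
    ext z
    exact S.commutes _
  rw [h1, act_regular]
  change (toConv (S.comp (toConv (AlgHom.id k A) * cst g).ofConv))⁻¹.ofConv a = _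
  rw [h2, _root_.mul_inv_rev, _root_.inv_inv]
  change ((cstHom g)⁻¹ * toConv (AlgHom.id k A)).ofConv a = _
  rw [← map_inv]
  rfl

theorem leftReg_mul (x y : A) :
    (leftReg k A).coact (x * y) = (leftReg k A).coact x * (leftReg k A).coact y := by
  simp only [leftReg_coact, map_mul, Bialgebra.comul_mul]
  exact map_mul (Algebra.TensorProduct.map (HopfAlgebra.antipodeAlgHom k A) (AlgHom.id k A)) _ _

theorem leftReg_one : (leftReg k A).coact 1 = 1 := by
  rw [leftReg_coact, map_one, Bialgebra.comul_one]
  exact map_one (Algebra.TensorProduct.map (HopfAlgebra.antipodeAlgHom k A) (AlgHom.id k A))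

end Left

section Transfer

variable [IsAlgClosed k] [Algebra.FiniteType k A] [_root_.IsReduced A]
  {G : Over (Spec (CommRingCat.of k))} [GrpObj G] (ψ : sp k A ≅ G) [IsMonHom ψ.hom]
  {A' : Type u} [CommRing A'] [HopfAlgebra k A']
  {H : Over (Spec (CommRingCat.of k))} [GrpObj H] (ψ' : sp k A' ≅ H) [IsMonHom ψ'.hom]
  (i : H ⟶ G) [IsMonHom i]

/-- Functions invariant under right translation by the subgroup. -/
def invFns : Subalgebra k A :=
  AlgHom.equalizer
    ((Algebra.TensorProduct.map (AlgHom.id k A) (pull ψ ψ' i)).comp (Bialgebra.comulAlgHom k A))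
    Algebra.TensorProduct.includeLeft

theorem mem_invFns (a : A) : a ∈ invFns ψ ψ' i ↔ IsInvFn (pull ψ ψ' i) a := Iff.rfl

theorem ltr_mem_invFns (f : WithConv (A →ₐ[k] k)) {a : A} (ha : a ∈ invFns ψ ψ' i) :
    ltr f a ∈ invFns ψ ψ' i := by
  rw [mem_invFns, IsInvFn] at ha ⊢
  rw [← Bialgebra.comulAlgHom_apply k A (ltr f a), ← AlgHom.comp_apply, comul_ltr, AlgHom.comp_apply,
    Bialgebra.comulAlgHom_apply]
  have : ∀ z, (pull ψ ψ' i).toLinearMap.lTensor A
      (Algebra.TensorProduct.map (ltr f) (AlgHom.id k A) z) =
      (ltr f).toLinearMap.rTensor A' ((pull ψ ψ' i).toLinearMap.lTensor A z) := by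
    intro z
    induction z using TensorProduct.induction_on with
    | zero => simp
    | add p q hp hq => simp only [map_add, hp, hq]
    | tmul p q => simp
  rw [this, ha]
  rfl

theorem finiteType_invFns (h : AGF.SubringFGOver k G (AGF.rTransInv i)) :
    Algebra.FiniteType k (invFns ψ ψ' i) := by
  classical
  obtain ⟨s, hs, hle⟩ := h
  let t : Finset A := s.image (fn ψ).symm
  have heq : Algebra.adjoin k (t : Set A) = invFns ψ ψ' i := by
    refine le_antisymm (Algebra.adjoin_le ?_) fun a ha => ?_
    · intro a ha
      obtain ⟨f, hf, rfl⟩ := Finset.mem_image.1 ha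
      refine (mem_invFns ψ ψ' i _).2 ((isRTransInv_iff ψ ψ' i _).1 ?_)
      rw [RingEquiv.apply_symm_apply]
      exact hs hf
    · have h1 := hle ((isRTransInv_iff ψ ψ' i a).2 ((mem_invFns ψ ψ' i a).1 ha))
      have h2 : Subring.closure (Set.range (fun c : k =>
            G.hom.appTop ((Scheme.ΓSpecIso (CommRingCat.of k)).inv c)) ∪ ↑s) ≤
          (Algebra.adjoin k (t : Set A)).toSubring.map (fn ψ).toRingHom := by
        refine Subring.closure_le.2 ?_
        rintro x (⟨c, rfl⟩ | hx)
        · refine ⟨algebraMap k A c, Subalgebra.algebraMap_mem _ c, ?_⟩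
          have hw : (sch ψ).inv ≫ Spec.map (CommRingCat.ofHom (algebraMap k A)) = G.hom := Over.w ψ.inv
          change fn ψ (algebraMap k A c) =
            G.hom.appTop.hom ((Scheme.ΓSpecIso (CommRingCat.of k)).inv.hom c)
          rw [fn_apply, ← hw, Scheme.Hom.comp_appTop]
          change _ = (sch ψ).inv.appTop.hom
            ((Spec.map (CommRingCat.ofHom (algebraMap k A))).appTop.hom _)
          congr 1
          exact congrArg (fun q => q.hom c)
            (Scheme.ΓSpecIso_inv_naturality (CommRingCat.ofHom (algebraMap k A)))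
        · exact ⟨(fn ψ).symm x, Algebra.subset_adjoin (Finset.mem_image_of_mem _ hx),
            (fn ψ).apply_symm_apply x⟩
      obtain ⟨b, hb, hba⟩ := h2 h1
      rwa [← (fn ψ).injective hba]
  exact (Subalgebra.fg_iff_finiteType _).1 ⟨t, heq⟩

set_option maxHeartbeats 1000000 in
set_option synthInstance.maxHeartbeats 400000 in
include ψ ψ' in
theorem finiteType_fixed (hG : VecGrp.IsReductiveGrp k G) (thmA : VecGrp.ReductiveInvariantsFG k)
    (h : AGF.SubringFGOver k G (AGF.rTransInv i))
    (R : Type u) [CommRing R] [Algebra k R] [Algebra.FiniteType k R] (ρ : VecGrp.GMod G R)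
    (hρ : ρ.IsMult) : Algebra.FiniteType k ↥(ρ.fixedSubalgebra hρ i) := by
  classical
  let C := invFns ψ ψ' i
  let W := Subalgebra.toSubmodule C
  have hW : @HopfRep.IsSubcomod k A _ _ _ _ A _ _ (leftReg k A) W := by
    letI := leftReg k A
    refine Comod33.Conn.isSubcomod_of_forall_point (V := A) W fun g u hu => ?_
    change @HopfRep.Comod.act k A _ _ _ A _ _ (leftReg k A) g.ofConv u ∈ W
    rw [act_leftReg]
    exact ltr_mem_invFns ψ ψ' i _ hu
  let cC : HopfRep.Comod k A C := ComodSub.Comod.restr (leftReg k A) W hW
  let cR : HopfRep.Comod k A R := toComod ψ ρ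
  let val : C →ₐ[k] A := C.val
  have hinj : Function.Injective (Algebra.TensorProduct.map val (AlgHom.id k A)) :=
    Module.Flat.rTensor_preserves_injective_linearMap (M := A) val.toLinearMap
      Subtype.val_injective
  have hCc : ∀ c : C, Algebra.TensorProduct.map val (AlgHom.id k A) (cC.coact c) =
      (leftReg k A).coact (c : A) := fun c =>
    ComodSub.restr_coact_coe (leftReg k A) W hW c
  have hCmul : ∀ x y, cC.coact (x * y) = cC.coact x * cC.coact y := fun x y => hinj (by
    rw [map_mul (Algebra.TensorProduct.map val (AlgHom.id k A)), hCc, hCc, hCc, Subalgebra.coe_mul,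
      leftReg_mul])
  have hCone : cC.coact 1 = 1 := hinj (by
    rw [map_one (Algebra.TensorProduct.map val (AlgHom.id k A)), hCc, Subalgebra.coe_one, leftReg_one])
  let cD : HopfRep.Comod k A (R ⊗[k] C) := ComodTens.Comod.tensor cR cC
  let T : (R ⊗[k] A) ⊗[k] (C ⊗[k] A) →ₗ[k] (R ⊗[k] C) ⊗[k] A :=
    TensorProduct.map LinearMap.id (LinearMap.mul' k A) ∘ₗ
      (AlgebraTensorModule.tensorTensorTensorComm k k k k R A C A).toLinearMap
  have hT : ∀ r c, cD.coact (r ⊗ₜ[k] c) = T (cR.coact r ⊗ₜ[k] cC.coact c) := fun r c =>
    ComodTens.tensor_coact_tmul cR cC r c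
  let cRa : R →ₐ[k] R ⊗[k] A :=
    AlgHom.ofLinearMap cR.coact (coactOf_one ψ ρ hρ) (coactOf_mul ψ ρ hρ)
  let cCa : C →ₐ[k] C ⊗[k] A := AlgHom.ofLinearMap cC.coact hCone hCmul
  let DD : R ⊗[k] C →ₐ[k] (R ⊗[k] C) ⊗[k] A :=
    ((Algebra.TensorProduct.map (AlgHom.id k (R ⊗[k] C)) (Algebra.TensorProduct.lmul' k (S := A))).comp
      (Algebra.TensorProduct.tensorTensorTensorComm k k k k R A C A).toAlgHom).comp
      (Algebra.TensorProduct.map cRa cCa)
  have hDD : ∀ z, cD.coact z = DD z := fun z => by
    change cD.coact z = DD.toLinearMap z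
    congr 1
  have hDmul : ∀ x y, cD.coact (x * y) = cD.coact x * cD.coact y := fun x y => by
    rw [hDD, hDD, hDD]; exact map_mul DD x y
  have hDone : cD.coact 1 = 1 := by rw [hDD]; exact DD.toRingHom.map_one
  haveI hftD : Algebra.FiniteType k C → Algebra.FiniteType k (R ⊗[k] C) := fun hfC =>
    Algebra.FiniteType.trans (R := k) (S := R) (A := R ⊗[k] C) inferInstance inferInstance
  let ρD : VecGrp.GMod G (R ⊗[k] C) := ofComod ψ cD
  have hρD : ρD.IsMult := isMult_ofComod ψ cD hDmul hDone
  haveI : Algebra.FiniteType k C := finiteType_invFns ψ ψ' i h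
  obtain ⟨S, hS, hS'⟩ := thmA G hG (R ⊗[k] C) ρD hρD (hftD inferInstance)
  let π := pull ψ ψ' i
  let Φ : (R ⊗[k] C) →ₐ[k] R := Algebra.TensorProduct.lift (AlgHom.id k R)
    ((Algebra.ofId k R).comp ((Bialgebra.counitAlgHom k A).comp val)) (fun _ _ => Commute.all _ _)
  have hπC : ∀ c ∈ C, π c = algebraMap k A' (CoalgebraStruct.counit (R := k) c) := by
    intro c hc
    have h1 := congrArg ((TensorProduct.lid k A').toLinearMap ∘ₗ
      (CoalgebraStruct.counit (R := k) (A := A)).rTensor A') ((mem_invFns ψ ψ' i c).1 hc)
    rw [LinearMap.comp_apply, LinearMap.comp_apply, LinearMap.rTensor_tmul] at h1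
    change TensorProduct.lid k A' _ = TensorProduct.lid k A' _ at h1
    rw [TensorProduct.lid_tmul, ← Algebra.algebraMap_eq_smul_one] at h1
    rw [← h1]
    have h2 : ∀ z, TensorProduct.lid k A' ((CoalgebraStruct.counit (R := k) (A := A)).rTensor A'
        (π.toLinearMap.lTensor A z)) = π (TensorProduct.lid k A
          ((CoalgebraStruct.counit (R := k) (A := A)).rTensor A z)) := by
      intro z
      induction z using TensorProduct.induction_on with
      | zero => simp
      | add p q hp hq => simp only [map_add, hp, hq]
      | tmul p q => simp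
    rw [h2, Coalgebra.rTensor_counit_comul, TensorProduct.lid_tmul, one_smul]
  let P : WithConv (A' →ₐ[k] A') →* WithConv (A →ₐ[k] A') :=
    { toFun := fun q => toConv (q.ofConv.comp π)
      map_one' := (e ψ A').injective (by rw [← e_comp, map_one, map_one, MonObj.one_comp])
      map_mul' := fun q q' => (e ψ A').injective (by
        rw [← e_comp, map_mul, map_mul, ← e_comp, ← e_comp, MonObj.mul_comp]) }
  have hπS : ∀ a, π (HopfAlgebra.antipodeAlgHom k A a) = HopfAlgebra.antipodeAlgHom k A' (π a) :=
    fun a => congrArg (fun q : WithConv (A →ₐ[k] A') => q.ofConv a)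
      (map_inv P (toConv (AlgHom.id k A'))).symm
  have hΦ : ∀ d, TensorProduct.map Φ.toLinearMap π.toLinearMap (cD.coact d) =
      π.toLinearMap.lTensor R (cR.coact (Φ d)) := by
    intro d
    induction d using TensorProduct.induction_on with
    | zero => simp
    | add p q hp hq => simp only [map_add, hp, hq]
    | tmul r c =>
      have hkey : ∀ y : C ⊗[k] A, TensorProduct.lid k A' (TensorProduct.map
          ((Bialgebra.counitAlgHom k A).comp val).toLinearMap π.toLinearMap y) =
          π (TensorProduct.lid k A ((CoalgebraStruct.counit (R := k) (A := A)).rTensor A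
            (Algebra.TensorProduct.map val (AlgHom.id k A) y))) := by
        intro y
        induction y using TensorProduct.induction_on with
        | zero => simp
        | add p q hp hq => simp only [map_add, hp, hq]
        | tmul p q => simp
      have hc2 : π (TensorProduct.lid k A ((CoalgebraStruct.counit (R := k) (A := A)).rTensor A
            ((leftReg k A).coact (c : A)))) =
          algebraMap k A' (CoalgebraStruct.counit (R := k) (c : A)) := by
        have h3 : ∀ z, (CoalgebraStruct.counit (R := k) (A := A)).rTensor A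
            ((HopfAlgebra.antipodeAlgHom k A).toLinearMap.rTensor A z) =
            (CoalgebraStruct.counit (R := k) (A := A)).rTensor A z := by
          intro z
          induction z using TensorProduct.induction_on with
          | zero => simp
          | add p q hp hq => simp only [map_add, hp, hq]
          | tmul p q => simp
        rw [leftReg_coact, h3, Coalgebra.rTensor_counit_comul, TensorProduct.lid_tmul, one_smul,
          hπS, hπC _ c.2, AlgHom.commutes]
      rw [hT, show Φ (r ⊗ₜ[k] c) = r * algebraMap k R (CoalgebraStruct.counit (R := k) (c : A)) from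
          rfl, ← Algebra.commutes, ← Algebra.smul_def, map_smul, map_smul]
      have hy := hkey (cC.coact c)
      rw [hCc, hc2] at hy
      generalize cR.coact r = x
      induction x using TensorProduct.induction_on with
      | zero => simp
      | add p q hp hq => simp only [TensorProduct.add_tmul, map_add, smul_add, hp, hq]
      | tmul r₀ r₁ =>
        have : ∀ y : C ⊗[k] A, TensorProduct.map Φ.toLinearMap π.toLinearMap (T ((r₀ ⊗ₜ[k] r₁) ⊗ₜ[k] y)) =
            (r₀ ⊗ₜ[k] (π r₁ * TensorProduct.lid k A' (TensorProduct.map
              ((Bialgebra.counitAlgHom k A).comp val).toLinearMap π.toLinearMap y))) := by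
          intro y
          induction y using TensorProduct.induction_on with
          | zero => simp
          | add p q hp hq =>
            simp only [TensorProduct.tmul_add, map_add, mul_add, hp, hq]
          | tmul c₀ c₁ =>
            simp only [T, Φ, LinearMap.comp_apply, LinearEquiv.coe_coe,
              AlgebraTensorModule.tensorTensorTensorComm_tmul, TensorProduct.map_tmul,
              LinearMap.id_apply, LinearMap.mul'_apply, AlgHom.toLinearMap_apply,
              Algebra.TensorProduct.lift_tmul, AlgHom.id_apply, AlgHom.comp_apply, map_mul,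
              TensorProduct.lid_tmul, Algebra.ofId_apply]
            rw [← Algebra.commutes, ← Algebra.smul_def, TensorProduct.smul_tmul, mul_smul_comm]
        rw [this, hy]
        simp only [LinearMap.lTensor_tmul, AlgHom.toLinearMap_apply]
        rw [← Algebra.commutes, ← Algebra.smul_def, TensorProduct.tmul_smul]
  have hsub : ∀ d ∈ ρD.fixedUnder (𝟙 G), Φ d ∈ ρ.fixedUnder i := by
    intro d hd
    rw [mem_fixedUnder_id_iff ψ, coactOf_ofComod] at hd
    rw [mem_fixedUnder_iff ψ ρ ψ']
    refine (hΦ d).symm.trans ?_
    rw [hd, TensorProduct.map_tmul, AlgHom.toLinearMap_apply, AlgHom.toLinearMap_apply, map_one]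
  have hsurj : ∀ r ∈ ρ.fixedUnder i, ∃ d ∈ ρD.fixedUnder (𝟙 G), Φ d = r := by
    intro r hr
    have hr' := (mem_fixedUnder_iff ψ ρ ψ' i r).1 hr
    obtain ⟨z, hz⟩ := (Comod33.mem_range_lTensor_iff W (cR.coact r)).2 fun φ =>
      @isInvFn_cf k _ A _ _ A' _ _ π R _ _ cR r hr' φ
    refine ⟨z, ?_, ?_⟩
    · have hE : Function.Injective (val.toLinearMap.lTensor R) :=
        Module.Flat.lTensor_preserves_injective_linearMap (M := R) _ Subtype.val_injective
      have hact : ∀ g : A →ₐ[k] k, @HopfRep.Comod.act k A _ _ _ (R ⊗[k] C) _ _ cD g z = z := by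
        intro g
        apply hE
        have h1 : ∀ d, val.toLinearMap.lTensor R (@HopfRep.Comod.act k A _ _ _ (R ⊗[k] C) _ _ cD g d) =
            TensorProduct.map (@HopfRep.Comod.act k A _ _ _ R _ _ cR g) (ltr (toConv g)⁻¹).toLinearMap
              (val.toLinearMap.lTensor R d) := by
          intro d
          induction d using TensorProduct.induction_on with
          | zero => simp
          | add p q hp hq => simp only [map_add, hp, hq]
          | tmul r' c =>
            rw [LinearMap.lTensor_tmul, TensorProduct.map_tmul, AlgHom.toLinearMap_apply,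
              AlgHom.toLinearMap_apply, ← act_leftReg]
            change val.toLinearMap.lTensor R (TensorProduct.rid k (R ⊗[k] C)
              (g.toLinearMap.lTensor (R ⊗[k] C) (cD.coact (r' ⊗ₜ[k] c)))) = _
            rw [hT]
            change _ = TensorProduct.rid k R (g.toLinearMap.lTensor R (cR.coact r')) ⊗ₜ[k]
              TensorProduct.rid k A (g.toLinearMap.lTensor A ((leftReg k A).coact (c : A)))
            rw [← hCc]
            generalize cR.coact r' = x
            generalize cC.coact c = y
            induction x using TensorProduct.induction_on with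
            | zero => simp
            | add p q hp hq => simp only [TensorProduct.add_tmul, map_add, hp, hq]
            | tmul x₀ x₁ =>
              induction y using TensorProduct.induction_on with
              | zero => simp
              | add p q hp hq => simp only [TensorProduct.tmul_add, map_add, hp, hq]
              | tmul y₀ y₁ =>
                simp [T, TensorProduct.smul_tmul', TensorProduct.tmul_smul, mul_smul]
                rw [smul_comm]
        rw [h1, show val.toLinearMap.lTensor R z = cR.coact r from hz]
        apply (TensorProduct.comm k R A).injective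
        have h2 : ∀ x : R ⊗[k] A,
            TensorProduct.comm k R A (TensorProduct.map (@HopfRep.Comod.act k A _ _ _ R _ _ cR g)
              (ltr (toConv g)⁻¹).toLinearMap x) =
            ext' cR.coact (cst (toConv g)).ofConv
              (TensorProduct.comm k R A ((ltr (toConv g)⁻¹).toLinearMap.lTensor R x)) := by
          intro x
          induction x using TensorProduct.induction_on with
          | zero => simp
          | add p q hp hq => simp only [map_add, hp, hq]
          | tmul x₀ x₁ =>
            rw [LinearMap.lTensor_tmul, TensorProduct.comm_tmul, ext'_tmul, TensorProduct.map_tmul,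
              TensorProduct.comm_tmul]
            change _ = _ • TensorProduct.comm k R A
              ((cst (toConv g)).ofConv.toLinearMap.lTensor R (cR.coact x₀))
            change _ ⊗ₜ[k] TensorProduct.rid k R (g.toLinearMap.lTensor R (cR.coact x₀)) = _
            generalize cR.coact x₀ = y
            induction y using TensorProduct.induction_on with
            | zero => simp
            | add p q hp hq => simp only [map_add, TensorProduct.tmul_add, smul_add, hp, hq]
            | tmul y₀ y₁ =>
              simp [cst]
              rw [Algebra.algebraMap_eq_smul_one (g y₁), TensorProduct.smul_tmul', TensorProduct.smul_tmul',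
                smul_eq_mul, mul_smul_comm, _root_.mul_one]
        rw [h2]
        have h3 := LinearMap.congr_fun (ext'_mul cR (cst (toConv g)) (toConv (ltr (toConv g)⁻¹)))
          ((1 : A) ⊗ₜ[k] r)
        rw [LinearMap.comp_apply, ext'_tmul, ext'_tmul, one_smul, one_smul] at h3
        refine h3.symm.trans ?_
        have h4 : cst (toConv g) * toConv (ltr (toConv g)⁻¹) = toConv (AlgHom.id k A) := by
          rw [ltr, toConv_ofConv, ← _root_.mul_assoc, ← cst_mul, mul_inv_cancel, cst_one,
            _root_.one_mul]
        rw [h4]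
        change TensorProduct.comm k R A ((AlgHom.id k A).toLinearMap.lTensor R (cR.coact r)) = _
        rw [AlgHom.toLinearMap_id, LinearMap.lTensor_id]
        rfl
      rw [mem_fixedUnder_id_iff ψ, coactOf_ofComod]
      letI := cD
      have := fixed_of_points (AlgHom.id k A) (M := (R ⊗[k] C)) (m := z)
        (fun g => by rw [AlgHom.comp_id]; exact hact g)
      rwa [AlgHom.toLinearMap_id, LinearMap.lTensor_id] at this
    · have h1 := LinearMap.congr_fun cR.counit_comp r
      simp only [LinearMap.comp_apply, LinearMap.flip_apply, TensorProduct.mk_apply] at h1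
      rw [← hz] at h1
      have h2 := congrArg (TensorProduct.rid k R) h1
      rw [TensorProduct.rid_tmul, one_smul] at h2
      refine Eq.trans ?_ h2
      clear h1 h2 hz
      induction z using TensorProduct.induction_on with
      | zero => simp
      | add p q hp hq => simp only [map_add, hp, hq]
      | tmul p q =>
        change p * algebraMap k R (CoalgebraStruct.counit (R := k) (q : A)) = _
        simp [Algebra.smul_def, mul_comm, W]
  have heq : ρ.fixedSubalgebra hρ i = Algebra.adjoin k (Φ '' (S : Set (R ⊗[k] C))) := by
    refine le_antisymm (fun r hr => ?_) (Algebra.adjoin_le ?_)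
    · obtain ⟨d, hd, rfl⟩ := hsurj r hr
      rw [← AlgHom.map_adjoin]
      exact ⟨d, hS' hd, rfl⟩
    · rintro _ ⟨d, hd, rfl⟩
      exact hsub d (hS hd)
  refine (Subalgebra.fg_iff_finiteType _).1 ⟨S.image Φ, ?_⟩
  rw [heq, Finset.coe_image]

include ψ ψ' in
theorem subringFG_of_transfer
    (h : ∀ (R : Type u) [CommRing R] [Algebra k R] [Algebra.FiniteType k R] (ρ : VecGrp.GMod G R)
      (hρ : ρ.IsMult), Algebra.FiniteType k ↥(ρ.fixedSubalgebra hρ i)) :
    AGF.SubringFGOver k G (AGF.rTransInv i) := by
  classical
  let ρ : VecGrp.GMod G A := ofComod ψ (HopfRep.Comod.regular k A)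
  have hρ : ρ.IsMult := isMult_ofComod ψ _ (fun x y => Bialgebra.comul_mul x y) Bialgebra.comul_one
  obtain ⟨t, ht⟩ := (Subalgebra.fg_iff_finiteType _).2 (h A ρ hρ)
  have hiff : ∀ a : A, a ∈ ρ.fixedSubalgebra hρ i ↔ AGF.IsRTransInv i (fn ψ a) := fun a => by
    change a ∈ ρ.fixedUnder i ↔ _
    rw [mem_fixedUnder_iff ψ ρ ψ', coactOf_ofComod, isRTransInv_iff ψ ψ']
    rfl
  refine ⟨t.image (fn ψ), ?_, ?_⟩
  · intro f hf
    obtain ⟨a, ha, rfl⟩ := Finset.mem_image.1 hf
    exact (hiff a).1 (ht ▸ Algebra.subset_adjoin ha)
  · intro f hf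
    obtain ⟨a, rfl⟩ := (fn ψ).surjective f
    have ha : a ∈ Algebra.adjoin k (t : Set A) := ht.symm ▸ (hiff a).2 hf
    clear hf
    induction ha using Algebra.adjoin_induction with
    | mem x hx => exact Subring.subset_closure (Or.inr (Finset.mem_image_of_mem _ hx))
    | algebraMap c =>
      refine Subring.subset_closure (Or.inl ⟨c, ?_⟩)
      have hw : (sch ψ).inv ≫ Spec.map (CommRingCat.ofHom (algebraMap k A)) = G.hom := Over.w ψ.inv
      change G.hom.appTop.hom ((Scheme.ΓSpecIso (CommRingCat.of k)).inv.hom c) =
        fn ψ (algebraMap k A c)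
      rw [fn_apply, ← hw, Scheme.Hom.comp_appTop]
      change (sch ψ).inv.appTop.hom
        ((Spec.map (CommRingCat.ofHom (algebraMap k A))).appTop.hom _) = _
      congr 1
      exact (congrArg (fun q => q.hom c)
        (Scheme.ΓSpecIso_inv_naturality (CommRingCat.ofHom (algebraMap k A)))).symm
    | add x y _ _ hx hy => rw [map_add]; exact add_mem hx hy
    | mul x y _ _ hx hy => rw [map_mul]; exact mul_mem hx hy

end Transfer

end Groth.Agent.GMod80
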