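import Groth.Agent.GMod80.Character
import Groth.Agent.GMod80.Transfer
import Groth.Prelude.Def_W4bk4grossh111Obs
import Mathlib.RingTheory.Spectrum.Prime.Chevalley
import Mathlib.RingTheory.Jacobson.Ring

/-!
Characters as group-like functions; semi-invariant functions.
-/

set_option autoImplicit false
set_option linter.unusedSectionVars false
set_option linter.style.haveILetI false

universe u v

open CategoryTheory MonoidalCategory CartesianMonoidalCategory MonObj GrpObj AlgebraicGeometry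
open scoped TensorProduct
open WithConv TensorProduct

noncomputable section

namespace Groth.Agent.GMod80

open RedPts82

section Dict

variable {k : Type u} [Field k] {A : Type u} [CommRing A] [HopfAlgebra k A]
  {G : Over (Spec (CommRingCat.of k))} [GrpObj G] (ψ : sp k A ≅ G) [IsMonHom ψ.hom]

/-- The function of a character. -/
def charFn (χ : G ⟶ Red.Gm (Spec (CommRingCat.of k))) : A := (fn ψ).symm (Red.gmFn χ)

theorem chiVal_e (χ : G ⟶ Red.Gm (Spec (CommRingCat.of k))) (B : Type u) [CommRing B] [Algebra k B]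
    (g : WithConv (A →ₐ[k] B)) : VecGrp.chiVal χ (e ψ B g) = g.ofConv (charFn ψ χ) := by
  rw [VecGrp.chiVal, gmFn_eq, dsFn_comp, ← gmFn_eq]
  conv_lhs => rw [← (fn ψ).apply_symm_apply (Red.gmFn χ)]
  rw [appTop_fn, ← CommRingCat.comp_apply, Iso.inv_hom_id]
  rfl

theorem chiVal_mul (χ χ' : G ⟶ Red.Gm (Spec (CommRingCat.of k))) {B : Type u} [CommRing B]
    [Algebra k B] (h : VecGrp.pt k B ⟶ G) :
    VecGrp.chiVal (χ * χ') h = VecGrp.chiVal χ h * VecGrp.chiVal χ' h := by
  simp only [VecGrp.chiVal, MonObj.comp_mul, gmFn_mul, map_mul]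

theorem chiVal_one {B : Type u} [CommRing B] [Algebra k B] (h : VecGrp.pt k B ⟶ G) :
    VecGrp.chiVal (1 : G ⟶ Red.Gm (Spec (CommRingCat.of k))) h = 1 := by
  rw [VecGrp.chiVal, MonObj.comp_one, gmFn_eq, dsFn_one, map_one]

theorem isGroupLike_charFn (χ : G ⟶ Red.Gm (Spec (CommRingCat.of k))) [IsMonHom χ] :
    IsGroupLikeElem k (charFn ψ χ) := by
  have hmul : ∀ (B : Type u) [CommRing B] [Algebra k B] (g g' : WithConv (A →ₐ[k] B)),
      (g * g').ofConv (charFn ψ χ) = g.ofConv (charFn ψ χ) * g'.ofConv (charFn ψ χ) := by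
    intro B _ _ g g'
    rw [← chiVal_e, ← chiVal_e, ← chiVal_e, map_mul]
    rw [VecGrp.chiVal, VecGrp.chiVal, VecGrp.chiVal, MonObj.mul_comp _ _ χ, gmFn_mul, map_mul]
  refine ⟨?_, ?_⟩
  · have h1 := chiVal_e ψ χ k (1 : WithConv (A →ₐ[k] k))
    rw [map_one, VecGrp.chiVal, MonObj.one_comp χ, gmFn_eq, dsFn_one, map_one] at h1
    exact h1.symm
  · have h := hmul (A ⊗[k] A) (toConv Algebra.TensorProduct.includeLeft)
      (toConv Algebra.TensorProduct.includeRight)
    rw [← comulAlgHom_eq_lr] at h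
    refine (Eq.trans h ?_)
    simp

theorem charFn_mul_charFn_inv (χ : G ⟶ Red.Gm (Spec (CommRingCat.of k))) :
    charFn ψ χ * charFn ψ χ⁻¹ = 1 := by
  have h := chiVal_mul χ χ⁻¹ (e ψ A (toConv (AlgHom.id k A)))
  rw [mul_inv_cancel, chiVal_one, chiVal_e ψ χ, chiVal_e ψ χ⁻¹] at h
  exact h.symm

variable {A' : Type u} [CommRing A'] [HopfAlgebra k A'] {H : Over (Spec (CommRingCat.of k))}
  [GrpObj H] (ψ' : sp k A' ≅ H) [IsMonHom ψ'.hom] (i : H ⟶ G) [IsMonHom i]
  {M : Type u} [AddCommGroup M] [Module k M] (ρ : VecGrp.GMod G M)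

theorem semiInv_iff (χ : H ⟶ Red.Gm (Spec (CommRingCat.of k))) (m : M) :
    (∀ (B : Type u) [CommRing B] [Algebra k B] (h : VecGrp.pt k B ⟶ H),
      ρ.ρ B (h ≫ i) ((1 : B) ⊗ₜ[k] m) = VecGrp.chiVal χ h • ((1 : B) ⊗ₜ[k] m)) ↔
      (pull ψ ψ' i).toLinearMap.lTensor M (coactOf ψ ρ m) = m ⊗ₜ[k] charFn ψ' χ := by
  have key : ∀ (B : Type u) [CommRing B] [Algebra k B] (f : WithConv (A' →ₐ[k] B)),
      ρ.ρ B (e ψ' B f ≫ i) ((1 : B) ⊗ₜ[k] m) = TensorProduct.comm k M B
        (f.ofConv.toLinearMap.lTensor M ((pull ψ ψ' i).toLinearMap.lTensor M (coactOf ψ ρ m))) := by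
    intro B _ _ f
    rw [e_comp ψ, rho_eq, one_smul, ← LinearMap.comp_apply (f.ofConv.toLinearMap.lTensor M),
      ← LinearMap.lTensor_comp, ← AlgHom.comp_toLinearMap]
    rfl
  have key2 : ∀ (B : Type u) [CommRing B] [Algebra k B] (b : B),
      b • ((1 : B) ⊗ₜ[k] m) = b ⊗ₜ[k] m := fun B _ _ b => by
    rw [TensorProduct.smul_tmul', smul_eq_mul, _root_.mul_one]
  constructor
  · intro h
    have h1 := h A' (e ψ' A' (toConv (AlgHom.id k A')))
    rw [key, chiVal_e, key2, ofConv_toConv, AlgHom.toLinearMap_id, LinearMap.lTensor_id,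
      LinearMap.id_apply] at h1
    exact (TensorProduct.comm k M A').injective (h1.trans (TensorProduct.comm_tmul k M A' m _).symm)
  · intro h B _ _ g
    obtain ⟨f, rfl⟩ := (e ψ' B).surjective g
    rw [key, h, chiVal_e, key2, LinearMap.lTensor_tmul, TensorProduct.comm_tmul]
    rfl

end Dict

section Open

variable {k : Type u} [Field k] [IsAlgClosed k] {A : Type u} [CommRing A] [HopfAlgebra k A]
  [Algebra.FiniteType k A] [_root_.IsReduced A]
  {V : Type u} [AddCommGroup V] [Module k V] [Module.Finite k V] [HopfRep.Comod k A V]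

omit [Module.Finite k V] in
theorem ltr_cf (g : WithConv (A →ₐ[k] k)) (φ : V →ₗ[k] k) (v : V) :
    ltr g (Comod33.cf (A := A) φ v) =
      Comod33.cf (A := A) (φ ∘ₗ HopfRep.Comod.act k A V g.ofConv) v := by
  refine sub_eq_zero.1 (Comod33.Conn.eq_zero_of_forall_point (k := k) fun q => ?_)
  rw [map_sub, sub_eq_zero]
  have h2 : q.ofConv (ltr g (Comod33.cf (A := A) φ v)) = (g * q).ofConv (Comod33.cf (A := A) φ v) :=
    congrArg (fun p : WithConv (A →ₐ[k] k) => p.ofConv (Comod33.cf (A := A) φ v))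
      (point_comp_ltr q g)
  rw [h2, apply_cf' (g * q).ofConv φ v, apply_cf' q.ofConv _ v, LinearMap.comp_apply]
  exact congrArg φ (LinearMap.congr_fun (Comod33.act_mul g q) v)

omit [Module.Finite k V] in
theorem ltr_mem_adjoin (g : WithConv (A →ₐ[k] k)) (v : V) {a : A}
    (ha : a ∈ Algebra.adjoin k (Set.range fun φ : V →ₗ[k] k => Comod33.cf (A := A) φ v)) :
    ltr g a ∈ Algebra.adjoin k (Set.range fun φ : V →ₗ[k] k => Comod33.cf (A := A) φ v) := by
  have h1 : (Algebra.adjoin k (Set.range fun φ : V →ₗ[k] k => Comod33.cf (A := A) φ v)).map (ltr g) ≤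
      Algebra.adjoin k (Set.range fun φ : V →ₗ[k] k => Comod33.cf (A := A) φ v) := by
    rw [AlgHom.map_adjoin]
    refine Algebra.adjoin_mono ?_
    rintro _ ⟨_, ⟨φ, rfl⟩, rfl⟩
    exact ⟨φ ∘ₗ HopfRep.Comod.act k A V g.ofConv, (ltr_cf g φ v).symm⟩
  exact h1 ⟨a, ha, rfl⟩

/-- If a non-zero function is given, a non-zero coefficient polynomial of the vector vanishes at
every point whose orbit fibre lies in the zeros of the function. -/
theorem exists_orbit_fn' (v : V) (f : A) (hf0 : f ≠ 0) :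
    ∃ s ∈ Algebra.adjoin k (Set.range fun φ : V →ₗ[k] k => Comod33.cf (A := A) φ v), s ≠ 0 ∧
      ∀ x : WithConv (A →ₐ[k] k), (∀ y : WithConv (A →ₐ[k] k), HopfRep.Comod.act k A V x.ofConv v =
        HopfRep.Comod.act k A V y.ofConv v → y.ofConv f = 0) → x.ofConv s = 0 := by
  classical
  let R := Algebra.adjoin k (Set.range fun φ : V →ₗ[k] k => Comod33.cf (A := A) φ v)
  let b := Module.finBasis k V
  have hgen : R = Algebra.adjoin k (Set.range fun j => Comod33.cf (A := A) (b.coord j) v) := by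
    refine le_antisymm (Algebra.adjoin_le ?_) (Algebra.adjoin_mono ?_)
    · rintro _ ⟨φ, rfl⟩
      have : φ = ∑ j, φ (b j) • b.coord j := b.ext fun j => by
        simp [LinearMap.sum_apply, Finsupp.single_apply]
      have h2 : Comod33.cf (A := A) φ v = ∑ j, φ (b j) • Comod33.cf (A := A) (b.coord j) v := by
        conv_lhs => rw [this]
        simp only [Comod33.cf_apply]
        generalize HopfRep.Comod.coact (k := k) (A := A) v = z
        induction z using TensorProduct.induction_on with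
        | zero => simp
        | add p q hp hq => simp only [map_add, hp, hq, smul_add, Finset.sum_add_distrib]
        | tmul p q =>
          simp only [Comod33.lc_tmul, LinearMap.sum_apply, LinearMap.smul_apply, smul_eq_mul,
            Finset.sum_smul, mul_smul]
      rw [SetLike.mem_coe]
      change Comod33.cf (A := A) φ v ∈ _
      rw [h2]
      exact Subalgebra.sum_mem _ fun j _ =>
        Subalgebra.smul_mem _ (Algebra.subset_adjoin (Set.mem_range_self j)) _
    · rintro _ ⟨j, rfl⟩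
      exact ⟨_, rfl⟩
  haveI : Algebra.FiniteType k R := by
    refine (Subalgebra.fg_iff_finiteType _).1 ?_
    rw [hgen]
    exact ⟨(Set.finite_range _).toFinset, by rw [Set.Finite.coe_toFinset]⟩
  haveI : _root_.IsReduced R := isReduced_of_injective R.val Subtype.val_injective
  haveI : IsNoetherianRing R := Algebra.FiniteType.isNoetherianRing k R
  haveI : IsJacobsonRing A := isJacobsonRing_of_finiteType (A := k)
  have hltr : ∀ g : WithConv (A →ₐ[k] k), ∀ a ∈ R, ltr g a ∈ R := fun g a ha => ltr_mem_adjoin g v ha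
  let L : WithConv (A →ₐ[k] k) → (R →ₐ[k] R) := fun g =>
    ((ltr g).comp R.val).codRestrict R fun x => hltr g x x.2
  obtain ⟨P, hP⟩ : (minimalPrimes R).Nonempty := by
    haveI : Nontrivial A := nontrivial_of_ne f 0 hf0
    obtain ⟨⟨P, hP⟩⟩ := Ideal.nonempty_minimalPrimes (I := (⊥ : Ideal R)) bot_ne_top
    exact ⟨P, hP⟩
  obtain ⟨q, hq, hqP⟩ := Ideal.exists_comap_eq_of_mem_minimalPrimes_of_injective
    (f := R.val.toRingHom) Subtype.val_injective P hP
  obtain ⟨g, hg⟩ : ∃ g : WithConv (A →ₐ[k] k), ltr g f ∉ q := by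
    by_contra hall
    push Not at hall
    obtain ⟨y, hy⟩ : ∃ y : A →ₐ[k] k, y f ≠ 0 := by
      by_contra h
      push Not at h
      exact hf0 (Comod33.Conn.eq_zero_of_forall_point (k := k) fun x => h x.ofConv)
    obtain ⟨m, hm, hqm⟩ := Ideal.exists_le_maximal q hq.ne_top
    obtain ⟨x, hx⟩ := Comod33.Aug.exists_point_ker (k := k) m
    have h1 := hqm (hall (toConv y * (toConv x)⁻¹))
    rw [hx, RingHom.mem_ker, ← AlgHom.comp_apply] at h1
    have h2 := congrArg (fun p : WithConv (A →ₐ[k] k) => p.ofConv f)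
      (point_comp_ltr (toConv x) (toConv y * (toConv x)⁻¹))
    simp only [ofConv_toConv] at h2
    rw [h2, inv_mul_cancel_right] at h1
    exact hy h1
  let P' := P.comap (L g).toRingHom
  have hP' : P' ∈ minimalPrimes R := by
    haveI := hP.1.1
    have hLL : ∀ x, L g (L g⁻¹ x) = x ∧ L g⁻¹ (L g x) = x := fun x => by
      refine ⟨Subtype.ext ?_, Subtype.ext ?_⟩
      · change (ltr g).comp (ltr g⁻¹) (x : A) = _
        rw [ltr_ltr, inv_mul_cancel, ltr_one]; rfl
      · change (ltr g⁻¹).comp (ltr g) (x : A) = _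
        rw [ltr_ltr, mul_inv_cancel, ltr_one]; rfl
    refine ⟨⟨inferInstance, bot_le⟩, fun Q hQ hQle => ?_⟩
    haveI := hQ.1
    intro x hx
    have h1 : Q.comap (L g⁻¹).toRingHom ≤ P := fun z hz => by
      have := hQle hz
      change L g (L g⁻¹ z) ∈ P at this
      rwa [(hLL z).1] at this
    have h3 : L g⁻¹ (L g x) ∈ Q := hP.2 ⟨inferInstance, bot_le⟩ h1 hx
    rwa [(hLL x).2] at h3
  haveI := hP'.1.1
  let q' := q.comap (ltr g).toRingHom
  haveI : q'.IsPrime := inferInstance
  let pt : PrimeSpectrum R := ⟨P', inferInstance⟩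
  have hfp : R.val.toRingHom.FinitePresentation := by
    refine RingHom.FinitePresentation.of_finiteType.1 ?_
    exact (Algebra.FiniteType.of_restrictScalars_finiteType k R A :
      Algebra.FiniteType R A)
  let Im := PrimeSpectrum.comap R.val.toRingHom '' (PrimeSpectrum.basicOpen f : Set (PrimeSpectrum A))
  have hIm : Topology.IsConstructible Im :=
    PrimeSpectrum.isConstructible_comap_image hfp PrimeSpectrum.isConstructible_basicOpen
  have hmem : pt ∈ Im := by
    refine ⟨⟨q', inferInstance⟩, hg, PrimeSpectrum.ext ?_⟩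
    change (q.comap (ltr g).toRingHom).comap R.val.toRingHom = P.comap (L g).toRingHom
    rw [← hqP]
    rfl
  obtain ⟨S, hS⟩ := PrimeSpectrum.exists_constructibleSetData_iff.mpr hIm
  rw [← hS, PrimeSpectrum.ConstructibleSetData.toSet, Set.mem_iUnion₂] at hmem
  obtain ⟨C, hC, hptC⟩ := hmem
  rw [PrimeSpectrum.BasicConstructibleSetData.toSet, Set.mem_sdiff] at hptC
  obtain ⟨hg', hf'⟩ := hptC
  rw [PrimeSpectrum.mem_zeroLocus] at hg' hf'
  have hfP : C.f ∉ P' := fun h => hf' (Set.singleton_subset_iff.2 h)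
  obtain ⟨t, htP, ht⟩ : ∃ t, t ∉ P' ∧ ∀ a ∈ P', t * a = 0 := by
    have hfin : (minimalPrimes R).Finite := minimalPrimes.finite_of_isNoetherianRing R
    let J : Ideal R := (hfin.toFinset.erase P').inf id
    have hJ : ¬ J ≤ P' := fun h => by
      obtain ⟨Q, hQ, hle'⟩ := (Ideal.IsPrime.inf_le' (s := hfin.toFinset.erase P') (f := id)
        inferInstance).1 h
      obtain ⟨hne, hQS⟩ := Finset.mem_erase.1 hQ
      exact hne (le_antisymm hle' (hP'.2 (hfin.mem_toFinset.1 hQS).1 hle'))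
    obtain ⟨t, ht, htP⟩ := SetLike.not_le_iff_exists.1 hJ
    refine ⟨t, htP, fun a ha => ?_⟩
    have h1 : t * a ∈ sInf (minimalPrimes R) := by
      rw [Ideal.mem_sInf]
      intro Q hQ
      by_cases h : Q = P'
      · exact h ▸ P'.mul_mem_left _ ha
      · exact Q.mul_mem_right _
          ((Finset.inf_le (f := id) (Finset.mem_erase.2 ⟨h, hfin.mem_toFinset.2 hQ⟩)) ht)
    rw [show minimalPrimes R = (⊥ : Ideal R).minimalPrimes from rfl, Ideal.sInf_minimalPrimes] at h1
    exact (Ideal.isRadical_bot_iff.2 inferInstance) h1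
  refine ⟨((C.f * t : R) : A), (C.f * t).2, fun h => ?_, fun x hx => ?_⟩
  · have h1 : C.f * t = 0 := Subtype.ext h
    exact (Ideal.IsPrime.mem_or_mem inferInstance (h1 ▸ P'.zero_mem : C.f * t ∈ P')).elim hfP htP
  · by_contra hne
    let xR : R →+* k := x.ofConv.toRingHom.comp R.val.toRingHom
    haveI : (RingHom.ker xR).IsPrime := RingHom.ker_isPrime _
    have hne' : xR C.f ≠ 0 ∧ xR t ≠ 0 := by
      constructor <;> intro h <;> apply hne <;>
        change xR (C.f * t) = 0 <;> rw [map_mul, h] <;> simp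
    have hxIm : (⟨RingHom.ker xR, inferInstance⟩ : PrimeSpectrum R) ∈ Im := by
      rw [← hS, PrimeSpectrum.ConstructibleSetData.toSet, Set.mem_iUnion₂]
      refine ⟨C, hC, ?_⟩
      rw [PrimeSpectrum.BasicConstructibleSetData.toSet, Set.mem_sdiff,
        PrimeSpectrum.mem_zeroLocus, PrimeSpectrum.mem_zeroLocus]
      refine ⟨fun a ha => ?_, fun h => hne'.1 (RingHom.mem_ker.1 (h rfl))⟩
      have h1 := congrArg xR (ht a (hg' ha))
      rw [map_mul, map_zero] at h1
      exact RingHom.mem_ker.2 ((mul_eq_zero.1 h1).resolve_left hne'.2)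
    obtain ⟨⟨Q, hQ⟩, hfQ, hQeq⟩ := hxIm
    have hQR : Q.comap R.val.toRingHom = RingHom.ker xR := congrArg PrimeSpectrum.asIdeal hQeq
    obtain ⟨m, hQm, hm, hfm⟩ : ∃ m : Ideal A, Q ≤ m ∧ m.IsMaximal ∧ f ∉ m := by
      by_contra h
      push Not at h
      apply hfQ
      change f ∈ Q
      rw [← IsJacobsonRing.out' Q hQ.isRadical]
      exact Ideal.mem_sInf.2 fun {I} hI => h I hI.1 hI.2
    obtain ⟨y, hy⟩ := Comod33.Aug.exists_point_ker (k := k) m
    have hkey : ∀ a : R, y (a : A) = x.ofConv (a : A) := by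
      intro a
      let c := x.ofConv (a : A)
      have h1 : a - algebraMap k R c ∈ Q.comap R.val.toRingHom := by
        rw [hQR, RingHom.mem_ker, map_sub]
        change x.ofConv (a : A) - x.ofConv (algebraMap k A c) = 0
        rw [AlgHom.commutes]
        exact sub_self _
      have h2 : ((a : A) - algebraMap k A c) ∈ RingHom.ker y := by rw [← hy]; exact hQm h1
      rw [RingHom.mem_ker, map_sub, AlgHom.commutes, sub_eq_zero] at h2
      exact h2
    refine hfm (hy.symm ▸ RingHom.mem_ker.2 (hx (toConv y) ?_))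
    refine b.ext_elem fun j => ?_
    have := hkey ⟨Comod33.cf (A := A) (b.coord j) v, Algebra.subset_adjoin ⟨_, rfl⟩⟩
    simp only [apply_cf'] at this
    exact this.symm

/-- If the orbit map does not mix the zeros and non-zeros of a non-zero function, a non-zero
coefficient polynomial of the vector vanishes on its zeros. -/
theorem exists_orbit_fn (v : V) (f : A) (hf0 : f ≠ 0)
    (hsat : ∀ x y : WithConv (A →ₐ[k] k), HopfRep.Comod.act k A V x.ofConv v =
      HopfRep.Comod.act k A V y.ofConv v → f ∈ RingHom.ker x.ofConv → f ∈ RingHom.ker y.ofConv) :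
    ∃ s ∈ Algebra.adjoin k (Set.range fun φ : V →ₗ[k] k => Comod33.cf (A := A) φ v), s ≠ 0 ∧
      ∀ x : WithConv (A →ₐ[k] k), x.ofConv f = 0 → x.ofConv s = 0 := by
  obtain ⟨s, hs, hs0, h⟩ := exists_orbit_fn' (k := k) (A := A) v f hf0
  exact ⟨s, hs, hs0, fun x hx => h x fun y hxy =>
    RingHom.mem_ker.1 (hsat x y hxy (RingHom.mem_ker.2 hx))⟩

end Open

section Semi

variable {k : Type u} [Field k] [IsAlgClosed k] {A A' : Type u} [CommRing A] [HopfAlgebra k A]
  [Algebra.FiniteType k A] [_root_.IsReduced A] [CommRing A'] [HopfAlgebra k A']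
  [Algebra.FiniteType k A'] [_root_.IsReduced A'] (π : A →ₐc[k] A')

/-- If the subgroup is the stabiliser of a vector, the inverse of an occurring character occurs. -/
theorem exists_semi_inv {V : Type u} [AddCommGroup V] [Module k V] [Module.Finite k V]
    [HopfRep.Comod k A V] (v : V)
    (hv : ∀ g : WithConv (A →ₐ[k] k), HopfRep.Comod.act k A V g.ofConv v = v ↔
      ∃ q : A' →ₐ[k] k, q.comp (π : A →ₐ[k] A') = g.ofConv)
    (c c' : A') (hcc : c * c' = 1) (f : A) (hf0 : f ≠ 0)
    (hf : (π : A →ₐ[k] A').toLinearMap.lTensor A (CoalgebraStruct.comul (R := k) f) = f ⊗ₜ[k] c) :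
    ∃ q : A, q ≠ 0 ∧
      (π : A →ₐ[k] A').toLinearMap.lTensor A (CoalgebraStruct.comul (R := k) q) = q ⊗ₜ[k] c' := by
  classical
  let T : A →ₐ[k] A ⊗[k] A' :=
    (Algebra.TensorProduct.map (AlgHom.id k A) (π : A →ₐ[k] A')).comp (Bialgebra.comulAlgHom k A)
  have hT : ∀ a, T a =
      (π : A →ₐ[k] A').toLinearMap.lTensor A (CoalgebraStruct.comul (R := k) a) := fun a => rfl
  have hfix : (π : A →ₐ[k] A').toLinearMap.lTensor V
      (HopfRep.Comod.coact (k := k) (A := A) v) = v ⊗ₜ[k] (1 : A') :=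
    fixed_of_points (π : A →ₐ[k] A') fun q => (hv (toConv (q.comp (π : A →ₐ[k] A')))).2 ⟨q, rfl⟩
  have hTf : ∀ (x : WithConv (A →ₐ[k] k)) (q : A' →ₐ[k] k),
      (x * toConv (q.comp (π : A →ₐ[k] A'))).ofConv f = x.ofConv f * q c := by
    intro x q
    have h1 := congrArg (fun z => LinearMap.mul' k k
      (TensorProduct.map x.ofConv.toLinearMap q.toLinearMap z)) hf
    simp only [TensorProduct.map_tmul, LinearMap.mul'_apply, AlgHom.toLinearMap_apply] at h1
    rw [← h1, AlgHom.convMul_apply]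
    generalize CoalgebraStruct.comul (R := k) f = z
    induction z using TensorProduct.induction_on with
    | zero => simp
    | add p q hp hq => simp only [map_add, hp, hq]
    | tmul p q => simp
  obtain ⟨s, hsR, hs0, hsZ⟩ := exists_orbit_fn v f hf0 fun x y hxy hfx => by
    have h1 : HopfRep.Comod.act k A V (x⁻¹ * y).ofConv v = v := by
      calc HopfRep.Comod.act k A V (x⁻¹ * y).ofConv v
          = HopfRep.Comod.act k A V x⁻¹.ofConv (HopfRep.Comod.act k A V y.ofConv v) :=
            LinearMap.congr_fun (Comod33.act_mul _ _) v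
        _ = HopfRep.Comod.act k A V (x⁻¹ * x).ofConv v := by
            rw [← hxy]; exact (LinearMap.congr_fun (Comod33.act_mul _ _) v).symm
        _ = v := by rw [inv_mul_cancel, Comod33.act_one]; rfl
    obtain ⟨q, hq⟩ := (hv _).1 h1
    have h2 := hTf x q
    rw [hq, toConv_ofConv, mul_inv_cancel_left] at h2
    rw [RingHom.mem_ker] at hfx ⊢
    rw [h2, hfx, zero_mul]
  have hTs : T s = s ⊗ₜ[k] 1 := by
    have : Algebra.adjoin k (Set.range fun φ : V →ₗ[k] k => Comod33.cf (A := A) φ v) ≤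
        AlgHom.equalizer T (Algebra.TensorProduct.includeLeft : A →ₐ[k] A ⊗[k] A') := by
      refine Algebra.adjoin_le ?_
      rintro _ ⟨φ, rfl⟩
      exact isInvFn_cf (π : A →ₐ[k] A') hfix φ
    exact this hsR
  haveI : IsJacobsonRing A := isJacobsonRing_of_finiteType (A := k)
  obtain ⟨N, q₀, hq₀⟩ : ∃ N q₀, q₀ * f = s ^ N := by
    have : s ∈ (Ideal.span {f}).radical := by
      rw [Ideal.radical_eq_jacobson]
      refine Ideal.mem_sInf.2 fun {m} ⟨hfm, hm⟩ => ?_
      haveI := hm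
      obtain ⟨x, hx⟩ := Comod33.Aug.exists_point_ker (k := k) m
      rw [hx]
      refine RingHom.mem_ker.2 (hsZ (toConv x) ?_)
      have := hfm (Ideal.mem_span_singleton_self f)
      rw [hx] at this
      exact RingHom.mem_ker.1 this
    obtain ⟨N, hN⟩ := this
    obtain ⟨q₀, hq₀⟩ := Ideal.mem_span_singleton'.1 hN
    exact ⟨N, q₀, hq₀⟩
  refine ⟨q₀ * s ^ N, fun h => hs0 ?_, ?_⟩
  · have : s ^ (N + N) = 0 := by rw [pow_add]; nth_rw 1 [← hq₀]; rw [mul_right_comm, h, zero_mul]
    exact eq_zero_of_pow_eq_zero this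
  · rw [← hT, map_mul, map_pow, hTs]
    have h1 : T q₀ * (f ⊗ₜ[k] c) = (q₀ * f) ⊗ₜ[k] 1 := by
      rw [← hf, ← hT, ← map_mul, hq₀, map_pow, hTs, Algebra.TensorProduct.tmul_pow, one_pow]
    have h2 : T q₀ * (f ⊗ₜ[k] (1 : A')) = (q₀ * f) ⊗ₜ[k] c' := by
      have h3 := congrArg (fun z => z * ((1 : A) ⊗ₜ[k] c')) h1
      simp only [_root_.mul_assoc, Algebra.TensorProduct.tmul_mul_tmul, _root_.mul_one,
        _root_.one_mul, hcc] at h3
      exact h3
    rw [Algebra.TensorProduct.tmul_pow, one_pow, ← hq₀]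
    calc T q₀ * ((q₀ * f) ⊗ₜ[k] (1 : A'))
        = (q₀ ⊗ₜ[k] (1 : A')) * (T q₀ * (f ⊗ₜ[k] (1 : A'))) := by
          rw [mul_left_comm, Algebra.TensorProduct.tmul_mul_tmul, _root_.one_mul]
      _ = (q₀ * (q₀ * f)) ⊗ₜ[k] c' := by
          rw [h2, Algebra.TensorProduct.tmul_mul_tmul, _root_.one_mul]

end Semi

end Groth.Agent.GMod80
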