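import Groth.Agent.GMod80.Inv
import Groth.Agent.GMod80.GLHom

/-!
Epimorphic subgroups.
-/

set_option autoImplicit false
set_option linter.unusedSectionVars false
set_option linter.style.haveILetI false

universe u v

open CategoryTheory MonoidalCategory CartesianMonoidalCategory MonObj GrpObj AlgebraicGeometry
open scoped TensorProduct
open WithConv TensorProduct

noncomputable section

namespace Groth.Agent.GMod80

open Comod33 (cf dact)

variable {k : Type u} [Field k] {G : Over (Spec (CommRingCat.of k))} [GrpObj G]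
  {H : Over (Spec (CommRingCat.of k))} [GrpObj H] (i : H ⟶ G) [IsMonHom i]

instance (A : Type u) [CommRing A] [Algebra k A] : IsAffine (sp k A).left :=
  inferInstanceAs (IsAffine (Spec (CommRingCat.of A)))

/-- The constant function. -/
def constFn (c : k) : Γ(G.left, ⊤) :=
  G.hom.appTop ((Scheme.ΓSpecIso (CommRingCat.of k)).inv c)

theorem fn_algebraMap {A : Type u} [CommRing A] [HopfAlgebra k A] (ψ : sp k A ≅ G)
    [IsMonHom ψ.hom] (c : k) : fn ψ (algebraMap k A c) = constFn c := by
  have h : (sch ψ).inv ≫ Spec.map (CommRingCat.ofHom (algebraMap k A)) = G.hom := Over.w ψ.inv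
  change _ = G.hom.appTop.hom ((Scheme.ΓSpecIso (CommRingCat.of k)).inv.hom c)
  rw [fn_apply, ← h, Scheme.Hom.comp_appTop]
  change _ = (sch ψ).inv.appTop.hom
    ((Spec.map (CommRingCat.ofHom (algebraMap k A))).appTop.hom _)
  congr 1
  exact congrArg (fun q => q.hom c)
    (Scheme.ΓSpecIso_inv_naturality (CommRingCat.ofHom (algebraMap k A)))

variable (G) in
/-- Every invariant function is constant. -/
def OnlyConstants : Prop :=
  ∀ f : Γ(G.left, ⊤), ((G ◁ i) ≫ μ[G]).left.appTop f = (fst G H).left.appTop f →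
    ∃ c : k, f = G.hom.appTop ((Scheme.ΓSpecIso (CommRingCat.of k)).inv c)

theorem fixed_eq_of_onlyConstants [IsAffine G.left] [IsAffine H.left]
    (hb : OnlyConstants G i) (E : Type u) [AddCommGroup E] [Module k E] (ρ : VecGrp.GMod G E) :
    ρ.fixedUnder i = ρ.fixedUnder (𝟙 G) := by
  obtain ⟨A, _, _, ψ, _⟩ := exists_coord G
  obtain ⟨A', _, _, ψ', _⟩ := exists_coord H
  refine le_antisymm (fun m hm => ?_) (fun m hm B _ _ h => ?_)
  · letI := toComod ψ ρ
    refine (mem_fixedUnder_id_iff ψ ρ m).2 (Comod33.eq_of_lc fun φ => ?_)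
    rw [Comod33.lc_tmul]
    change cf (A := A) φ m = φ m • (1 : A)
    have hinv := isInvFn_cf (pull ψ ψ' i) ((mem_fixedUnder_iff ψ ρ ψ' i m).1 hm) φ
    obtain ⟨c, hc⟩ := hb _ ((isRTransInv_iff ψ ψ' i _).2 hinv)
    have hc' : cf (A := A) φ m = algebraMap k A c :=
      (fn ψ).injective (hc.trans (fn_algebraMap ψ c).symm)
    have := Comod33.counit_cf (A := A) φ m
    rw [hc', Bialgebra.counit_algebraMap] at this
    rw [hc', this, Algebra.algebraMap_eq_smul_one]
  · have := hm B (h ≫ i)
    rwa [Category.comp_id] at this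

theorem onlyConstants_of_fixed_eq [IsAffine G.left] [IsAffine H.left]
    (hc : ∀ (E : Type u) [AddCommGroup E] [Module k E] (ρ : VecGrp.GMod G E),
      ρ.fixedUnder i = ρ.fixedUnder (𝟙 G)) : OnlyConstants G i := by
  obtain ⟨A, _, _, ψ, _⟩ := exists_coord G
  obtain ⟨A', _, _, ψ', _⟩ := exists_coord H
  intro f hf
  obtain ⟨a, rfl⟩ := (fn ψ).surjective f
  have ha : a ∈ (ofComod ψ (HopfRep.Comod.regular k A)).fixedUnder i := by
    rw [mem_fixedUnder_iff ψ _ ψ', coactOf_ofComod]
    exact (isRTransInv_iff ψ ψ' i a).1 hf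
  rw [hc, mem_fixedUnder_id_iff ψ, coactOf_ofComod] at ha
  refine ⟨CoalgebraStruct.counit (R := k) a, ?_⟩
  rw [← constFn, ← fn_algebraMap ψ]
  congr 1
  have h := Coalgebra.rTensor_counit_comul (R := k) a
  rw [show CoalgebraStruct.comul (R := k) a = a ⊗ₜ[k] (1 : A) from ha,
    LinearMap.rTensor_tmul] at h
  have h' := congrArg (TensorProduct.lid k A) h
  rw [TensorProduct.lid_tmul, TensorProduct.lid_tmul, one_smul] at h'
  rw [Algebra.algebraMap_eq_smul_one, h']

theorem eq_of_onlyConstants (hb : OnlyConstants G i) {G' : Over (Spec (CommRingCat.of k))}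
    [GrpObj G'] [IsAffine G'.left] (r s : G ⟶ G') [IsMonHom r] [IsMonHom s]
    (hrs : i ≫ r = i ≫ s) : r = s := by
  suffices h : r * s⁻¹ = 1 from mul_inv_eq_one.1 h
  have h1 : ((G ◁ i) ≫ μ[G]) ≫ (r * s⁻¹) = fst G H ≫ (r * s⁻¹) := by
    have hm : (G ◁ i) ≫ μ[G] = fst G H * (snd G H ≫ i) := by
      rw [Hom.mul_def]
      congr 1
    rw [MonObj.comp_mul, GrpObj.comp_inv, MonObj.comp_mul, GrpObj.comp_inv, hm,
      MonObj.mul_comp, MonObj.mul_comp, Category.assoc, Category.assoc, hrs]
    group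
  apply Over.OverMorphism.ext
  refine ext_of_isAffine ?_
  ext f
  have hinv : ((G ◁ i) ≫ μ[G]).left.appTop ((r * s⁻¹).left.appTop f) =
      (fst G H).left.appTop ((r * s⁻¹).left.appTop f) := by
    have h2 := congrArg (fun q => q.left.appTop.hom f) h1
    simp only [Over.comp_left, Scheme.Hom.comp_appTop, CommRingCat.hom_comp, RingHom.comp_apply]
      at h2
    exact h2
  obtain ⟨c, hc⟩ := hb _ hinv
  change (r * s⁻¹).left.appTop.hom f = (1 : G ⟶ G').left.appTop.hom f
  rw [Hom.one_def, Over.comp_left, Scheme.Hom.comp_appTop, CommRingCat.hom_comp,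
    RingHom.comp_apply]
  refine hc.trans ?_
  rw [show (toUnit G).left = G.hom from rfl]
  change G.hom.appTop.hom _ = G.hom.appTop.hom _
  congr 1
  have h3 : η[G] ≫ (r * s⁻¹) = η[G'] := by
    rw [MonObj.comp_mul, GrpObj.comp_inv, IsMonHom.one_hom r, IsMonHom.one_hom s]
    have : η[G'] = (1 : 𝟙_ _ ⟶ G') := by
      rw [Hom.one_def, toUnit_unit, Category.id_comp]
    rw [this]
    group
  rw [← h3, Over.comp_left, Scheme.Hom.comp_appTop, CommRingCat.hom_comp, RingHom.comp_apply,
    show (r * s⁻¹).left.appTop.hom f = G.hom.appTop.hom _ from hc]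
  have h4 : η[G].left ≫ G.hom = 𝟙 _ := Over.w η[G]
  change _ = (G.hom.appTop ≫ η[G].left.appTop).hom _
  rw [← Scheme.Hom.comp_appTop, h4]
  rfl

theorem onlyConstants_of_epi [IsAffine G.left] [IsAffine H.left]
    (he : ∀ (G' : Over (Spec (CommRingCat.of k))) [GrpObj G'] [IsAffine G'.left] [Smooth G'.hom]
      (r s : G ⟶ G') [IsMonHom r] [IsMonHom s], i ≫ r = i ≫ s → r = s) :
    OnlyConstants G i := by
  classical
  obtain ⟨A, _, _, ψ, _⟩ := exists_coord G
  obtain ⟨A', _, _, ψ', _⟩ := exists_coord H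
  intro F hF
  obtain ⟨a, rfl⟩ := (fn ψ).surjective F
  have hainv := (isRTransInv_iff ψ ψ' i a).1 hF
  refine ⟨CoalgebraStruct.counit (R := k) a, ?_⟩
  rw [← constFn, ← fn_algebraMap ψ]
  congr 1
  obtain ⟨W, hfin, hle, hW⟩ := Comod33.exists_finite_subcomod_le (k := k) (A := A)
    (Submodule.span k {a})
  let cW : HopfRep.Comod k A W := ComodSub.Comod.restr (HopfRep.Comod.regular k A) W hW
  let cU : HopfRep.Comod k A (W × k) := ComodTens.Comod.prod cW (HopfRep.Comod.trivial k A k)
  let w : W := ⟨a, hle (Submodule.subset_span rfl)⟩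
  let u : (W × k) ≃ₗ[k] (W × k) :=
    { toFun := fun p => (p.1 + p.2 • w, p.2)
      invFun := fun p => (p.1 - p.2 • w, p.2)
      map_add' := fun p q => by simp [add_smul]; abel
      map_smul' := fun r p => by simp [smul_add, mul_smul]
      left_inv := fun p => by simp
      right_inv := fun p => by simp }
  let cS : HopfRep.Comod k A (W × k) := ComodTens.Comod.ofEquiv u cU
  let b := Module.finBasis k (W × k)
  let hr := @Comod33.Mat.isRep_mc k _ A _ _ (W × k) _ _ cU _ _ _ b
  let hs := @Comod33.Mat.isRep_mc k _ A _ _ (W × k) _ _ cS _ _ _ b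
  let r : G ⟶ sp k (CoordGrp.GLn (Module.finrank k (W × k)) k) := ψ.inv ≫ spHom (repBialg hr)
  let s : G ⟶ sp k (CoordGrp.GLn (Module.finrank k (W × k)) k) := ψ.inv ≫ spHom (repBialg hs)
  have : IsMonHom ψ.inv := inferInstance
  have hw : (pull ψ ψ' i).toLinearMap.lTensor W (cW.coact w) = w ⊗ₜ[k] (1 : A') := by
    apply Module.Flat.rTensor_preserves_injective_linearMap (M := A') W.subtype W.injective_subtype
    rw [LinearMap.rTensor_tmul]
    refine Eq.trans ?_ hainv
    rw [show CoalgebraStruct.comul (R := k) a = W.subtype.rTensor A (cW.coact w) from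
      (ComodSub.restr_coact_coe (HopfRep.Comod.regular k A) W hW w).symm]
    generalize cW.coact w = y
    induction y using TensorProduct.induction_on with
    | zero => simp
    | add p q hp hq => simp only [map_add, hp, hq]
    | tmul p q => simp
  have hcU : ∀ p : W × k, cU.coact p = (LinearMap.inl k W k).rTensor A (cW.coact p.1) +
      (0, p.2) ⊗ₜ[k] (1 : A) := fun p => by
    obtain ⟨x, y⟩ := p
    rw [show cU.coact (x, y) = _ from ComodTens.prod_coact cW (HopfRep.Comod.trivial k A k) x y]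
    congr 1
  have hcS : ∀ p : W × k, cS.coact p = cU.coact p +
      ((p.2 • w, (0 : k)) ⊗ₜ[k] (1 : A) -
        p.2 • (LinearMap.inl k W k).rTensor A (cW.coact w)) := fun p => by
    rw [show cS.coact p = (u : W × k →ₗ[k] W × k).rTensor A (cU.coact (u.symm p)) from rfl,
      hcU, hcU p, map_add, LinearMap.rTensor_tmul, ← LinearMap.rTensor_comp_apply]
    have hu : (u : W × k →ₗ[k] W × k) ∘ₗ LinearMap.inl k W k = LinearMap.inl k W k := by
      ext z <;> simp [u]
    rw [hu]
    change (LinearMap.inl k W k).rTensor A (cW.coact (p.1 - p.2 • w)) +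
      ((0 : W) + p.2 • w, p.2) ⊗ₜ[k] (1 : A) = _
    rw [map_sub, map_smul, map_sub, map_smul, zero_add,
      show ((p.2 • w, p.2) : W × k) = (0, p.2) + (p.2 • w, 0) from by simp, TensorProduct.add_tmul]
    abel
  have hagree : i ≫ r = i ≫ s := by
    rw [← cancel_epi ψ'.hom, ← e_id]
    refine (Category.assoc _ _ _).symm.trans (Eq.trans ?_ (Category.assoc _ _ _))
    change (e ψ' A' (toConv (AlgHom.id k A')) ≫ i) ≫ _ = (e ψ' A' (toConv (AlgHom.id k A')) ≫ i) ≫ _
    rw [e_comp ψ]
    change (Spec.mapMulEquiv _ ≫ ψ.hom) ≫ ψ.inv ≫ _ = (Spec.mapMulEquiv _ ≫ ψ.hom) ≫ ψ.inv ≫ _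
    rw [Category.assoc, Category.assoc, Iso.hom_inv_id_assoc, Iso.hom_inv_id_assoc, comp_spHom,
      comp_spHom]
    refine congrArg _ (congrArg toConv (gl_ext fun l j => ?_))
    simp only [AlgHom.comp_apply, AlgHom.id_apply]
    change pull ψ ψ' i (repBialg hr (CoordGrp.GLn.X l j)) =
      pull ψ ψ' i (repBialg hs (CoordGrp.GLn.X l j))
    rw [repBialg_X, repBialg_X]
    change pull ψ ψ' i (Comod33.lc (b.coord l) (cU.coact (b j))) =
      pull ψ ψ' i (Comod33.lc (b.coord l) (cS.coact (b j)))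
    have e1 : ∀ x, pull ψ ψ' i (Comod33.lc (b.coord l) x) =
        Comod33.lc (b.coord l) ((pull ψ ψ' i).toLinearMap.lTensor _ x) := fun x =>
      (Comod33.lc_lTensor (b.coord l) (pull ψ ψ' i).toLinearMap x).symm
    rw [e1, e1]
    congr 1
    rw [hcS, map_add, map_sub, map_smul, LinearMap.lTensor_tmul, AlgHom.toLinearMap_apply, map_one]
    have e2 : (pull ψ ψ' i).toLinearMap.lTensor (W × k)
        ((LinearMap.inl k W k).rTensor A (cW.coact w)) = ((w, (0 : k)) : W × k) ⊗ₜ[k] (1 : A') := by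
      rw [show ((w, (0 : k)) : W × k) ⊗ₜ[k] (1 : A') =
        (LinearMap.inl k W k).rTensor A' (w ⊗ₜ[k] (1 : A')) from rfl, ← hw]
      generalize cW.coact w = y
      induction y using TensorProduct.induction_on with
      | zero => simp
      | add p q hp hq => simp only [map_add, hp, hq]
      | tmul p q => simp
    rw [e2, TensorProduct.smul_tmul', Prod.smul_mk, smul_zero, sub_self, add_zero]
  have heq := he _ r s hagree
  have hX : ∀ l j, repBialg hr (CoordGrp.GLn.X l j) = repBialg hs (CoordGrp.GLn.X l j) := by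
    intro l j
    have h1 := (cancel_epi ψ.inv).1 heq
    have h2 := congrArg (fun q => Spec.mapMulEquiv.symm q) h1
    simp only [spHom, MulEquiv.symm_apply_apply] at h2
    exact congrArg (fun q : WithConv (CoordGrp.GLn _ k →ₐ[k] A) =>
      q.ofConv (CoordGrp.GLn.X l j)) h2
  have hcoact : cU.coact = cS.coact := by
    refine b.ext fun j => Comod33.eq_of_lc fun φ => ?_
    rw [show φ = ∑ l, φ (b l) • b.coord l from (b.sum_dual_apply_smul_coord φ).symm]
    have e3 : ∀ x, Comod33.lc (A := A) (∑ l, φ (b l) • b.coord l) x =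
        ∑ l, φ (b l) • Comod33.lc (b.coord l) x := fun x => by
      induction x using TensorProduct.induction_on with
      | zero => simp
      | add p q hp hq => simp only [map_add, smul_add, Finset.sum_add_distrib, hp, hq]
      | tmul p q =>
        simp only [Comod33.lc_tmul, LinearMap.sum_apply, LinearMap.smul_apply, Finset.sum_smul,
          smul_assoc]
    rw [e3, e3]
    refine Finset.sum_congr rfl fun l _ => ?_
    have := hX l j
    rw [repBialg_X, repBialg_X] at this
    exact congrArg _ this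
  let e5 : AddCommGroup ((W × k) ⊗[k] A) := TensorProduct.addCommGroup
  have h1 := hcS (0, 1)
  rw [← LinearMap.congr_fun hcoact, one_smul, one_smul] at h1
  replace h1 := sub_eq_zero.1 (left_eq_add.1 h1)
  have h2 := congrArg ((W.subtype ∘ₗ LinearMap.fst k W k).rTensor A) h1
  rw [LinearMap.rTensor_tmul, ← LinearMap.rTensor_comp_apply] at h2
  have e4 : (W.subtype ∘ₗ LinearMap.fst k W k) ∘ₗ LinearMap.inl k W k = W.subtype := by
    ext z; simp
  rw [e4, ComodSub.restr_coact_coe] at h2
  change a ⊗ₜ[k] (1 : A) = CoalgebraStruct.comul (R := k) a at h2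
  have h := Coalgebra.rTensor_counit_comul (R := k) a
  rw [← h2, LinearMap.rTensor_tmul] at h
  have h' := congrArg (TensorProduct.lid k A) h
  rw [TensorProduct.lid_tmul, TensorProduct.lid_tmul, one_smul] at h'
  rw [Algebra.algebraMap_eq_smul_one, h']

end Groth.Agent.GMod80
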