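import Groth.Agent.GMod80.CharPts
import Groth.Agent.Comod33.Chevalley
import Groth.Prelude.Def_ComodTens

/-!
Extension of representations of a subgroup in which the occurring characters have occurring inverses.
-/

set_option autoImplicit false
set_option linter.unusedSectionVars false
set_option linter.style.haveILetI false

universe u

open TensorProduct WithConv Matrix

noncomputable section

namespace Groth.Agent.GMod80.Extend

open Comod33 (cf lc)

section Det

variable {R : Type*} [CommRing R] {ι : Type*} [Fintype ι] [DecidableEq ι] {n : ℕ}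

/-- The product family sends a vector of minors to the vector of minors of the product. -/
theorem mulVec_detVec (G : Matrix ι ι R) (X : Matrix ι (Fin n) R) (I : Fin n → ι) :
    ((Matrix.of fun I J : Fin n → ι => ∏ l, G (I l) (J l)) *ᵥ fun J => (X.submatrix J id).det) I =
      ((G * X).submatrix I id).det := by
  have h : ((G * X).submatrix I id : Fin n → Fin n → R) = fun l => ∑ j, G (I l) j • X j := by
    funext l m
    simp [Matrix.submatrix_apply, Matrix.mul_apply, Finset.sum_apply]
  change _ = Matrix.detRowAlternating.toMultilinearMap _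
  rw [h, MultilinearMap.map_sum]
  simp only [MultilinearMap.map_smul_univ, Matrix.mulVec, dotProduct, Matrix.of_apply, smul_eq_mul]
  rfl

end Det

variable {k : Type u} [Field k] {A : Type u} [CommRing A] [HopfAlgebra k A]
  {A' : Type u} [CommRing A'] [HopfAlgebra k A'] (π : A →ₐc[k] A')

theorem map_act_regular (q : A' →ₐ[k] k) (a : A) :
    π (HopfRep.Comod.act k A A (q.comp (π : A →ₐ[k] A')) a) =
      HopfRep.Comod.act k A' A' q (π a) := by
  change π (TensorProduct.rid k A ((q.comp (π : A →ₐ[k] A')).toLinearMap.lTensor A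
    (CoalgebraStruct.comul (R := k) a))) =
    TensorProduct.rid k A' (q.toLinearMap.lTensor A' (CoalgebraStruct.comul (R := k) (π a)))
  rw [← CoalgHomClass.map_comp_comul_apply]
  generalize CoalgebraStruct.comul (R := k) a = z
  induction z using TensorProduct.induction_on with
  | zero => simp
  | add x y hx hy => simp only [map_add, hx, hy]
  | tmul x y =>
    simp [map_smul]

theorem act_comod_eq_mulVec {ι : Type} [Fintype ι] [DecidableEq ι] {c : ι → ι → A}
    (hc : Comod33.Mat.IsRep (k := k) c) (g : A →ₐ[k] k) (v : ι → k) :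
    @HopfRep.Comod.act k A _ _ _ (ι → k) _ _ (Comod33.Mat.comod hc) g v =
      Comod33.Mat.ev g c *ᵥ v := by
  funext i
  have h := Comod33.Mat.piScalarRight_lTensor (c := c) g v i
  simp only [Algebra.algebraMap_self, RingHom.id_apply] at h
  rw [← h]
  change TensorProduct.rid k (ι → k) (g.toLinearMap.lTensor (ι → k)
    (Comod33.Mat.repCoact (k := k) c v)) i = _
  generalize g.toLinearMap.lTensor (ι → k) (Comod33.Mat.repCoact (k := k) c v) = y
  induction y using TensorProduct.induction_on with
  | zero => simp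
  | add x y hx hy => simp only [map_add, Pi.add_apply, hx, hy]
  | tmul x r => simp [mul_comm]

theorem repr_act {V : Type u} [AddCommGroup V] [Module k V] [HopfRep.Comod k A V] {ι : Type}
    [Fintype ι] [DecidableEq ι] (b : Module.Basis ι k V) (g : A →ₐ[k] k) (x : V) :
    (fun i => b.repr (HopfRep.Comod.act k A V g x) i) =
      Comod33.Mat.ev g (Comod33.Mat.mc (A := A) b) *ᵥ fun j => b.repr x j := by
  funext i
  conv_lhs => rw [← b.sum_repr x]
  simp only [map_sum, map_smul, Finsupp.coe_finset_sum, Finset.sum_apply, Finsupp.coe_smul,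
    Pi.smul_apply, smul_eq_mul, Matrix.mulVec, dotProduct]
  refine Finset.sum_congr rfl fun j _ => ?_
  rw [Comod33.Mat.ev_apply, Comod33.Mat.mc, apply_cf' g (b.coord i) (b j), Module.Basis.coord_apply,
    mul_comm]

variable [IsAlgClosed k] [Algebra.FiniteType k A'] [_root_.IsReduced A']

theorem isComodHom_of_points {V W : Type u} [AddCommGroup V] [Module k V] [HopfRep.Comod k A' V]
    [AddCommGroup W] [Module k W] [HopfRep.Comod k A W] (Φ : V →ₗ[k] W)
    (h : ∀ (q : A' →ₐ[k] k) (v : V), HopfRep.Comod.act k A W (q.comp (π : A →ₐ[k] A')) (Φ v) =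
      Φ (HopfRep.Comod.act k A' V q v)) (v : V) :
    (π : A →ₐ[k] A').toLinearMap.lTensor W (HopfRep.Comod.coact (k := k) (A := A) (Φ v)) =
      Φ.rTensor A' (HopfRep.Comod.coact (k := k) (A := A') v) := by
  refine Comod33.eq_of_lc fun φ => ?_
  refine sub_eq_zero.1 (Comod33.Conn.eq_zero_of_forall_point (k := k) fun q => ?_)
  rw [map_sub, sub_eq_zero]
  have h2 : lc φ (Φ.rTensor A' (HopfRep.Comod.coact (k := k) (A := A') v)) =
      cf (A := A') (φ ∘ₗ Φ) v := by
    rw [Comod33.cf_apply]
    generalize HopfRep.Comod.coact (k := k) (A := A') v = y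
    induction y using TensorProduct.induction_on with
    | zero => simp
    | add x y hx hy => simp only [map_add, hx, hy]
    | tmul x r => simp
  rw [h2, Comod33.lc_lTensor, ← Comod33.cf_apply, AlgHom.toLinearMap_apply, ← AlgHom.comp_apply,
    apply_cf', apply_cf', h]
  rfl

/-- Occurrence of a function as the character of a semi-invariant vector. -/
def Occurs (χ : A') : Prop :=
  ∃ (U : Type u) (_ : AddCommGroup U) (_ : Module k U) (_ : HopfRep.Comod k A U)
    (_ : Module.Finite k U) (u : U), u ≠ 0 ∧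
      LinearMap.lTensor U (π : A →ₐ[k] A').toLinearMap (HopfRep.Comod.coact (k := k) (A := A) u) =
        u ⊗ₜ[k] χ

/-- A representation of a subgroup embeds equivariantly into one of the group if the inverse of each
occurring character occurs. -/
theorem exists_extension (hπ : Function.Surjective π)
    (hocc : ∀ χ : A', IsGroupLikeElem k χ → Occurs π χ → ∃ χ', χ' * χ = 1 ∧ Occurs π χ')
    (V : Type u) [AddCommGroup V] [Module k V] [Module.Finite k V] [HopfRep.Comod k A' V] :
    ∃ (W : Type u) (_ : AddCommGroup W) (_ : Module k W) (_ : Module.Finite k W)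
      (_ : HopfRep.Comod k A W) (Φ : V →ₗ[k] W), Function.Injective Φ ∧
      ∀ v, (π : A →ₐ[k] A').toLinearMap.lTensor W (HopfRep.Comod.coact (k := k) (A := A) (Φ v)) =
        Φ.rTensor A' (HopfRep.Comod.coact (k := k) (A := A') v) := by
  classical
  let bV := Module.finBasis k V
  let Φ₀ : V →ₗ[k] (Fin (Module.finrank k V) → A') := LinearMap.pi fun j => cf (A := A') (bV.coord j)
  choose sec hsec using hπ
  let t : Set A := Set.range fun p : Fin (Module.finrank k V) × Fin (Module.finrank k V) =>
    sec (Φ₀ (bV p.1) p.2)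
  haveI := Module.Finite.span_of_finite k (Set.finite_range fun p :
    Fin (Module.finrank k V) × Fin (Module.finrank k V) => sec (Φ₀ (bV p.1) p.2))
  obtain ⟨W₀, hfin, hle, hW⟩ := Comod33.exists_finite_subcomod_le (k := k) (A := A)
    (Submodule.span k t)
  let cW : HopfRep.Comod k A W₀ := ComodSub.Comod.restr (HopfRep.Comod.regular k A) W₀ hW
  letI c : HopfRep.Comod k A (Fin (Module.finrank k V) → W₀) := ComodTens.Comod.pi fun _ => cW
  let M := Fin (Module.finrank k V) → W₀
  have hproj : ∀ j, @Hoch.IsComodHom k _ A _ _ _ M _ _ c A _ _ _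
      (W₀.subtype ∘ₗ LinearMap.proj j) := fun a => by
    refine LinearMap.pi_ext' fun b => LinearMap.ext fun w => ?_
    simp only [LinearMap.comp_apply, LinearMap.single_apply]
    change _ = (W₀.subtype ∘ₗ LinearMap.proj a).rTensor A
      ((ComodTens.Comod.pi fun _ : Fin (Module.finrank k V) => cW).coact (Pi.single b w))
    rw [ComodTens.pi_coact_single, ← LinearMap.rTensor_comp_apply]
    by_cases hab : a = b
    · subst hab
      have h1 : (W₀.subtype ∘ₗ LinearMap.proj a) ∘ₗ
          LinearMap.single k (fun _ : Fin (Module.finrank k V) => W₀) a = W₀.subtype := by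
        ext; simp
      rw [h1]
      simp only [LinearMap.proj_apply, Pi.single_eq_same]
      exact LinearMap.congr_fun (ComodSub.isComodHom_subtype (HopfRep.Comod.regular k A) W₀ hW) w
    · have h1 : (W₀.subtype ∘ₗ LinearMap.proj a) ∘ₗ
          LinearMap.single k (fun _ : Fin (Module.finrank k V) => W₀) b = 0 := by
        ext x; simp [Pi.single_eq_of_ne hab]
      rw [h1]
      simp [Pi.single_eq_of_ne hab]
  let T : M →ₗ[k] (Fin (Module.finrank k V) → A') :=
    LinearMap.pi fun j => (π : A →ₐ[k] A').toLinearMap ∘ₗ W₀.subtype ∘ₗ LinearMap.proj j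
  let s : V →ₗ[k] M := bV.constr k fun l j =>
    ⟨sec (Φ₀ (bV l) j), hle (Submodule.subset_span ⟨(l, j), rfl⟩)⟩
  have hTs : T ∘ₗ s = Φ₀ := bV.ext fun l => funext fun j => by
    simp only [LinearMap.comp_apply, s, Module.Basis.constr_basis]
    exact hsec _
  have hT : ∀ (q : A' →ₐ[k] k) (m : M) (j),
      T (HopfRep.Comod.act k A M (q.comp (π : A →ₐ[k] A')) m) j =
        HopfRep.Comod.act k A' A' q (T m j) := by
    intro q m j
    have h1 : ((HopfRep.Comod.act k A M (q.comp (π : A →ₐ[k] A')) m) j : A) =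
        HopfRep.Comod.act k A A (q.comp (π : A →ₐ[k] A')) (m j : A) :=
      Comod33.IsComodHom.dact (hproj j) (q.comp (π : A →ₐ[k] A')).toLinearMap m
    change π _ = _
    rw [show (W₀.subtype ∘ₗ LinearMap.proj j) (HopfRep.Comod.act k A M
      (q.comp (π : A →ₐ[k] A')) m) = _ from h1]
    exact map_act_regular π q _
  have hΦ₀ : ∀ (q : A' →ₐ[k] k) (v : V) (j),
      Φ₀ (HopfRep.Comod.act k A' V q v) j = HopfRep.Comod.act k A' A' q (Φ₀ v j) := fun q v j =>
    Comod33.IsComodHom.dact (Comod33.isComodHom_cf (A := A') (V := V) (bV.coord j)) q.toLinearMap v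
  have hdiff : ∀ (q : A' →ₐ[k] k) (v : V),
      HopfRep.Comod.act k A M (q.comp (π : A →ₐ[k] A')) (s v) - s (HopfRep.Comod.act k A' V q v) ∈
        LinearMap.ker T := by
    intro q v
    rw [LinearMap.mem_ker, map_sub, sub_eq_zero]
    funext j
    rw [hT, show T (s v) = Φ₀ v from LinearMap.congr_fun hTs v,
      show T (s _) = Φ₀ (HopfRep.Comod.act k A' V q v) from LinearMap.congr_fun hTs _, hΦ₀]
  obtain ⟨d, e, b, hb⟩ := Comod33.Mat.exists_adapted_basis (LinearMap.ker T)
  let cM := Comod33.Mat.mc (A := A) b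
  have hker : ∀ (m : M) (i : Fin e), m ∈ LinearMap.ker T → b.repr m (Sum.inr i) = 0 := by
    intro m i hm
    rw [hb] at hm
    have : Submodule.span k (Set.range fun j => b (Sum.inl j)) ≤
        LinearMap.ker (b.coord (Sum.inr i)) := Submodule.span_le.2 (by rintro _ ⟨l, rfl⟩; simp)
    exact this hm
  have hH : ∀ (i : Fin e) (j : Fin d), π (cM (Sum.inr i) (Sum.inl j)) = 0 := by
    intro i j
    refine Comod33.Conn.eq_zero_of_forall_point (k := k) fun q => ?_
    change (q.ofConv.comp (π : A →ₐ[k] A')) (cf (A := A) (b.coord (Sum.inr i)) (b (Sum.inl j))) = 0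
    rw [apply_cf', Module.Basis.coord_apply]
    refine hker _ i (LinearMap.mem_ker.2 (funext fun l => ?_))
    rw [hT, show T (b (Sum.inl j)) = 0 from
      LinearMap.mem_ker.1 (hb ▸ Submodule.subset_span ⟨j, rfl⟩)]
    simp
  let χ : A' := (Comod33.Mat.ev (π : A →ₐ[k] A') cM).toBlocks₁₁.det
  have hc : Comod33.Mat.IsRep (k := k) cM := Comod33.Mat.isRep_mc b
  have hocc1 : Occurs π χ := by
    refine ⟨_, inferInstance, inferInstance, Comod33.Mat.comod (Comod33.Mat.isRep_pow hc d),
      inferInstance, Comod33.Mat.wedgeVec k d (Fin e), fun h => ?_, ?_⟩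
    · have := congrFun h Sum.inl
      simp [Comod33.Mat.wedgeVec_inl] at this
    · exact (Comod33.Mat.lTensor_repCoact_eq_iff (π : A →ₐ[k] A') _ χ).2
        (Comod33.Mat.forall_mulVec_wedgeVec_of_block _ hH)
  have hχ : IsGroupLikeElem k χ := by
    obtain ⟨U, _, _, _, _, u, hu, h⟩ := hocc1
    exact Comod33.Mat.isGroupLike_of_eigen π hu h
  obtain ⟨χ', hχχ, U, _, _, _, _, u, hu, hχ'⟩ := hocc χ hχ hocc1
  let bU := Module.finBasis k U
  let c₁ := fun I J : Fin (d + 1) → Fin d ⊕ Fin e => ∏ l, cM (I l) (J l)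
  let c₂ := Comod33.Mat.mc (A := A) bU
  have hc₁ : Comod33.Mat.IsRep (k := k) c₁ := Comod33.Mat.isRep_pow hc (d + 1)
  let c₃ := fun p q : (Fin (d + 1) → Fin d ⊕ Fin e) × Fin (Module.finrank k U) =>
    c₁ p.1 q.1 * c₂ p.2 q.2
  have hc₃ : Comod33.Mat.IsRep (k := k) c₃ :=
    Comod33.Mat.isRep_mul hc₁ (Comod33.Mat.isRep_mc bU)
  let X₀ : Matrix (Fin d ⊕ Fin e) (Fin (d + 1)) k :=
    Matrix.of fun i a => Fin.cases 0 (fun m => if i = Sum.inl m then 1 else 0) a
  let X : (Fin d ⊕ Fin e → k) → Matrix (Fin d ⊕ Fin e) (Fin (d + 1)) k :=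
    fun x => X₀.updateCol 0 x
  have hXsub : ∀ x (I : Fin (d + 1) → Fin d ⊕ Fin e),
      (X x).submatrix I id = (X₀.submatrix I id).updateCol 0 (x ∘ I) := by
    intro x I
    ext a a'
    by_cases ha : a' = 0 <;> simp [X, Matrix.updateCol_apply, ha]
  let Ψ : (Fin d ⊕ Fin e → k) →ₗ[k] ((Fin (d + 1) → Fin d ⊕ Fin e) → k) :=
    { toFun := fun x I => ((X x).submatrix I id).det
      map_add' := fun x y => funext fun I => by
        rw [Pi.add_apply, hXsub, hXsub, hXsub]
        exact Matrix.det_updateCol_add _ _ _ _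
      map_smul' := fun r x => funext fun I => by
        rw [RingHom.id_apply, Pi.smul_apply, hXsub, hXsub]
        exact Matrix.det_updateCol_smul _ _ _ _ }
  have hΨker : ∀ m : M, m ∈ LinearMap.ker T → Ψ (fun i => b.repr m i) = 0 := by
    intro m hm
    have h1 : (fun i => b.repr m i) = ∑ l : Fin d, b.repr m (Sum.inl l) • Pi.single (Sum.inl l) (1 : k) := by
      funext i
      rcases i with i | i
      · simp [Finset.sum_apply, Pi.single_apply]
      · simp [Finset.sum_apply, Pi.single_apply, hker m i hm]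
    rw [h1, map_sum]
    refine Finset.sum_eq_zero fun l _ => ?_
    rw [map_smul]
    refine smul_eq_zero_of_right _ (funext fun I => ?_)
    refine Matrix.det_zero_of_column_eq (i := 0) (j := l.succ) (Fin.succ_ne_zero l).symm fun a => ?_
    simp [X, X₀, Matrix.updateCol_apply, Pi.single_apply, Fin.succ_ne_zero]
  have hΨinr : ∀ (x : Fin d ⊕ Fin e → k) (i : Fin e),
      Ψ x (Fin.cons (Sum.inr i) Sum.inl) = x (Sum.inr i) := by
    intro x i
    change ((X x).submatrix _ id).det = _
    rw [Matrix.det_succ_row_zero, Finset.sum_eq_single 0]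
    · have : ((X x).submatrix (Fin.cons (Sum.inr i) Sum.inl) id).submatrix Fin.succ
          ((0 : Fin (d + 1)).succAbove) = 1 := by
        ext a a'
        simp [X, X₀, Matrix.updateCol_apply, Fin.succ_ne_zero, Matrix.one_apply]
      rw [this]
      simp [X, Matrix.updateCol_apply]
    · intro a _ ha
      obtain ⟨m, rfl⟩ := Fin.exists_succ_eq.2 ha
      simp [X, X₀, Matrix.updateCol_apply, Fin.succ_ne_zero]
    · simp
  have hcov : ∀ (q : A' →ₐ[k] k) (x : Fin d ⊕ Fin e → k),
      Comod33.Mat.ev (q.comp (π : A →ₐ[k] A')) c₁ *ᵥ Ψ x =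
        q χ • Ψ (Comod33.Mat.ev (q.comp (π : A →ₐ[k] A')) cM *ᵥ x) := by
    intro q x
    let G := Comod33.Mat.ev (q.comp (π : A →ₐ[k] A')) cM
    let N : Matrix (Fin (d + 1)) (Fin (d + 1)) k := Matrix.of fun a a' =>
      Fin.cases (Fin.cases (1 : k) (fun _ => 0) a')
        (fun l => Fin.cases (0 : k) (fun m => G (Sum.inl l) (Sum.inl m)) a') a
    have hGX : G * X x = X (G *ᵥ x) * N := by
      ext i a
      rw [Matrix.mul_apply, Matrix.mul_apply, Fin.sum_univ_succ]
      cases a using Fin.cases with
      | zero => simp [X, N, Matrix.updateCol_apply, Matrix.mulVec, dotProduct, Fin.succ_ne_zero]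
      | succ m =>
        rcases i with i | i
        · simp [X, X₀, N, Matrix.updateCol_apply, Fin.succ_ne_zero]
        · have h0 : G (Sum.inr i) (Sum.inl m) = 0 :=
            (congrArg q (hH i m)).trans (map_zero q)
          simp [X, X₀, N, Matrix.updateCol_apply, Fin.succ_ne_zero, h0]
    have hN : N.det = q χ := by
      rw [Matrix.det_succ_row_zero, Finset.sum_eq_single 0]
      · rw [show q χ = (q : A' →+* k) (Matrix.det _) from rfl, RingHom.map_det]
        simp only [N, Matrix.of_apply, Fin.cases_zero, Fin.val_zero, pow_zero, _root_.one_mul]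
        congr 1
      · intro a _ ha
        obtain ⟨m, rfl⟩ := Fin.exists_succ_eq.2 ha
        simp [N]
      · simp
    funext I
    have h1 : Comod33.Mat.ev (q.comp (π : A →ₐ[k] A')) c₁ =
        Matrix.of fun I J : Fin (d + 1) → Fin d ⊕ Fin e => ∏ l, G (I l) (J l) := by
      ext I J
      simp [Comod33.Mat.ev_apply, c₁, G]
    rw [h1]
    refine (mulVec_detVec G (X x) I).trans ?_
    rw [hGX, ← hN, Pi.smul_apply, smul_eq_mul]
    rw [show (X (G *ᵥ x) * N).submatrix I id = (X (G *ᵥ x)).submatrix I id * N from rfl,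
      Matrix.det_mul, mul_comm]
    rfl
  letI := Comod33.Mat.comod hc₃
  let Φ : V →ₗ[k] ((Fin (d + 1) → Fin d ⊕ Fin e) × Fin (Module.finrank k U) → k) :=
    { toFun := fun v p => Ψ (fun i => b.repr (s v) i) p.1 * bU.repr u p.2
      map_add' := fun v w => funext fun p => by
        rw [show (fun i => b.repr (s (v + w)) i) =
          (fun i => b.repr (s v) i) + (fun i => b.repr (s w) i) by ext; simp, map_add,
          Pi.add_apply, add_mul]
        rfl
      map_smul' := fun r v => funext fun p => by
        rw [show (fun i => b.repr (s (r • v)) i) = r • fun i => b.repr (s v) i by ext; simp,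
          map_smul, Pi.smul_apply, smul_mul_assoc]
        rfl }
  refine ⟨_, inferInstance, inferInstance, inferInstance, Comod33.Mat.comod hc₃, Φ, ?_, ?_⟩
  · refine (injective_iff_map_eq_zero Φ).2 fun v hv => ?_
    obtain ⟨j, hj⟩ : ∃ j, bU.repr u j ≠ 0 := by
      by_contra h
      push Not at h
      exact hu (bU.repr.injective (by rw [map_zero]; exact Finsupp.ext h))
    have h1 : ∀ i : Fin e, b.repr (s v) (Sum.inr i) = 0 := fun i => by
      have h2 : Ψ (fun l => b.repr (s v) l) (Fin.cons (Sum.inr i) Sum.inl) * bU.repr u j = 0 :=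
        congrFun hv (Fin.cons (Sum.inr i) Sum.inl, j)
      rw [hΨinr] at h2
      exact (mul_eq_zero.1 h2).resolve_right hj
    have hmem : s v ∈ LinearMap.ker T := by
      rw [hb, ← b.sum_repr (s v)]
      refine Submodule.sum_mem _ fun i _ => ?_
      rcases i with i | i
      · exact Submodule.smul_mem _ _ (Submodule.subset_span ⟨i, rfl⟩)
      · rw [h1, zero_smul]; exact Submodule.zero_mem _
    have h0 : Φ₀ v = 0 := (LinearMap.congr_fun hTs v).symm.trans hmem
    refine bV.ext_elem fun l => ?_
    have h4 := Comod33.counit_cf (A := A') (bV.coord l) v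
    rw [show cf (A := A') (bV.coord l) v = 0 from congrFun h0 l, map_zero] at h4
    simpa using h4.symm
  · refine isComodHom_of_points π Φ fun q v => ?_
    rw [act_comod_eq_mulVec hc₃]
    funext p
    let g := q.comp (π : A →ₐ[k] A')
    have hu' : ∀ i, (Comod33.Mat.ev g c₂ *ᵥ fun j => bU.repr u j) i = q χ' * bU.repr u i := by
      intro i
      have := Comod33.Mat.mulVec_repr_of_eigen bU g (v := u) (a := q χ') (by
        rw [show g.toLinearMap = q.toLinearMap ∘ₗ (π : A →ₐ[k] A').toLinearMap from rfl,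
          LinearMap.lTensor_comp, LinearMap.comp_apply, hχ', LinearMap.lTensor_tmul]
        rfl) i
      simpa using this
    have hsplit : (Comod33.Mat.ev g c₃ *ᵥ Φ v) p =
        (Comod33.Mat.ev g c₁ *ᵥ Ψ (fun i => b.repr (s v) i)) p.1 *
          (Comod33.Mat.ev g c₂ *ᵥ fun j => bU.repr u j) p.2 := by
      simp only [Matrix.mulVec, dotProduct, Comod33.Mat.ev_apply, c₃, Φ, LinearMap.coe_mk,
        AddHom.coe_mk, map_mul]
      rw [Fintype.sum_prod_type, Finset.sum_mul_sum]
      exact Finset.sum_congr rfl fun x _ => Finset.sum_congr rfl fun y _ => by ring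
    rw [hsplit, hcov, hu', Pi.smul_apply, smul_eq_mul, ← repr_act b g (s v)]
    have h3 : Ψ (fun i => b.repr (HopfRep.Comod.act k A M g (s v)) i) =
        Ψ (fun i => b.repr (s (HopfRep.Comod.act k A' V q v)) i) := by
      have h4 := hΨker _ (hdiff q v)
      rw [show (fun i => b.repr (HopfRep.Comod.act k A M g (s v) -
          s (HopfRep.Comod.act k A' V q v)) i) =
          (fun i => b.repr (HopfRep.Comod.act k A M g (s v)) i) -
            (fun i => b.repr (s (HopfRep.Comod.act k A' V q v)) i) by ext; simp,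
        map_sub, sub_eq_zero] at h4
      exact h4
    rw [h3]
    have hone : q χ' * q χ = 1 := by rw [← map_mul, hχχ, map_one]
    change _ = Ψ (fun i => b.repr (s (HopfRep.Comod.act k A' V q v)) i) p.1 * bU.repr u p.2
    linear_combination Ψ (fun i => b.repr (s (HopfRep.Comod.act k A' V q v)) i) p.1 *
      bU.repr u p.2 * hone

end Groth.Agent.GMod80.Extend
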