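import Groth.Agent.GMod80.Observable
import Mathlib.AlgebraicGeometry.Morphisms.Etale
import Mathlib.RingTheory.Etale.Basic

/-!
Modules of a clopen subgroup extend to the whole group.
-/

set_option autoImplicit false
set_option linter.unusedSectionVars false
set_option linter.style.haveILetI false

universe u v

open CategoryTheory MonoidalCategory CartesianMonoidalCategory MonObj GrpObj AlgebraicGeometry
open scoped TensorProduct
open WithConv TensorProduct

noncomputable section

namespace Groth.Agent.GMod80

open Comod33 (cf dact)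

variable {k : Type u} [Field k] {A : Type u} [CommRing A] [HopfAlgebra k A]
  {G : Over (Spec (CommRingCat.of k))} [GrpObj G] (ψ : sp k A ≅ G) [IsMonHom ψ.hom]
  {A' : Type u} [CommRing A'] [HopfAlgebra k A']
  {H : Over (Spec (CommRingCat.of k))} [GrpObj H] (ψ' : sp k A' ≅ H) [IsMonHom ψ'.hom]
  (i : H ⟶ G) [IsMonHom i]

theorem spec_pull :
    Spec.map (CommRingCat.ofHom (pull ψ ψ' i).toRingHom) =
      (sch ψ').hom ≫ i.left ≫ (sch ψ).inv := by
  have h := congrArg (fun q => q.left) (e_comp ψ ψ' i (toConv (AlgHom.id k A')))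
  rw [ofConv_toConv, AlgHom.id_comp, e_id] at h
  change (sch ψ').hom ≫ i.left = (e ψ A' (toConv (pull ψ ψ' i))).left at h
  rw [e_left] at h
  rw [← Category.assoc, h, Category.assoc, Iso.hom_inv_id]
  exact (Category.comp_id _).symm

theorem exists_indicator [IsClosedImmersion i.left] [IsOpenImmersion i.left]
    [LocallyOfFiniteType G.hom] :
    ∃ ε : A, IsIdempotentElem ε ∧ pull ψ ψ' i ε = 1 ∧
      ∀ a : A, pull ψ ψ' i a = 0 → ε * a = 0 := by
  have := finiteType ψ
  haveI : IsNoetherianRing A := Algebra.FiniteType.isNoetherianRing k A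
  have hsurj := pull_surjective ψ ψ' i
  algebraize [(pull ψ ψ' i).toRingHom]
  have : Etale (Spec.map (CommRingCat.ofHom (pull ψ ψ' i).toRingHom)) := by
    rw [spec_pull]; infer_instance
  rw [HasRingHomProperty.Spec_iff (P := @Etale)] at this
  have het : Algebra.Etale A A' := this
  have hidem : IsIdempotentElem (RingHom.ker (algebraMap A A')) :=
    (Algebra.FormallyEtale.iff_of_surjective hsurj).1 inferInstance
  obtain ⟨u, hu, hker⟩ :=
    (Ideal.isIdempotentElem_iff_of_fg _ (IsNoetherian.noetherian _)).1 hidem
  refine ⟨1 - u, hu.one_sub, ?_, fun a ha => ?_⟩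
  · have : u ∈ RingHom.ker (algebraMap A A') := hker ▸ Ideal.mem_span_singleton_self u
    rw [map_sub, map_one, show pull ψ ψ' i u = 0 from this, sub_zero]
  · have : a ∈ RingHom.ker (algebraMap A A') := ha
    rw [hker] at this
    obtain ⟨b, rfl⟩ := Ideal.mem_span_singleton'.1 this
    rw [sub_mul, _root_.one_mul, mul_comm b u, ← _root_.mul_assoc, hu.eq, sub_self]

/-- The points of the subgroup as points of the group. -/
def ptsMap : WithConv (A' →ₐ[k] k) →* WithConv (A →ₐ[k] k) where
  toFun q := toConv (q.ofConv.comp (pull ψ ψ' i))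
  map_one' := (e ψ k).injective (by rw [← e_comp, map_one, map_one, MonObj.one_comp])
  map_mul' q q' := (e ψ k).injective (by
    rw [← e_comp, map_mul, map_mul, ← e_comp, ← e_comp, MonObj.mul_comp])

theorem isInvFn_indicator [IsAlgClosed k] [Algebra.FiniteType k A'] [_root_.IsReduced A']
    [Algebra.FiniteType k A] [_root_.IsReduced A] (hs : Function.Surjective (pull ψ ψ' i))
    {ε : A} (hε : IsIdempotentElem ε) (h1 : pull ψ ψ' i ε = 1)
    (h0 : ∀ a : A, pull ψ ψ' i a = 0 → ε * a = 0) :
    IsInvFn (pull ψ ψ' i) ε := by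
  refine fixed_of_points (M := A) (pull ψ ψ' i) fun q => sub_eq_zero.1
    (Comod33.Conn.eq_zero_of_forall_point (k := k) fun g => ?_)
  let P := ptsMap ψ ψ' i
  have hP : ∀ q', (P q').ofConv ε = 1 := fun q' => by
    change q'.ofConv (pull ψ ψ' i ε) = 1
    rw [h1, map_one]
  have hsec : ∀ p : WithConv (A →ₐ[k] k), p.ofConv ε = 1 → ∃ q', P q' = p := by
    intro p hp
    have hk : ∀ a, a ∈ RingHom.ker (pull ψ ψ' i) → p.ofConv a = 0 := fun a ha => by
      have := congrArg p.ofConv (h0 a ha)
      rwa [map_mul, hp, _root_.one_mul, map_zero] at this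
    refine ⟨toConv ((Ideal.Quotient.liftₐ _ p.ofConv hk).comp
      (Ideal.quotientKerAlgEquivOfSurjective hs).symm.toAlgHom), ?_⟩
    apply WithConv.ofConv_injective
    refine AlgHom.ext fun a => ?_
    change Ideal.Quotient.liftₐ _ p.ofConv hk
      ((Ideal.quotientKerAlgEquivOfSurjective hs).symm (pull ψ ψ' i a)) = p.ofConv a
    rw [show (Ideal.quotientKerAlgEquivOfSurjective hs).symm (pull ψ ψ' i a) =
      Ideal.Quotient.mk (RingHom.ker (pull ψ ψ' i).toRingHom) a from
      (Ideal.quotientKerAlgEquivOfSurjective hs).symm_apply_eq.2 rfl]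
    rfl
  rw [map_sub, sub_eq_zero]
  let r : WithConv (A →ₐ[k] k) := P (toConv q)
  change g.ofConv (HopfRep.Comod.act k A A r.ofConv ε) = g.ofConv ε
  have hgr : g.ofConv (HopfRep.Comod.act k A A r.ofConv ε) = (g * r).ofConv ε := by
    rw [← Comod33.counit_act g.ofConv (HopfRep.Comod.act k A A r.ofConv ε),
      ← Comod33.counit_act (g * r).ofConv ε]
    exact congrArg _ (LinearMap.congr_fun (Comod33.act_mul g r) ε).symm
  rw [hgr]
  have h01 : ∀ p : WithConv (A →ₐ[k] k), p.ofConv ε = 0 ∨ p.ofConv ε = 1 := fun p =>
    IsIdempotentElem.iff_eq_zero_or_one.1 (hε.map p.ofConv)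
  rcases h01 g with hg | hg
  · rcases h01 (g * r) with hgr' | hgr'
    · rw [hg, hgr']
    · exfalso
      obtain ⟨q', hq'⟩ := hsec _ hgr'
      have : g = P (q' * (toConv q)⁻¹) := by
        rw [map_mul, map_inv, hq', mul_inv_cancel_right]
      rw [this, hP] at hg
      exact one_ne_zero hg
  · obtain ⟨q', rfl⟩ := hsec g hg
    rw [hg, ← map_mul, hP]

theorem extendsAlong [IsAlgClosed k] [Algebra.FiniteType k A'] [_root_.IsReduced A']
    [Algebra.FiniteType k A] [_root_.IsReduced A] (hs : Function.Surjective (pull ψ ψ' i))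
    {ε : A} (hε : IsIdempotentElem ε) (h1 : pull ψ ψ' i ε = 1)
    (h0 : ∀ a : A, pull ψ ψ' i a = 0 → ε * a = 0)
    {V : Type u} [AddCommGroup V] [Module k V] [Module.Finite k V] (σ : VecGrp.GMod H V) :
    σ.ExtendsAlong i := by
  classical
  letI cV : HopfRep.Comod k A' V := toComod ψ' σ
  let π := pull ψ ψ' i
  have hinv := isInvFn_indicator ψ ψ' i hs hε h1 h0
  let sec : A' → A := fun a' => ε * (hs a').choose
  have hsec : ∀ a, sec (π a) = ε * a := fun a => by
    have := h0 ((hs (π a)).choose - a)
      (by rw [map_sub, (hs (π a)).choose_spec, sub_self])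
    rwa [mul_sub, sub_eq_zero] at this
  let s : A' →ₗ[k] A :=
    { toFun := sec
      map_add' := fun x y => by
        obtain ⟨a, rfl⟩ := hs x
        obtain ⟨b, rfl⟩ := hs y
        rw [← map_add, hsec, hsec, hsec, mul_add]
      map_smul' := fun r x => by
        obtain ⟨a, rfl⟩ := hs x
        rw [RingHom.id_apply, ← map_smul, hsec, hsec, mul_smul_comm] }
  have hs_hom : ∀ a' : A', π.toLinearMap.lTensor A (CoalgebraStruct.comul (R := k) (s a')) =
      s.rTensor A' (CoalgebraStruct.comul (R := k) a') := by
    intro a'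
    obtain ⟨a, rfl⟩ := hs a'
    change π.toLinearMap.lTensor A (CoalgebraStruct.comul (R := k) (sec (π a))) = _
    rw [hsec, Bialgebra.comul_mul]
    rw [show CoalgebraStruct.comul (R := k) (π a) =
      TensorProduct.map π.toLinearMap π.toLinearMap (CoalgebraStruct.comul (R := k) a) from
      (LinearMap.congr_fun (pullBialg ψ ψ' i).map_comp_comul a).symm]
    have hmul : ∀ x y : A ⊗[k] A, π.toLinearMap.lTensor A (x * y) =
        π.toLinearMap.lTensor A x * π.toLinearMap.lTensor A y := fun x y =>
      map_mul (Algebra.TensorProduct.map (AlgHom.id k A) π) x y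
    rw [hmul, show π.toLinearMap.lTensor A (CoalgebraStruct.comul (R := k) ε) = _ from hinv]
    generalize CoalgebraStruct.comul (R := k) a = z
    induction z using TensorProduct.induction_on with
    | zero => simp
    | add p q hp hq => simp only [map_add, mul_add, hp, hq]
    | tmul p q =>
      rw [TensorProduct.map_tmul, LinearMap.rTensor_tmul, LinearMap.lTensor_tmul,
        Algebra.TensorProduct.tmul_mul_tmul, _root_.one_mul]
      exact congrArg (· ⊗ₜ[k] π q) (hsec p).symm
  let b := Module.finBasis k V
  let φ : Fin (Module.finrank k V) → V →ₗ[k] A := fun j => s ∘ₗ cf (A := A') (b.coord j)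
  haveI hfinU : Module.Finite k (⨆ j, LinearMap.range (φ j) : Submodule k A) := inferInstance
  obtain ⟨W, hfin, hle, hW⟩ := Comod33.exists_finite_subcomod_le (k := k) (A := A)
    (⨆ j, LinearMap.range (φ j))
  let cW : HopfRep.Comod k A W := ComodSub.Comod.restr (HopfRep.Comod.regular k A) W hW
  let c : HopfRep.Comod k A (Fin (Module.finrank k V) → W) := ComodTens.Comod.pi fun _ => cW
  let φW : Fin (Module.finrank k V) → V →ₗ[k] W := fun j =>
    (φ j).codRestrict W fun v => hle (Submodule.mem_iSup_of_mem j ⟨v, rfl⟩)
  let Φ : V →ₗ[k] (Fin (Module.finrank k V) → W) := LinearMap.pi φW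
  have hΦ : Function.Injective Φ := by
    refine (injective_iff_map_eq_zero Φ).2 fun v hv => b.ext_elem fun j => ?_
    have h2 : sec (cf (A := A') (b.coord j) v) = 0 :=
      congrArg Subtype.val (congrFun hv j)
    obtain ⟨a, ha⟩ := hs (cf (A := A') (b.coord j) v)
    rw [← ha, hsec] at h2
    have h3 := congrArg π h2
    rw [map_mul, h1, _root_.one_mul, map_zero, ha] at h3
    have h4 := Comod33.counit_cf (A := A') (b.coord j) v
    rw [h3, map_zero] at h4
    simpa using h4.symm
  refine ⟨Fin (Module.finrank k V) → W, inferInstance, inferInstance, inferInstance,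
    ofComod ψ c, Φ, hΦ, fun B _ _ h x => ?_⟩
  have hkey : ∀ v : V, π.toLinearMap.lTensor _ (c.coact (Φ v)) =
      Φ.rTensor A' (cV.coact v) := by
    intro v
    have hcomp : ∀ j, π.toLinearMap.lTensor W (cW.coact (φW j v)) =
        (φW j).rTensor A' (cV.coact v) := by
      intro j
      apply Module.Flat.rTensor_preserves_injective_linearMap (M := A') W.subtype
        W.injective_subtype
      rw [← LinearMap.rTensor_comp_apply, LinearMap.subtype_comp_codRestrict]
      have h5 : W.subtype.rTensor A' (π.toLinearMap.lTensor W (cW.coact (φW j v))) =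
          π.toLinearMap.lTensor A (W.subtype.rTensor A (cW.coact (φW j v))) := by
        generalize cW.coact (φW j v) = y
        induction y using TensorProduct.induction_on with
        | zero => simp
        | add p q hp hq => simp only [map_add, hp, hq]
        | tmul p q => simp
      rw [h5, ComodSub.restr_coact_coe]
      change π.toLinearMap.lTensor A (CoalgebraStruct.comul (R := k)
        (s (cf (A := A') (b.coord j) v))) = (s ∘ₗ cf (A := A') (b.coord j)).rTensor A' _
      rw [hs_hom, LinearMap.rTensor_comp_apply]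
      exact congrArg _ (LinearMap.congr_fun (Comod33.isComodHom_cf (A := A') (V := V) (b.coord j)) v)
    rw [show c.coact (Φ v) = _ from ComodTens.pi_coact (fun _ => cW) (Φ v), map_sum]
    have h6 : Φ.rTensor A' (cV.coact v) = ∑ j,
        (LinearMap.single k (fun _ => ↥W) j).rTensor A' ((φW j).rTensor A' (cV.coact v)) := by
      generalize cV.coact v = y
      induction y using TensorProduct.induction_on with
      | zero => simp
      | add p q hp hq => simp only [map_add, Finset.sum_add_distrib, hp, hq]
      | tmul p q =>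
        simp only [LinearMap.rTensor_tmul, ← TensorProduct.sum_tmul, LinearMap.single_apply]
        congr 1
        exact (Finset.univ_sum_single (Φ p)).symm
    rw [h6]
    refine Finset.sum_congr rfl fun j _ => ?_
    rw [← hcomp j]
    change π.toLinearMap.lTensor _ ((LinearMap.single k (fun _ => ↥W) j).rTensor A
      (cW.coact (φW j v))) = _
    generalize cW.coact (φW j v) = y
    induction y using TensorProduct.induction_on with
    | zero => simp
    | add p q hp hq => simp only [map_add, hp, hq]
    | tmul p q => simp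
  obtain ⟨f, rfl⟩ := (e ψ' B).surjective h
  rw [e_comp ψ]
  induction x using TensorProduct.induction_on with
  | zero => simp
  | add p q hp hq => simp only [map_add, hp, hq]
  | tmul r v =>
    rw [rho_eq ψ' σ, LinearMap.baseChange_tmul, ofComod_apply, map_smul, ofConv_toConv]
    congr 1
    change Φ.baseChange B (TensorProduct.comm k V B (f.ofConv.toLinearMap.lTensor V (cV.coact v))) =
      TensorProduct.comm k _ B ((f.ofConv.comp π).toLinearMap.lTensor _ (c.coact (Φ v)))
    rw [AlgHom.comp_toLinearMap, LinearMap.lTensor_comp_apply, hkey]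
    generalize cV.coact v = y
    induction y using TensorProduct.induction_on with
    | zero => simp
    | add p q hp hq => simp only [map_add, hp, hq]
    | tmul p q => simp

end Groth.Agent.GMod80
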