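import Groth.Agent.GMod80.Extend
import Groth.Agent.S16476

/-!
Observability, extension of representations, and characters.
-/

set_option autoImplicit false
set_option linter.unusedSectionVars false
set_option linter.style.haveILetI false

universe u

open CategoryTheory MonoidalCategory CartesianMonoidalCategory MonObj GrpObj AlgebraicGeometry
open scoped TensorProduct
open WithConv TensorProduct

noncomputable section

namespace Groth.Agent.GMod80

variable {k : Type u} [Field k] [IsAlgClosed k] {A : Type u} [CommRing A] [HopfAlgebra k A]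
  [Algebra.FiniteType k A] [_root_.IsReduced A]
  {G : Over (Spec (CommRingCat.of k))} [GrpObj G] [IsAffine G.left] [Smooth G.hom]
  (ψ : sp k A ≅ G) [IsMonHom ψ.hom]
  {A' : Type u} [CommRing A'] [HopfAlgebra k A'] [Algebra.FiniteType k A'] [_root_.IsReduced A']
  {H : Over (Spec (CommRingCat.of k))} [GrpObj H] [IsAffine H.left] [Smooth H.hom]
  (ψ' : sp k A' ≅ H) [IsMonHom ψ'.hom] (i : H ⟶ G) [IsMonHom i]

open Extend

theorem pullBialg_toAlgHom : (pullBialg ψ ψ' i : A →ₐ[k] A') = pull ψ ψ' i :=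
  AlgHom.ext fun _ => rfl

include ψ ψ' in
/-- If the inverse of each occurring character occurs, the subgroup is observable. -/
theorem isObservableIn_of_occurs (hs : Function.Surjective (pull ψ ψ' i))
    (hocc : ∀ χ : A', IsGroupLikeElem k χ → Occurs (pullBialg ψ ψ' i) χ →
      ∃ χ', χ' * χ = 1 ∧ Occurs (pullBialg ψ ψ' i) χ') : AGF.IsObservableIn k i := by
  obtain ⟨V, _, _, _, _, v, -, hrep, hfix⟩ := Groth.Agent.S16476.result k A A' (pullBialg ψ ψ' i)
    hs (fun χ hχ hoc => by
      obtain ⟨χ', h, hoc'⟩ := hocc χ hχ hoc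
      obtain ⟨U, _, _, _, _, u, hu, hu'⟩ := hoc'
      exact ⟨1, one_pos, χ', Comod33.Mat.isGroupLike_of_eigen (pullBialg ψ ψ' i) hu hu',
        by rw [pow_one]; exact h, U, _, _, _, inferInstance, u, hu, hu'⟩)
  intro g hg
  obtain ⟨f, rfl⟩ := (e ψ k).surjective g
  have h1 : HopfRep.Comod.act k A V f.ofConv v = v :=
    act_eq_self_of_invFn (pull ψ ψ' i) f.ofConv
      (fun b hb => (isRTransInv_pt_iff_act ψ f b).1 (hg _ ((isRTransInv_iff ψ ψ' i b).2 hb)))
      hfix
  have hker := (hrep k f.ofConv).2 ⟨1, (TensorProduct.rid k V).injective (by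
    rw [TensorProduct.rid_tmul, one_smul]; exact h1)⟩
  refine ⟨e ψ' k (toConv (AlgHom.liftOfSurjective (pull ψ ψ' i) hs f.ofConv hker)), ?_⟩
  rw [e_comp ψ]
  congr 1
  apply WithConv.ofConv_injective
  exact AlgHom.liftOfSurjective_comp (pull ψ ψ' i) hs f.ofConv hker

include ψ ψ' in
/-- An observable subgroup has the inverse of each occurring character occurring. -/
theorem occurs_inv_of_observable (hobs : AGF.IsObservableIn k i) (χ χ' : A') (hχ : χ * χ' = 1)
    (h : Occurs (pullBialg ψ ψ' i) χ) : Occurs (pullBialg ψ ψ' i) χ' := by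
  obtain ⟨V₀, _, _, _, ρ₀, v₀, hv₀⟩ := exists_stab i hobs
  letI := toComod ψ ρ₀
  have hv : ∀ g : WithConv (A →ₐ[k] k), HopfRep.Comod.act k A V₀ g.ofConv v₀ = v₀ ↔
      ∃ q : A' →ₐ[k] k, q.comp (pullBialg ψ ψ' i : A →ₐ[k] A') = g.ofConv := by
    intro g
    have h1 := hv₀ (e ψ k g)
    rw [rho_pt] at h1
    constructor
    · intro h2
      obtain ⟨h', hh'⟩ := h1.1 (by rw [h2])
      obtain ⟨q, rfl⟩ := (e ψ' k).surjective h'
      rw [e_comp ψ] at hh'
      exact ⟨q.ofConv, congrArg WithConv.ofConv ((e ψ k).injective hh')⟩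
    · rintro ⟨q, hq⟩
      have h2 := h1.2 ⟨e ψ' k (toConv q), by
        rw [e_comp ψ]
        exact congrArg (e ψ k) (WithConv.ofConv_injective hq)⟩
      simpa using congrArg (TensorProduct.lid k V₀) h2
  obtain ⟨U, _, _, cU, _, u, hu, heig⟩ := h
  obtain ⟨φ, hφ⟩ := Module.Projective.exists_dual_eq_one k hu
  let f := Comod33.cf (A := A) φ u
  have hf0 : f ≠ 0 := fun h0 => by
    have h3 := Comod33.counit_cf (A := A) φ u
    rw [show Comod33.cf (A := A) φ u = 0 from h0, map_zero, hφ] at h3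
    exact zero_ne_one h3
  have hf : (pullBialg ψ ψ' i : A →ₐ[k] A').toLinearMap.lTensor A
      (CoalgebraStruct.comul (R := k) f) = f ⊗ₜ[k] χ := by
    change (pullBialg ψ ψ' i : A →ₐ[k] A').toLinearMap.lTensor A
      (CoalgebraStruct.comul (R := k) (Comod33.cf (A := A) φ u)) = _
    rw [Comod33.comul_cf, ← LinearMap.comp_apply, LinearMap.lTensor_comp_rTensor,
      ← LinearMap.rTensor_comp_lTensor, LinearMap.comp_apply, heig, LinearMap.rTensor_tmul]
  obtain ⟨q, hq0, hq⟩ := exists_semi_inv (pullBialg ψ ψ' i) v₀ hv χ χ' hχ f hf0 hf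
  obtain ⟨W, hfin, hqW, hW⟩ := Comod33.exists_finite_subcomod_mem (k := k) (A := A) q
  refine ⟨W, inferInstance, inferInstance, ComodSub.Comod.restr (HopfRep.Comod.regular k A) W hW,
    hfin, ⟨q, hqW⟩, fun h0 => hq0 (congrArg Subtype.val h0), ?_⟩
  apply Module.Flat.rTensor_preserves_injective_linearMap (M := A') W.subtype W.injective_subtype
  rw [← LinearMap.comp_apply, LinearMap.rTensor_comp_lTensor, ← LinearMap.lTensor_comp_rTensor,
    LinearMap.comp_apply, ComodSub.restr_coact_coe, LinearMap.rTensor_tmul]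
  exact hq

include ψ ψ' in
/-- Representations extend if the inverse of each occurring character occurs. -/
theorem extendsAlong_of_occurs (hs : Function.Surjective (pull ψ ψ' i))
    (hocc : ∀ χ : A', IsGroupLikeElem k χ → Occurs (pullBialg ψ ψ' i) χ →
      ∃ χ', χ' * χ = 1 ∧ Occurs (pullBialg ψ ψ' i) χ')
    {V : Type u} [AddCommGroup V] [Module k V] [Module.Finite k V] (σ : VecGrp.GMod H V) :
    σ.ExtendsAlong i := by
  letI cV := toComod ψ' σ
  obtain ⟨W, _, _, _, c, Φ, hΦ, hkey⟩ :=
    Extend.exists_extension (pullBialg ψ ψ' i) hs hocc V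
  refine ⟨W, inferInstance, inferInstance, inferInstance, ofComod ψ c, Φ, hΦ, fun B _ _ h x => ?_⟩
  obtain ⟨f, rfl⟩ := (e ψ' B).surjective h
  rw [e_comp ψ]
  induction x using TensorProduct.induction_on with
  | zero => simp
  | add p q hp hq => simp only [map_add, hp, hq]
  | tmul r v =>
    rw [rho_eq ψ' σ, LinearMap.baseChange_tmul, ofComod_apply, map_smul, ofConv_toConv]
    congr 1
    change Φ.baseChange B (TensorProduct.comm k V B (f.ofConv.toLinearMap.lTensor V (cV.coact v))) =
      TensorProduct.comm k _ B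
        ((f.ofConv.comp (pull ψ ψ' i)).toLinearMap.lTensor _ (c.coact (Φ v)))
    rw [AlgHom.comp_toLinearMap, LinearMap.lTensor_comp_apply, ← pullBialg_toAlgHom, hkey]
    generalize cV.coact v = y
    induction y using TensorProduct.induction_on with
    | zero => simp
    | add p q hp hq => simp only [map_add, hp, hq]
    | tmul p q => simp

include ψ ψ' in
/-- If representations extend, the inverse of each occurring character occurs. -/
theorem exists_occurs_inv_of_extends
    (hext : ∀ (V : Type u) [AddCommGroup V] [Module k V] [Module.Finite k V]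
      (σ : VecGrp.GMod H V), σ.ExtendsAlong i)
    (χ : A') (hχ : IsGroupLikeElem k χ) :
    ∃ χ', χ' * χ = 1 ∧ Occurs (pullBialg ψ ψ' i) χ' := by
  let χ' := HopfAlgebraStruct.antipode k χ
  refine ⟨χ', hχ.antipode_mul_cancel, ?_⟩
  let c₁ : HopfRep.Comod k A' k := ComodTens.Comod.ofGroupLike χ' hχ.antipode
  obtain ⟨W, _, _, _, ρ, φ, hφ, heq⟩ := hext k (ofComod ψ' c₁)
  refine ⟨W, inferInstance, inferInstance, toComod ψ ρ, inferInstance, φ 1,
    fun h => one_ne_zero (hφ (h.trans (map_zero φ).symm)), ?_⟩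
  have h := heq A' (e ψ' A' (toConv (AlgHom.id k A'))) ((1 : A') ⊗ₜ[k] (1 : k))
  rw [ofComod_apply, e_comp ψ, LinearMap.baseChange_tmul, rho_eq ψ ρ, one_smul, one_smul,
    ofConv_toConv, AlgHom.id_comp] at h
  have h2 : TensorProduct.comm k W A' ((pullBialg ψ ψ' i : A →ₐ[k] A').toLinearMap.lTensor W
      (coactOf ψ ρ (φ 1))) = TensorProduct.comm k W A' (φ 1 ⊗ₜ[k] χ') := by
    rw [TensorProduct.comm_tmul, pullBialg_toAlgHom]
    refine Eq.trans h.symm ?_
    change φ.baseChange A' (TensorProduct.comm k k A'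
      ((AlgHom.id k A').toLinearMap.lTensor k (c₁.coact 1))) = _
    rw [show c₁.coact 1 = (1 : k) ⊗ₜ[k] χ' from rfl]
    simp
  exact (TensorProduct.comm k W A').injective h2

end Groth.Agent.GMod80
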