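import Groth.Agent.GMod80.ObsChar
import Groth.Agent.GMod80.FiniteIndex
import Groth.Agent.Grp57.Morph
import Groth.Agent.S11190
import Groth.Agent.S11193
import Mathlib.Algebra.Module.Submodule.Union
import Mathlib.RingTheory.Spectrum.Prime.Noetherian

/-!
Observability and subgroups of finite index.
-/

set_option autoImplicit false
set_option linter.unusedSectionVars false
set_option linter.style.haveILetI false

universe u

open CategoryTheory MonoidalCategory CartesianMonoidalCategory MonObj GrpObj AlgebraicGeometry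
open scoped TensorProduct
open WithConv TensorProduct

noncomputable section

namespace Groth.Agent.GMod80

section Restrict

variable {k : Type u} [Field k] {G H K : Over (Spec (CommRingCat.of k))} [GrpObj G] [GrpObj H]
  [GrpObj K] {M : Type u} [AddCommGroup M] [Module k M]

/-- Restriction of a module along a homomorphism. -/
def restrictMod (j : H ⟶ G) [IsMonHom j] (ρ : VecGrp.GMod G M) : VecGrp.GMod H M where
  ρ B _ _ := (ρ.ρ B).comp
    { toFun := fun h => h ≫ j
      map_one' := MonObj.one_comp j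
      map_mul' := fun a b => MonObj.mul_comp a b j }
  naturality {B B'} _ _ _ _ φ g x := by
    change _ = ρ.ρ B' ((VecGrp.ptMap φ ≫ g) ≫ j) _
    rw [Category.assoc]
    exact ρ.naturality φ (g ≫ j) x

theorem restrictMod_apply (j : H ⟶ G) [IsMonHom j] (ρ : VecGrp.GMod G M) (B : Type u) [CommRing B]
    [Algebra k B] (h : VecGrp.pt k B ⟶ H) : (restrictMod j ρ).ρ B h = ρ.ρ B (h ≫ j) := rfl

theorem extendsAlong_trans (i : H ⟶ G) [IsMonHom i] (j : K ⟶ H) [IsMonHom j]
    {V : Type u} [AddCommGroup V] [Module k V] (σ : VecGrp.GMod K V) (h₁ : σ.ExtendsAlong j)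
    (h₂ : ∀ (W : Type u) [AddCommGroup W] [Module k W] [Module.Finite k W]
      (τ : VecGrp.GMod H W), τ.ExtendsAlong i) : σ.ExtendsAlong (j ≫ i) := by
  obtain ⟨W, _, _, _, τ, φ, hφ, heq⟩ := h₁
  obtain ⟨U, _, _, _, ρ, φ', hφ', heq'⟩ := h₂ W τ
  refine ⟨U, inferInstance, inferInstance, inferInstance, ρ, φ'.comp φ, hφ'.comp hφ,
    fun B _ _ h x => ?_⟩
  rw [LinearMap.baseChange_comp, LinearMap.comp_apply, LinearMap.comp_apply, heq, heq',
    Category.assoc]

theorem extendsAlong_of_comp (i : H ⟶ G) [IsMonHom i] (j : K ⟶ H) [IsMonHom j]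
    {V : Type u} [AddCommGroup V] [Module k V] (σ : VecGrp.GMod K V)
    (h : σ.ExtendsAlong (j ≫ i)) : σ.ExtendsAlong j := by
  obtain ⟨U, _, _, _, ρ, φ, hφ, heq⟩ := h
  refine ⟨U, inferInstance, inferInstance, inferInstance, restrictMod i ρ, φ, hφ,
    fun B _ _ h x => ?_⟩
  rw [restrictMod_apply, Category.assoc]
  exact heq B h x

theorem isClosedImmersion_of_open_subgroup (j : H ⟶ G) [IsMonHom j] [IsOpenImmersion j.left] :
    IsClosedImmersion j.left :=
  .of_isPreimmersion _
    (Grp57.isClosed_range_of_isLocallyClosed j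
      (j.left.isOpenEmbedding.isOpen_range.isLocallyClosed))

end Restrict

section Norm

variable {k : Type u} [Field k] [IsAlgClosed k] {A : Type u} [CommRing A] [HopfAlgebra k A]
  [Algebra.FiniteType k A] [_root_.IsReduced A]
  {A' : Type u} [CommRing A'] [HopfAlgebra k A'] [Algebra.FiniteType k A'] [_root_.IsReduced A']

/-- Right translation by a rational point. -/
def rTransl (g : WithConv (A →ₐ[k] k)) : A →ₐ[k] A :=
  (Algebra.TensorProduct.rid k k A).toAlgHom.comp
    ((Algebra.TensorProduct.map (AlgHom.id k A) g.ofConv).comp (Bialgebra.comulAlgHom k A))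

theorem rTransl_eq_act (g : WithConv (A →ₐ[k] k)) (a : A) :
    rTransl g a = HopfRep.Comod.act k A A g.ofConv a := by
  change Algebra.TensorProduct.rid k k A (Algebra.TensorProduct.map (AlgHom.id k A) g.ofConv
      (CoalgebraStruct.comul (R := k) a)) =
    TensorProduct.rid k A (g.ofConv.toLinearMap.lTensor A (CoalgebraStruct.comul (R := k) a))
  generalize CoalgebraStruct.comul (R := k) a = z
  induction z using TensorProduct.induction_on with
  | zero => simp
  | add p q hp hq => simp only [map_add, hp, hq]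
  | tmul p q => simp

theorem rTransl_mul (g h : WithConv (A →ₐ[k] k)) (a : A) :
    rTransl (g * h) a = rTransl g (rTransl h a) := by
  rw [rTransl_eq_act, rTransl_eq_act, rTransl_eq_act]
  exact LinearMap.congr_fun (Comod33.act_mul g h) a

theorem apply_rTransl (x g : WithConv (A →ₐ[k] k)) (a : A) :
    x.ofConv (rTransl g a) = (x * g).ofConv a := by
  rw [rTransl_eq_act, ← Comod33.counit_act x.ofConv (HopfRep.Comod.act k A A g.ofConv a),
    ← Comod33.counit_act (x * g).ofConv a]
  exact congrArg _ (LinearMap.congr_fun (Comod33.act_mul x g) a).symm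

theorem finite_idempotents (k : Type u) [Field k] (A' : Type u) [CommRing A'] [Algebra k A']
    [Algebra.FiniteType k A'] [_root_.IsReduced A'] : Finite {e : A' // IsIdempotentElem e} := by
  haveI : IsNoetherianRing A' := Algebra.FiniteType.isNoetherianRing k A'
  haveI : Finite (minimalPrimes A') := (minimalPrimes.finite_of_isNoetherianRing A').to_subtype
  refine Finite.of_injective (fun (e : {e : A' // IsIdempotentElem e}) (P : minimalPrimes A') => e.1 ∈ P.1) fun e e' h => ?_
  refine Subtype.ext (sub_eq_zero.1 ?_)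
  have h1 : e.1 - e'.1 ∈ sInf (minimalPrimes A') := by
    rw [Ideal.mem_sInf]
    intro Q hQ
    haveI := hQ.1.1
    have hiff : e.1 ∈ Q ↔ e'.1 ∈ Q := iff_of_eq (congrFun h ⟨Q, hQ⟩)
    by_cases he : e.1 ∈ Q
    · exact Q.sub_mem he (hiff.1 he)
    · have h2 : (1 : A') - e.1 ∈ Q := (Ideal.IsPrime.mem_or_mem inferInstance
        (show (1 - e.1) * e.1 ∈ Q by rw [sub_mul, _root_.one_mul, e.2.eq, sub_self]; exact Q.zero_mem)
        ).resolve_right he
      have h3 : (1 : A') - e'.1 ∈ Q := (Ideal.IsPrime.mem_or_mem inferInstance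
        (show (1 - e'.1) * e'.1 ∈ Q by rw [sub_mul, _root_.one_mul, e'.2.eq, sub_self]; exact Q.zero_mem)
        ).resolve_right (mt hiff.2 he)
      simpa using Q.sub_mem h3 h2
  rw [show minimalPrimes A' = (⊥ : Ideal A').minimalPrimes from rfl, Ideal.sInf_minimalPrimes] at h1
  exact (Ideal.isRadical_bot_iff.2 inferInstance) h1

theorem exists_norm (π : A →ₐc[k] A') (P₀ : Subgroup (WithConv (A' →ₐ[k] k)))
    (ε : A') (hε : IsIdempotentElem ε)
    (hP₀ : ∀ p : WithConv (A' →ₐ[k] k), p ∈ P₀ ↔ p.ofConv ε = 1)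
    (χ : A') (hχ : IsGroupLikeElem k χ)
    {W : Type u} [AddCommGroup W] [Module k W] [HopfRep.Comod k A W] {w : W} (hw : w ≠ 0)
    (hweig : ∀ p ∈ P₀, HopfRep.Comod.act k A W (p.ofConv.comp (π : A →ₐ[k] A')) w =
      (p.ofConv χ)⁻¹ • w) :
    ∃ m : ℕ, 0 < m ∧ ∃ F : A, F ≠ 0 ∧
      (π : A →ₐ[k] A').toLinearMap.lTensor A (CoalgebraStruct.comul (R := k) F) =
        F ⊗ₜ[k] (HopfAlgebraStruct.antipode k χ ^ m) := by
  classical
  let pts : WithConv (A' →ₐ[k] k) →* WithConv (A →ₐ[k] k) :=
    { toFun := fun q => toConv (q.ofConv.comp (π : A →ₐ[k] A'))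
      map_one' := by
        apply WithConv.ofConv_injective
        ext a
        change algebraMap k k (CoalgebraStruct.counit (R := k) (π a)) = _
        rw [CoalgHomClass.counit_comp_apply]
        rfl
      map_mul' := fun q q' => by
        apply WithConv.ofConv_injective
        ext a
        change (q * q').ofConv (π a) = _
        rw [AlgHom.convMul_apply, AlgHom.convMul_apply, ← CoalgHomClass.map_comp_comul_apply]
        generalize CoalgebraStruct.comul (R := k) a = z
        induction z using TensorProduct.induction_on with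
        | zero => simp
        | add p q hp hq => simp only [map_add, hp, hq]
        | tmul p q => simp }
  haveI : Finite (WithConv (A' →ₐ[k] k) ⧸ P₀) := by
    haveI := finite_idempotents k A'
    refine Finite.of_injective (fun c => Quotient.liftOn' c
      (fun h => (⟨rTransl h ε, hε.map (rTransl h)⟩ : {e : A' // IsIdempotentElem e}))
      fun h h' hh => Subtype.ext ?_) fun c c' => ?_
    · obtain ⟨p, hp, rfl⟩ : ∃ p ∈ P₀, h' = h * p :=
        ⟨h⁻¹ * h', QuotientGroup.leftRel_apply.1 hh, (mul_inv_cancel_left h h').symm⟩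
      change rTransl h ε = rTransl (h * p) ε
      rw [rTransl_mul]
      congr 1
      refine (sub_eq_zero.1 (Comod33.Conn.eq_zero_of_forall_point (k := k) fun x => ?_)).symm
      rw [map_sub, apply_rTransl, sub_eq_zero]
      rcases IsIdempotentElem.iff_eq_zero_or_one.1 (hε.map x.ofConv) with h0 | h1
      · rcases IsIdempotentElem.iff_eq_zero_or_one.1 (hε.map (x * p).ofConv) with h0' | h1'
        · rw [h0, h0']
        · have hx : x ∈ P₀ := by
            simpa using P₀.mul_mem ((hP₀ _).2 h1') (P₀.inv_mem hp)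
          rw [(hP₀ x).1 hx] at h0
          exact absurd h0 one_ne_zero
      · rw [h1, (hP₀ _).1 (P₀.mul_mem ((hP₀ x).2 h1) hp)]
    · induction c using Quotient.inductionOn' with | _ h => ?_
      induction c' using Quotient.inductionOn' with | _ h' => ?_
      intro heq
      refine Quotient.sound' (QuotientGroup.leftRel_apply.2 ((hP₀ _).2 ?_))
      have h1 := congrArg (fun e : {e : A' // IsIdempotentElem e} => (h⁻¹).ofConv e.1) heq
      simp only [Quotient.liftOn'_mk'', apply_rTransl, inv_mul_cancel] at h1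
      rw [← h1]
      exact (hP₀ 1).1 P₀.one_mem
  letI : Fintype (WithConv (A' →ₐ[k] k) ⧸ P₀) := Fintype.ofFinite _
  let C := WithConv (A' →ₐ[k] k) ⧸ P₀
  let r : C → WithConv (A' →ₐ[k] k) := Quotient.out
  have hunit : ∀ q : WithConv (A' →ₐ[k] k), q.ofConv χ ≠ 0 := fun q =>
    ((hχ.isUnit).map q.ofConv).ne_zero
  have hχmul : ∀ q q' : WithConv (A' →ₐ[k] k), (q * q').ofConv χ = q.ofConv χ * q'.ofConv χ := by
    intro q q'
    rw [AlgHom.convMul_apply, hχ.comul_eq_tmul_self]
    simp
  obtain ⟨θ, hθ⟩ := Module.exists_dual_forall_apply_ne_zero (K := k)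
    (fun c : C => HopfRep.Comod.act k A W (pts (r c)).ofConv w) fun c h0 => hw (by
      have h1 := congrArg (HopfRep.Comod.act k A W (pts (r c))⁻¹.ofConv) h0
      rw [map_zero] at h1
      refine Eq.trans ?_ h1
      refine Eq.trans ?_ (LinearMap.congr_fun (Comod33.act_mul (pts (r c))⁻¹ (pts (r c))) w)
      rw [inv_mul_cancel, Comod33.act_one]
      rfl)
  let f := Comod33.cf (A := A) θ w
  let term : C → A := fun c => (r c).ofConv χ • rTransl (pts (r c)) f
  let F : A := ∏ c, term c
  have hF1 : CoalgebraStruct.counit (R := k) F ≠ 0 := by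
    rw [← Bialgebra.counitAlgHom_apply, map_prod, Finset.prod_ne_zero_iff]
    intro c _
    rw [Bialgebra.counitAlgHom_apply, map_smul, smul_eq_mul, rTransl_eq_act, Comod33.counit_act,
      apply_cf']
    exact mul_ne_zero (hunit _) (hθ c)
  have hfp : ∀ p ∈ P₀, rTransl (pts p) f = (p.ofConv χ)⁻¹ • f := by
    intro p hp
    refine sub_eq_zero.1 (Comod33.Conn.eq_zero_of_forall_point (k := k) fun x => ?_)
    rw [map_sub, map_smul, apply_rTransl, sub_eq_zero, apply_cf' (x * pts p).ofConv θ w,
      apply_cf' x.ofConv θ w]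
    rw [show HopfRep.Comod.act k A W (x * pts p).ofConv w =
      HopfRep.Comod.act k A W x.ofConv (HopfRep.Comod.act k A W (pts p).ofConv w) from
      LinearMap.congr_fun (Comod33.act_mul x (pts p)) w]
    rw [show HopfRep.Comod.act k A W (pts p).ofConv w = _ from hweig p hp, map_smul, map_smul]
  refine ⟨Fintype.card C, Fintype.card_pos, F, fun h0 => hF1 (by rw [h0, map_zero]), ?_⟩
  have hFh : ∀ h : WithConv (A' →ₐ[k] k),
      rTransl (pts h) F = ((h.ofConv χ)⁻¹) ^ Fintype.card C • F := by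
    intro h
    have hstep : ∀ c : C, rTransl (pts h) (term c) = (h.ofConv χ)⁻¹ • term (h • c) := by
      intro c
      obtain ⟨p, hp, hrp⟩ : ∃ p ∈ P₀, h * r c = r (h • c) * p := by
        refine ⟨(r (h • c))⁻¹ * (h * r c), QuotientGroup.eq.1 ?_,
          (mul_inv_cancel_left _ _).symm⟩
        rw [QuotientGroup.out_eq']
        conv_lhs => rw [← QuotientGroup.out_eq' c]
        rfl
      change rTransl (pts h) ((r c).ofConv χ • rTransl (pts (r c)) f) = _
      rw [map_smul, ← rTransl_mul, ← map_mul, hrp, map_mul, rTransl_mul, hfp p hp, map_smul,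
        smul_smul, smul_smul]
      congr 1
      have h2 := congrArg (fun q : WithConv (A' →ₐ[k] k) => q.ofConv χ) hrp
      simp only [hχmul] at h2
      field_simp [hunit p, hunit h]
      linear_combination h2
    calc rTransl (pts h) F = ∏ c, rTransl (pts h) (term c) := map_prod _ _ _
      _ = ∏ c, (h.ofConv χ)⁻¹ • term (h • c) := Finset.prod_congr rfl fun c _ => hstep c
      _ = (h.ofConv χ)⁻¹ ^ Fintype.card C • ∏ c, term (h • c) := by
          rw [Finset.prod_smul, Finset.prod_const, Finset.card_univ]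
      _ = _ := by
          congr 1
          exact Fintype.prod_equiv (MulAction.toPerm h) _ _ fun c => rfl
  refine Comod33.eq_of_lc fun φ => ?_
  refine sub_eq_zero.1 (Comod33.Conn.eq_zero_of_forall_point (k := k) fun q => ?_)
  rw [map_sub, sub_eq_zero, Comod33.lc_lTensor, show Comod33.lc φ (F ⊗ₜ[k] (HopfAlgebraStruct.antipode k χ ^ Fintype.card C)) = _ from Comod33.lc_tmul _ _ _, map_smul, map_pow]
  change (q.ofConv.comp (π : A →ₐ[k] A')) (Comod33.cf (A := A) φ F) = _
  rw [apply_cf', show HopfRep.Comod.act k A A (q.ofConv.comp (π : A →ₐ[k] A')) F = rTransl (pts q) F from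
    (rTransl_eq_act (pts q) F).symm]
  rw [hFh, map_smul, smul_eq_mul, smul_eq_mul]
  have hanti : q.ofConv (HopfAlgebraStruct.antipode k χ) = (q.ofConv χ)⁻¹ := by
    refine eq_inv_of_mul_eq_one_left ?_
    rw [← map_mul, hχ.antipode_mul_cancel, map_one]
  rw [hanti, mul_comm]

end Norm

section Main

variable {k : Type u} [Field k] [IsAlgClosed k] {G : Over (Spec (CommRingCat.of k))} [GrpObj G]
  [IsAffine G.left] [Smooth G.hom] {H : Over (Spec (CommRingCat.of k))} [GrpObj H] [Smooth H.hom]
  (i : H ⟶ G) [IsMonHom i] [IsClosedImmersion i.left]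
  {H₀ : Over (Spec (CommRingCat.of k))} [GrpObj H₀] [Smooth H₀.hom] (j : H₀ ⟶ H) [IsMonHom j]
  [IsOpenImmersion j.left]

theorem isObservableIn_comp_open (h : AGF.IsObservableIn k i) :
    AGF.IsObservableIn k (j ≫ i) := by
  haveI := isClosedImmersion_of_open_subgroup j
  haveI : IsAffine H.left := isAffine_of_isAffineHom i.left
  haveI : IsClosedImmersion (j ≫ i).left := by rw [Over.comp_left]; infer_instance
  refine (Groth.Agent.S11190.result k G H₀ (j ≫ i)).2 fun V _ _ _ σ => ?_
  exact extendsAlong_trans i j σ (Groth.Agent.S11193.result k H H₀ j V σ)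
    fun W _ _ _ τ => (Groth.Agent.S11190.result k G H i).1 h W τ

theorem isObservableIn_of_open (h : AGF.IsObservableIn k (j ≫ i)) :
    AGF.IsObservableIn k i := by
  classical
  haveI := isClosedImmersion_of_open_subgroup j
  haveI : IsAffine H.left := isAffine_of_isAffineHom i.left
  haveI : IsAffine H₀.left := isAffine_of_isAffineHom j.left
  haveI : IsClosedImmersion (j ≫ i).left := by rw [Over.comp_left]; infer_instance
  obtain ⟨A, _, _, ψ, _⟩ := exists_coord G
  obtain ⟨A', _, _, ψ', _⟩ := exists_coord H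
  obtain ⟨A₀, _, _, ψ₀, _⟩ := exists_coord H₀
  haveI := finiteType ψ
  haveI := isReduced ψ
  haveI := finiteType ψ'
  haveI := isReduced ψ'
  haveI := finiteType ψ₀
  haveI := isReduced ψ₀
  have hs := pull_surjective ψ ψ' i
  have hs₀ := pull_surjective ψ' ψ₀ j
  obtain ⟨ε, hε, h1, h0⟩ := exists_indicator ψ' ψ₀ j
  let P₀ : Subgroup (WithConv (A' →ₐ[k] k)) := (ptsMap ψ' ψ₀ j).range
  have hP₀ : ∀ p : WithConv (A' →ₐ[k] k), p ∈ P₀ ↔ p.ofConv ε = 1 := by
    intro p
    constructor
    · rintro ⟨q, rfl⟩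
      change q.ofConv (pull ψ' ψ₀ j ε) = 1
      rw [h1, map_one]
    · intro hp
      have hk : ∀ a ∈ RingHom.ker (pull ψ' ψ₀ j), p.ofConv a = 0 := fun a ha => by
        have := congrArg p.ofConv (h0 a ha)
        rwa [map_mul, hp, _root_.one_mul, map_zero] at this
      exact ⟨toConv (AlgHom.liftOfSurjective (pull ψ' ψ₀ j) hs₀ p.ofConv hk),
        WithConv.ofConv_injective (AlgHom.liftOfSurjective_comp (pull ψ' ψ₀ j) hs₀ p.ofConv hk)⟩
  intro g hg
  obtain ⟨f, rfl⟩ := (e ψ k).surjective g
  have hocc : ∀ χ : A', IsGroupLikeElem k χ →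
      (∃ (V : Type u) (_ : AddCommGroup V) (_ : Module k V) (_ : HopfRep.Comod k A V)
        (_ : Module.Finite k V) (v : V), v ≠ 0 ∧
          LinearMap.lTensor V (pullBialg ψ ψ' i).toLinearMap
            (HopfRep.Comod.coact (k := k) (A := A) v) = v ⊗ₜ[k] χ) →
      ∃ m : ℕ, 0 < m ∧ ∃ θ : A', IsGroupLikeElem k θ ∧ θ * χ ^ m = 1 ∧
        ∃ (V : Type u) (_ : AddCommGroup V) (_ : Module k V) (_ : HopfRep.Comod k A V)
        (_ : Module.Finite k V) (v : V), v ≠ 0 ∧
          LinearMap.lTensor V (pullBialg ψ ψ' i).toLinearMap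
            (HopfRep.Comod.coact (k := k) (A := A) v) = v ⊗ₜ[k] θ := by
    intro χ hχ _
    let c₀ : A₀ := pull ψ' ψ₀ j χ
    have hc₀ : IsGroupLikeElem k c₀ := hχ.map (pullBialg ψ' ψ₀ j)
    have hext : ∀ (V : Type u) [AddCommGroup V] [Module k V] [Module.Finite k V]
        (σ : VecGrp.GMod H₀ V), σ.ExtendsAlong (j ≫ i) :=
      fun V _ _ _ σ => (Groth.Agent.S11190.result k G H₀ (j ≫ i)).1 h V σ
    obtain ⟨c', hc', W, _, _, _, _, w, hw, hweq⟩ :=
      exists_occurs_inv_of_extends ψ ψ₀ (j ≫ i) hext c₀ hc₀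
    have hweig : ∀ p ∈ P₀, HopfRep.Comod.act k A W
        (p.ofConv.comp (pullBialg ψ ψ' i : A →ₐ[k] A')) w = (p.ofConv χ)⁻¹ • w := by
      rintro _ ⟨q, rfl⟩
      have hcomp : ((ptsMap ψ' ψ₀ j q).ofConv.comp (pullBialg ψ ψ' i : A →ₐ[k] A')) =
          q.ofConv.comp (pull ψ ψ₀ (j ≫ i)) := by
        refine congrArg WithConv.ofConv ((e ψ k).injective ?_ :
          toConv ((ptsMap ψ' ψ₀ j q).ofConv.comp (pull ψ ψ' i)) =
            toConv (q.ofConv.comp (pull ψ ψ₀ (j ≫ i))))
        rw [← e_comp ψ, ← e_comp ψ]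
        change e ψ' k (toConv (q.ofConv.comp (pull ψ' ψ₀ j))) ≫ i = _
        rw [← e_comp ψ', Category.assoc]
      rw [hcomp]
      have h2 := congrArg (fun z => TensorProduct.rid k W (q.ofConv.toLinearMap.lTensor W z)) hweq
      simp only [LinearMap.lTensor_tmul, TensorProduct.rid_tmul, ← LinearMap.lTensor_comp_apply,
        AlgHom.toLinearMap_apply] at h2
      refine Eq.trans ?_ (h2.trans ?_)
      · rfl
      · congr 1
        refine eq_inv_of_mul_eq_one_left ?_
        change q.ofConv c' * q.ofConv c₀ = 1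
        rw [← map_mul, hc', map_one]
    obtain ⟨m, hm, F, hF0, hF⟩ := exists_norm (pullBialg ψ ψ' i) P₀ ε hε hP₀ χ hχ hw hweig
    obtain ⟨U, hfin, hFU, hU⟩ := Comod33.exists_finite_subcomod_mem (k := k) (A := A) F
    letI := ComodSub.Comod.restr (HopfRep.Comod.regular k A) U hU
    have hFeig : (pullBialg ψ ψ' i : A →ₐ[k] A').toLinearMap.lTensor U
        (HopfRep.Comod.coact (k := k) (A := A) (⟨F, hFU⟩ : U)) =
          (⟨F, hFU⟩ : U) ⊗ₜ[k] (HopfAlgebraStruct.antipode k χ ^ m) := by
      apply Module.Flat.rTensor_preserves_injective_linearMap (M := A') U.subtype U.injective_subtype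
      rw [← LinearMap.comp_apply, LinearMap.rTensor_comp_lTensor, ← LinearMap.lTensor_comp_rTensor,
        LinearMap.comp_apply, ComodSub.restr_coact_coe, LinearMap.rTensor_tmul]
      exact hF
    refine ⟨m, hm, HopfAlgebraStruct.antipode k χ ^ m,
      Comod33.Mat.isGroupLike_of_eigen (pullBialg ψ ψ' i)
        (v := (⟨F, hFU⟩ : U)) (fun h0 => hF0 (congrArg Subtype.val h0)) hFeig,
      by rw [← mul_pow, hχ.antipode_mul_cancel, one_pow],
      U, inferInstance, inferInstance, ComodSub.Comod.restr (HopfRep.Comod.regular k A) U hU, hfin,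
      ⟨F, hFU⟩, fun h0 => hF0 (congrArg Subtype.val h0), hFeig⟩
  obtain ⟨V, _, _, _, _, v, -, hrep, hfix⟩ :=
    Groth.Agent.S16476.result k A A' (pullBialg ψ ψ' i) hs hocc
  have h1 : HopfRep.Comod.act k A V f.ofConv v = v :=
    act_eq_self_of_invFn (pull ψ ψ' i) f.ofConv
      (fun b hb => (isRTransInv_pt_iff_act ψ f b).1 (hg _ ((isRTransInv_iff ψ ψ' i b).2 hb)))
      hfix
  have hker := (hrep k f.ofConv).2 ⟨1, (TensorProduct.rid k V).injective (by
    rw [TensorProduct.rid_tmul, one_smul]; exact h1)⟩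
  refine ⟨e ψ' k (toConv (AlgHom.liftOfSurjective (pull ψ ψ' i) hs f.ofConv hker)), ?_⟩
  rw [e_comp ψ]
  congr 1
  apply WithConv.ofConv_injective
  exact AlgHom.liftOfSurjective_comp (pull ψ ψ' i) hs f.ofConv hker

end Main

end Groth.Agent.GMod80
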