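import Groth.Agent.GMod80.CharPts
import Groth.Agent.Comod33.IdentityComp
import Groth.Agent.S3019

/-!
Invariant rational functions and observability.
-/

set_option autoImplicit false
set_option linter.unusedSectionVars false
set_option linter.style.haveILetI false

universe u

open CategoryTheory MonoidalCategory CartesianMonoidalCategory MonObj GrpObj AlgebraicGeometry
open scoped TensorProduct
open WithConv TensorProduct

noncomputable section

namespace Groth.Agent.GMod80

variable {k : Type u} [Field k] {A : Type u} [CommRing A] [HopfAlgebra k A]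
  {G : Over (Spec (CommRingCat.of k))} [GrpObj G] (ψ : sp k A ≅ G) [IsMonHom ψ.hom]
  {A' : Type u} [CommRing A'] [HopfAlgebra k A'] {H : Over (Spec (CommRingCat.of k))}
  [GrpObj H] (ψ' : sp k A' ≅ H) [IsMonHom ψ'.hom] (i : H ⟶ G) [IsMonHom i]

/-- Right translation by a variable point of the subgroup. -/
def shiftHom : A →ₐ[k] A ⊗[k] A' :=
  (Algebra.TensorProduct.map (AlgHom.id k A) (pull ψ ψ' i)).comp (Bialgebra.comulAlgHom k A)

theorem shiftHom_apply (a : A) : shiftHom ψ ψ' i a =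
    (pull ψ ψ' i).toLinearMap.lTensor A (CoalgebraStruct.comul (R := k) a) := rfl

theorem ratio_iff (a b : A) :
    ((G ◁ i) ≫ μ[G]).left.appTop (fn ψ a) * (fst G H).left.appTop (fn ψ b) =
        (fst G H).left.appTop (fn ψ a) * ((G ◁ i) ≫ μ[G]).left.appTop (fn ψ b) ↔
      shiftHom ψ ψ' i a * (b ⊗ₜ[k] (1 : A')) = (a ⊗ₜ[k] (1 : A')) * shiftHom ψ ψ' i b := by
  let P : VecGrp.pt k (A ⊗[k] A') ⟶ G ⊗ H := pairIso ψ A' ≫ (G ◁ e ψ' A' (toConv (AlgHom.id k A')))
  let l : WithConv (A →ₐ[k] A ⊗[k] A') := toConv Algebra.TensorProduct.includeLeft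
  let r : WithConv (A →ₐ[k] A ⊗[k] A') :=
    toConv ((Algebra.TensorProduct.includeRight).comp (pull ψ ψ' i))
  have hψ : e ψ' A' (toConv (AlgHom.id k A')) ≫ i = e ψ A' (toConv (pull ψ ψ' i)) := by
    rw [e_comp ψ, ofConv_toConv, AlgHom.id_comp]
  have h1 : P ≫ (G ◁ i) ≫ μ[G] = e ψ _ (l * r) := by
    change (pairIso ψ A' ≫ (G ◁ e ψ' A' (toConv (AlgHom.id k A')))) ≫ (G ◁ i) ≫ μ[G] = _
    rw [Category.assoc, ← MonoidalCategory.whiskerLeft_comp_assoc, hψ, ← Category.assoc, pairIso,
      lift_whiskerLeft, e_natural, map_mul, Hom.mul_def]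
  have h2 : P ≫ fst G H = e ψ _ l := by
    change (pairIso ψ A' ≫ (G ◁ e ψ' A' (toConv (AlgHom.id k A')))) ≫ fst G H = _
    rw [Category.assoc, whiskerLeft_fst]
    exact lift_fst _ _
  have hinjP : Function.Injective P.left.appTop.hom := by
    have hiso : IsIso (G ◁ e ψ' A' (toConv (AlgHom.id k A'))).left := by
      rw [e_id ψ']
      exact ((Over.forget _).mapIso (whiskerLeftIso G ψ')).isIso_hom
    rw [Over.comp_left, Scheme.Hom.comp_appTop, CommRingCat.hom_comp]
    exact (pairIso_appTop_injective ψ A').comp (@appTop_injective _ _ (G ◁ e ψ' A' (toConv (AlgHom.id k A'))).left hiso)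
  have hL : ∀ x, P.left.appTop.hom ((fst G H).left.appTop (fn ψ x)) =
      (Scheme.ΓSpecIso (CommRingCat.of (A ⊗[k] A'))).inv.hom (x ⊗ₜ[k] (1 : A')) := fun x => by
    have h4 := appTop_fn ψ l x
    rw [← h2, Over.comp_left, Scheme.Hom.comp_appTop] at h4
    exact h4
  have hR : ∀ x, P.left.appTop.hom (((G ◁ i) ≫ μ[G]).left.appTop (fn ψ x)) =
      (Scheme.ΓSpecIso (CommRingCat.of (A ⊗[k] A'))).inv.hom (shiftHom ψ ψ' i x) := fun x => by
    have h3 := appTop_fn ψ (l * r) x
    rw [← h1, Over.comp_left, Scheme.Hom.comp_appTop] at h3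
    have e1 : (l * r).ofConv x = shiftHom ψ ψ' i x := by
      rw [AlgHom.convMul_apply, shiftHom_apply]
      generalize CoalgebraStruct.comul (R := k) x = z
      induction z using TensorProduct.induction_on with
      | zero => simp
      | add p q hp hq => simp only [map_add, hp, hq]
      | tmul p q => simp [l, r]
    rw [e1] at h3
    exact h3
  rw [← hinjP.eq_iff, map_mul, map_mul, hL, hL, hR, hR, ← map_mul, ← map_mul]
  exact ((ConcreteCategory.bijective_of_isIso
    (Scheme.ΓSpecIso (CommRingCat.of (A ⊗[k] A'))).inv).1).eq_iff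

theorem rid_map_shiftHom (q : A' →ₐ[k] k) (a : A) :
    Algebra.TensorProduct.rid k k A (Algebra.TensorProduct.map (AlgHom.id k A) q
        (shiftHom ψ ψ' i a)) =
      HopfRep.Comod.act k A A (q.comp (pull ψ ψ' i)) a := by
  change _ = TensorProduct.rid k A ((q.comp (pull ψ ψ' i)).toLinearMap.lTensor A
    (CoalgebraStruct.comul (R := k) a))
  rw [shiftHom_apply]
  generalize CoalgebraStruct.comul (R := k) a = z
  induction z using TensorProduct.induction_on with
  | zero => simp
  | add p q hp hq => simp only [map_add, hp, hq]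
  | tmul p q => simp

variable [IsAlgClosed k] [Algebra.FiniteType k A] [_root_.IsReduced A] [Algebra.FiniteType k A']
  [_root_.IsReduced A']

include ψ ψ' in
theorem isObservableIn_of_fractions [IsDomain A] (hs : Function.Surjective (pull ψ ψ' i))
    (h : ∀ a b : A, b ≠ 0 →
      shiftHom ψ ψ' i a * (b ⊗ₜ[k] (1 : A')) = (a ⊗ₜ[k] (1 : A')) * shiftHom ψ ψ' i b →
      ∃ a' b', IsInvFn (pull ψ ψ' i) a' ∧ IsInvFn (pull ψ ψ' i) b' ∧ b' ≠ 0 ∧ a * b' = a' * b) :
    AGF.IsObservableIn k i := by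
  intro g hg
  obtain ⟨f, rfl⟩ := (e ψ k).surjective g
  haveI : (RingHom.ker (pull ψ ψ' i)).IsHopfIdeal k :=
    Comod33.IdComp.isHopfIdeal_ker (pullBialg ψ ψ' i) hs
  obtain ⟨V, _, _, _, _, v, hv0, hrep⟩ :=
    Groth.Agent.S3019.result k A (RingHom.ker (pull ψ ψ' i))
  obtain ⟨c, hc⟩ := (hrep A' (pull ψ ψ' i)).1 fun a ha => ha
  obtain ⟨θ, hθ⟩ := Module.Projective.exists_dual_eq_one k hv0
  have hT : ∀ φ : V →ₗ[k] k, shiftHom ψ ψ' i (Comod33.cf (A := A) φ v) =
      Comod33.cf (A := A) φ v ⊗ₜ[k] c := fun φ => by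
    rw [shiftHom_apply, Comod33.comul_cf, ← LinearMap.comp_apply, LinearMap.lTensor_comp_rTensor,
      ← LinearMap.rTensor_comp_lTensor, LinearMap.comp_apply, hc, LinearMap.rTensor_tmul]
  let b := Comod33.cf (A := A) θ v
  have hbc : CoalgebraStruct.counit (R := k) b = 1 := by rw [Comod33.counit_cf, hθ]
  have hb0 : b ≠ 0 := fun h0 => by
    rw [h0, map_zero] at hbc
    exact zero_ne_one hbc
  let R : A →ₐ[k] A := (Algebra.TensorProduct.rid k k A).toAlgHom.comp
    ((Algebra.TensorProduct.map (AlgHom.id k A) f.ofConv).comp (Bialgebra.comulAlgHom k A))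
  have hR : ∀ x, R x = HopfRep.Comod.act k A A f.ofConv x := fun x => by
    change Algebra.TensorProduct.rid k k A (Algebra.TensorProduct.map (AlgHom.id k A) f.ofConv
        (CoalgebraStruct.comul (R := k) x)) =
      TensorProduct.rid k A (f.ofConv.toLinearMap.lTensor A (CoalgebraStruct.comul (R := k) x))
    generalize CoalgebraStruct.comul (R := k) x = z
    induction z using TensorProduct.induction_on with
    | zero => simp
    | add p q hp hq => simp only [map_add, hp, hq]
    | tmul p q => simp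
  have key : ∀ φ : V →ₗ[k] k, R (Comod33.cf (A := A) φ v) * b = Comod33.cf (A := A) φ v * R b := by
    intro φ
    obtain ⟨a', b', ha', hb', hb'0, hab⟩ := h (Comod33.cf (A := A) φ v) b hb0 (by
      rw [hT, hT, Algebra.TensorProduct.tmul_mul_tmul, Algebra.TensorProduct.tmul_mul_tmul,
        _root_.mul_one, _root_.one_mul])
    have hfix : ∀ x, IsInvFn (pull ψ ψ' i) x → R x = x := fun x hx => by
      rw [hR]
      exact (isRTransInv_pt_iff_act ψ f x).1 (hg _ ((isRTransInv_iff ψ ψ' i x).2 hx))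
    have h1 := congrArg R hab
    rw [map_mul, map_mul, hfix _ ha', hfix _ hb'] at h1
    refine mul_right_cancel₀ hb'0 ?_
    calc R (Comod33.cf (A := A) φ v) * b * b' = R (Comod33.cf (A := A) φ v) * b' * b := by ring
      _ = a' * b * R b := by rw [h1]; ring
      _ = Comod33.cf (A := A) φ v * R b * b' := by rw [← hab]; ring
  have hact : HopfRep.Comod.act k A V f.ofConv v = f.ofConv b • v := by
    refine sub_eq_zero.1 ((Module.forall_dual_apply_eq_zero_iff k _).1 fun φ => ?_)
    have h1 := congrArg (Bialgebra.counitAlgHom k A) (key φ)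
    simp only [map_mul, hR, Bialgebra.counitAlgHom_apply, hbc, _root_.mul_one,
      Comod33.counit_act, Comod33.counit_cf] at h1
    rw [map_sub, map_smul, smul_eq_mul, sub_eq_zero, ← apply_cf' f.ofConv φ v, h1, mul_comm]
  have hker := (hrep k f.ofConv).2 ⟨f.ofConv b, (TensorProduct.rid k V).injective (by
    rw [TensorProduct.rid_tmul]; exact hact)⟩
  refine ⟨e ψ' k (toConv (AlgHom.liftOfSurjective (pull ψ ψ' i) hs f.ofConv hker)), ?_⟩
  rw [e_comp ψ]
  congr 1
  apply WithConv.ofConv_injective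
  exact AlgHom.liftOfSurjective_comp (pull ψ ψ' i) hs f.ofConv hker

include ψ ψ' in
theorem exists_fractions_of_observable [IsAffine G.left] [Smooth G.hom] [IsAffine H.left]
    [IsDomain A] (hobs : AGF.IsObservableIn k i) (a b : A) (hb : b ≠ 0)
    (hab : shiftHom ψ ψ' i a * (b ⊗ₜ[k] (1 : A')) = (a ⊗ₜ[k] (1 : A')) * shiftHom ψ ψ' i b) :
    ∃ a' b', IsInvFn (pull ψ ψ' i) a' ∧ IsInvFn (pull ψ ψ' i) b' ∧ b' ≠ 0 ∧ a * b' = a' * b := by
  classical
  let R : (A' →ₐ[k] k) → (A →ₐ[k] A) := fun q => (Algebra.TensorProduct.rid k k A).toAlgHom.comp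
    ((Algebra.TensorProduct.map (AlgHom.id k A) q).comp (shiftHom ψ ψ' i))
  have hR : ∀ q x, R q x = HopfRep.Comod.act k A A (q.comp (pull ψ ψ' i)) x := fun q x =>
    rid_map_shiftHom ψ ψ' i q x
  have hratio : ∀ q, R q a * b = a * R q b := fun q => by
    have := congrArg ((Algebra.TensorProduct.rid k k A).toAlgHom.comp
      (Algebra.TensorProduct.map (AlgHom.id k A) q)) hab
    rw [map_mul, map_mul] at this
    simpa [R] using this
  have hinv : ∀ x, (∀ q, R q x = x) → IsInvFn (pull ψ ψ' i) x := fun x hx => by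
    unfold IsInvFn
    exact fixed_of_points (pull ψ ψ' i) (M := A) (m := x) fun q => (hR q x).symm.trans (hx q)
  have hRb : ∀ q, R q b ≠ 0 := fun q h0 => hb (by
    have h1 := congrArg (HopfRep.Comod.act k A A
      ((toConv (q.comp (pull ψ ψ' i)) : WithConv (A →ₐ[k] k))⁻¹).ofConv) ((hR q b).symm.trans h0)
    rw [map_zero] at h1
    refine Eq.trans ?_ h1
    refine Eq.trans ?_ (LinearMap.congr_fun (Comod33.act_mul
      (toConv (q.comp (pull ψ ψ' i)))⁻¹ (toConv (q.comp (pull ψ ψ' i)))) b)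
    rw [inv_mul_cancel, Comod33.act_one]
    rfl)
  obtain ⟨V₀, _, _, _, ρ₀, v₀, hv₀⟩ := exists_stab i hobs
  letI := toComod ψ ρ₀
  obtain ⟨s, hsR, hs0, hsZ⟩ := exists_orbit_fn' (k := k) (A := A) v₀ b hb
  let J : Ideal A := (Ideal.span {b}).colon ({a} : Set A)
  have hJ : ∀ c, c ∈ J ↔ ∃ d, d * b = c * a := fun c => by
    change c ∈ Submodule.colon _ _ ↔ _
    rw [Submodule.mem_colon_singleton, smul_eq_mul, Ideal.mem_span_singleton']
  have hbJ : b ∈ J := (hJ b).2 ⟨a, mul_comm _ _⟩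
  have hJst : ∀ q, ∀ c ∈ J, R q c ∈ J := by
    intro q c hc
    obtain ⟨d, hd⟩ := (hJ c).1 hc
    have h1 := congrArg (R q) hd
    rw [map_mul, map_mul] at h1
    refine (hJ _).2 ⟨R q d, mul_right_cancel₀ (hRb q) ?_⟩
    calc R q d * b * R q b = b * (R q c * R q a) := by rw [← h1]; ring
      _ = R q c * (R q a * b) := by ring
      _ = R q c * a * R q b := by rw [hratio]; ring
  have hsJ : s ∈ J.radical := by
    haveI : IsJacobsonRing A := isJacobsonRing_of_finiteType (A := k)
    rw [Ideal.radical_eq_jacobson]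
    refine Ideal.mem_sInf.2 fun {m} ⟨hJm, hm⟩ => ?_
    haveI := hm
    obtain ⟨x, hx⟩ := Comod33.Aug.exists_point_ker (k := k) m
    rw [hx]
    refine RingHom.mem_ker.2 (hsZ (toConv x) fun y hxy => ?_)
    have h1 : HopfRep.Comod.act k A V₀ ((toConv x)⁻¹ * y).ofConv v₀ = v₀ := by
      calc HopfRep.Comod.act k A V₀ ((toConv x)⁻¹ * y).ofConv v₀
          = HopfRep.Comod.act k A V₀ (toConv x)⁻¹.ofConv (HopfRep.Comod.act k A V₀ y.ofConv v₀) :=
            LinearMap.congr_fun (Comod33.act_mul _ _) v₀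
        _ = HopfRep.Comod.act k A V₀ ((toConv x)⁻¹ * toConv x).ofConv v₀ := by
            rw [← hxy]; exact (LinearMap.congr_fun (Comod33.act_mul _ _) v₀).symm
        _ = v₀ := by rw [inv_mul_cancel, Comod33.act_one]; rfl
    obtain ⟨h', hh'⟩ := (hv₀ (e ψ k ((toConv x)⁻¹ * y))).1 (by rw [rho_pt, h1])
    obtain ⟨q, rfl⟩ := (e ψ' k).surjective h'
    rw [e_comp ψ] at hh'
    have hy : y = toConv x * toConv (q.ofConv.comp (pull ψ ψ' i)) := by
      rw [(e ψ k).injective hh', mul_inv_cancel_left]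
    have h3 : R q.ofConv b ∈ RingHom.ker x := by
      have := hJm (hJst q.ofConv b hbJ)
      rwa [hx] at this
    rw [RingHom.mem_ker, hR] at h3
    rw [hy, AlgHom.convMul_apply, ← h3]
    change _ = x (TensorProduct.rid k A
      ((q.ofConv.comp (pull ψ ψ' i)).toLinearMap.lTensor A (CoalgebraStruct.comul (R := k) b)))
    generalize CoalgebraStruct.comul (R := k) b = z
    induction z using TensorProduct.induction_on with
    | zero => simp
    | add p q hp hq => simp only [map_add, hp, hq]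
    | tmul p q => simp [mul_comm]
  obtain ⟨N, hN⟩ := hsJ
  obtain ⟨a', ha'⟩ := (hJ _).1 hN
  have hfix : (pull ψ ψ' i).toLinearMap.lTensor V₀
      (HopfRep.Comod.coact (k := k) (A := A) v₀) = v₀ ⊗ₜ[k] (1 : A') :=
    fixed_of_points (pull ψ ψ' i) fun q => by
      have h2 := (hv₀ (e ψ k (toConv (q.comp (pull ψ ψ' i))))).2
        ⟨e ψ' k (toConv q), e_comp ψ ψ' i (toConv q)⟩
      rw [rho_pt] at h2
      simpa using congrArg (TensorProduct.lid k V₀) h2
  have hTs : shiftHom ψ ψ' i s = s ⊗ₜ[k] (1 : A') := by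
    have : Algebra.adjoin k (Set.range fun φ : V₀ →ₗ[k] k => Comod33.cf (A := A) φ v₀) ≤
        AlgHom.equalizer (shiftHom ψ ψ' i)
          (Algebra.TensorProduct.includeLeft : A →ₐ[k] A ⊗[k] A') := by
      refine Algebra.adjoin_le ?_
      rintro _ ⟨φ, rfl⟩
      exact isInvFn_cf (pull ψ ψ' i) hfix φ
    exact this hsR
  have hRs : ∀ q, R q (s ^ N) = s ^ N := fun q => by
    change Algebra.TensorProduct.rid k k A (Algebra.TensorProduct.map (AlgHom.id k A) q
      (shiftHom ψ ψ' i (s ^ N))) = _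
    rw [map_pow, hTs, Algebra.TensorProduct.tmul_pow, one_pow]
    simp
  refine ⟨a', s ^ N, hinv _ fun q => ?_, hinv _ hRs, pow_ne_zero _ hs0, by rw [mul_comm, ha']⟩
  have h1 := congrArg (R q) ha'
  rw [map_mul, map_mul, hRs] at h1
  refine mul_right_cancel₀ (mul_ne_zero (hRb q) hb) ?_
  calc R q a' * (R q b * b) = (s ^ N) * (R q a * b) := by rw [← _root_.mul_assoc, h1, _root_.mul_assoc]
    _ = (s ^ N * a) * R q b := by rw [hratio]; ring
    _ = a' * (R q b * b) := by rw [← ha']; ring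

end Groth.Agent.GMod80
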