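import Groth.Agent.GMod80.Dict
import Groth.Agent.Comod33.Connected
import Groth.Agent.Comod33.Points
import Groth.Agent.Comod33.Finite
import Groth.Agent.Comod33.Push
import Groth.Prelude.Def_ComodSub
import Groth.Prelude.Def_ComodTens
import Mathlib.RingTheory.Noetherian.Basic

/-!
Matrix coefficients of fixed vectors are translation invariant.
-/

set_option autoImplicit false
set_option linter.unusedSectionVars false
set_option linter.style.haveILetI false

universe u v

open CategoryTheory MonoidalCategory CartesianMonoidalCategory MonObj GrpObj AlgebraicGeometry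
open scoped TensorProduct
open WithConv TensorProduct

noncomputable section

namespace Groth.Agent.GMod80

open Comod33 (cf dact)

section Algebra

variable {k : Type u} [Field k] {A : Type u} [CommRing A] [Bialgebra k A]
  {A' : Type u} [CommRing A'] [Algebra k A'] (π : A →ₐ[k] A')
  {M : Type u} [AddCommGroup M] [Module k M] [HopfRep.Comod k A M]

/-- Invariant functions under the right translation by the subgroup cut out by `π`. -/
def IsInvFn (a : A) : Prop :=
  π.toLinearMap.lTensor A (CoalgebraStruct.comul (R := k) a) = a ⊗ₜ[k] (1 : A')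

theorem isInvFn_cf {m : M}
    (hm : π.toLinearMap.lTensor M (HopfRep.Comod.coact (k := k) (A := A) m) = m ⊗ₜ[k] (1 : A'))
    (φ : M →ₗ[k] k) : IsInvFn π (cf (A := A) φ m) := by
  have h := LinearMap.congr_fun (Comod33.isComodHom_cf (A := A) (V := M) φ) m
  simp only [LinearMap.comp_apply] at h
  unfold IsInvFn
  rw [show CoalgebraStruct.comul (R := k) (cf (A := A) φ m) = _ from h]
  have h2 : ∀ x : M ⊗[k] A, π.toLinearMap.lTensor A ((cf (A := A) φ).rTensor A x) =
      (cf (A := A) φ).rTensor A' (π.toLinearMap.lTensor M x) := by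
    intro x
    induction x using TensorProduct.induction_on with
    | zero => simp
    | add p q hp hq => simp only [map_add, hp, hq]
    | tmul p q => simp
  rw [h2, hm, LinearMap.rTensor_tmul]

theorem apply_cf' (g : A →ₐ[k] k) (φ : M →ₗ[k] k) (m : M) :
    g (cf (A := A) φ m) = φ (HopfRep.Comod.act k A M g m) :=
  Comod33.apply_lc g.toLinearMap φ (HopfRep.Comod.coact (k := k) (A := A) m)

theorem act_eq_self_iff (g : A →ₐ[k] k) (m : M) :
    HopfRep.Comod.act k A M g m = m ↔ ∀ φ : M →ₗ[k] k, g (cf (A := A) φ m) = φ m := by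
  constructor
  · intro h φ
    rw [show g (cf (A := A) φ m) = φ (HopfRep.Comod.act k A M g m) from
      apply_cf' g φ m, h]
  · intro h
    refine sub_eq_zero.1 ((Module.forall_dual_apply_eq_zero_iff k _).1 fun φ => ?_)
    rw [map_sub, show φ (HopfRep.Comod.act k A M g m) = g (cf (A := A) φ m) from
      (apply_cf' g φ m).symm, h, sub_self]

theorem act_eq_self_of_invFn (g : A →ₐ[k] k)
    (hg : ∀ a : A, IsInvFn π a → HopfRep.Comod.act k A A g a = a) {m : M}
    (hm : π.toLinearMap.lTensor M (HopfRep.Comod.coact (k := k) (A := A) m) = m ⊗ₜ[k] (1 : A')) :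
    HopfRep.Comod.act k A M g m = m := by
  refine (act_eq_self_iff g m).2 fun φ => ?_
  have h := Comod33.counit_act g (cf (A := A) φ m)
  rw [hg _ (isInvFn_cf π hm φ), Comod33.counit_cf] at h
  exact h.symm

variable [Algebra.FiniteType k A]

theorem exists_finset_cut : ∃ s : Finset A, (∀ a ∈ s, IsInvFn π a) ∧
    ∀ g : A →ₐ[k] k, (∀ a ∈ s, HopfRep.Comod.act k A A g a = a) →
      ∀ a : A, IsInvFn π a → HopfRep.Comod.act k A A g a = a := by
  classical
  haveI : IsNoetherianRing A := Algebra.FiniteType.isNoetherianRing k A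
  let S : Set A := {x | ∃ a : A, IsInvFn π a ∧ ∃ φ : A →ₗ[k] k,
    x = cf (A := A) φ a - algebraMap k A (φ a)}
  obtain ⟨t, ht, hspan⟩ := (Submodule.fg_span_iff_fg_span_finset_subset S).1
    (IsNoetherian.noetherian (Submodule.span A S))
  have hc : ∀ x ∈ t, ∃ a : A, IsInvFn π a ∧ ∃ φ : A →ₗ[k] k,
      x = cf (A := A) φ a - algebraMap k A (φ a) := fun x hx => ht hx
  choose a ha φ hφ using hc
  refine ⟨t.attach.image fun x => a x.1 x.2, ?_, fun g hg b hb => ?_⟩
  · intro b hb
    obtain ⟨x, -, rfl⟩ := Finset.mem_image.1 hb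
    exact ha x.1 x.2
  · have hker : Submodule.span A (t : Set A) ≤ RingHom.ker g := by
      refine Submodule.span_le.2 fun x hx => ?_
      rw [SetLike.mem_coe, RingHom.mem_ker, hφ x hx, map_sub, AlgHom.commutes,
        Algebra.algebraMap_self, RingHom.id_apply]
      rw [(act_eq_self_iff g (a x hx)).1
        (hg _ (Finset.mem_image.2 ⟨⟨x, hx⟩, Finset.mem_attach _ _, rfl⟩)) (φ x hx), sub_self]
    refine (act_eq_self_iff g b).2 fun ψ => ?_
    have hmem : cf (A := A) ψ b - algebraMap k A (ψ b) ∈ Submodule.span A (t : Set A) :=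
      hspan ▸ Submodule.subset_span ⟨b, hb, ψ, rfl⟩
    have h2 := hker hmem
    rw [RingHom.mem_ker, map_sub, AlgHom.commutes, Algebra.algebraMap_self, RingHom.id_apply,
      sub_eq_zero] at h2
    exact h2

theorem exists_finset_coeff (m : M)
    (hm : π.toLinearMap.lTensor M (HopfRep.Comod.coact (k := k) (A := A) m) = m ⊗ₜ[k] (1 : A')) :
    ∃ s : Finset A, (∀ a ∈ s, IsInvFn π a) ∧
      ∀ g g' : A →ₐ[k] k, (∀ a ∈ s, g a = g' a) →
        HopfRep.Comod.act k A M g m = HopfRep.Comod.act k A M g' m := by
  classical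
  obtain ⟨W, hW, hle, -⟩ := Comod33.exists_finite_subcomod_le (k := k) (A := A)
    (Submodule.span k {m})
  let c : (M →ₗ[k] k) →ₗ[k] A :=
    { toFun := fun φ => cf (A := A) φ m
      map_add' := fun φ χ => by
        simp only [Comod33.cf_apply]
        generalize HopfRep.Comod.coact (k := k) (A := A) m = y
        induction y using TensorProduct.induction_on with
        | zero => simp
        | add p q hp hq => rw [map_add, map_add, map_add, hp, hq]; abel
        | tmul p q => simp [add_smul]
      map_smul' := fun r φ => by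
        simp only [Comod33.cf_apply, RingHom.id_apply]
        generalize HopfRep.Comod.coact (k := k) (A := A) m = y
        induction y using TensorProduct.induction_on with
        | zero => simp
        | add p q hp hq => rw [map_add, map_add, hp, hq, smul_add]
        | tmul p q => simp [mul_smul] }
  obtain ⟨T, hT⟩ := TensorProduct.exists_finset (HopfRep.Comod.coact (k := k) (A := A) m)
  have hr : LinearMap.range c ≤ Submodule.span k (↑(T.image Prod.snd) : Set A) := by
    rintro _ ⟨φ, rfl⟩
    change cf (A := A) φ m ∈ _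
    rw [Comod33.cf_apply, hT, map_sum]
    refine Submodule.sum_mem _ fun p hp => ?_
    rw [Comod33.lc_tmul]
    exact Submodule.smul_mem _ _ (Submodule.subset_span (Finset.mem_image_of_mem _ hp))
  have hfg : (LinearMap.range c).FG := by
    haveI := Module.Finite.span_finset k (T.image Prod.snd)
    exact (Submodule.fg_iff_finiteDimensional _).2 (Submodule.finiteDimensional_of_le hr)
  obtain ⟨s, hs⟩ := hfg
  refine ⟨s, fun a ha => ?_, fun g g' h => ?_⟩
  · obtain ⟨φ, rfl⟩ : a ∈ LinearMap.range c := hs ▸ Submodule.subset_span ha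
    exact isInvFn_cf π hm φ
  · refine sub_eq_zero.1 ((Module.forall_dual_apply_eq_zero_iff k _).1 fun φ => ?_)
    rw [map_sub, sub_eq_zero]
    refine ((apply_cf' g φ m).symm.trans ?_).trans (apply_cf' g' φ m)
    have hmem : cf (A := A) φ m ∈ Submodule.span k (s : Set A) := hs ▸ ⟨φ, rfl⟩
    exact (LinearMap.eqOn_span (f := g.toLinearMap) (g := g'.toLinearMap) (fun a ha => h a ha))
      hmem

end Algebra

section Scheme

variable {k : Type u} [Field k] {A : Type u} [CommRing A] [HopfAlgebra k A]
  {G : Over (Spec (CommRingCat.of k))} [GrpObj G] (ψ : sp k A ≅ G) [IsMonHom ψ.hom]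

theorem isRTransInv_pt_iff_act (f : WithConv (A →ₐ[k] k)) (a : A) :
    AGF.IsRTransInv (e ψ k f) (fn ψ a) ↔ HopfRep.Comod.act k A A f.ofConv a = a := by
  rw [isRTransInv_pt]
  constructor
  · intro h
    change TensorProduct.rid k A (f.ofConv.toLinearMap.lTensor A (CoalgebraStruct.comul (R := k) a)) = a
    rw [h, TensorProduct.rid_tmul, one_smul]
  · intro h
    apply (TensorProduct.rid k A).injective
    rw [TensorProduct.rid_tmul, one_smul]
    exact h

theorem appTop_eq_iff (g g' : WithConv (A →ₐ[k] k)) (a : A) :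
    (e ψ k g).left.appTop (fn ψ a) = (e ψ k g').left.appTop (fn ψ a) ↔
      g.ofConv a = g'.ofConv a := by
  change (e ψ k g).left.appTop.hom (fn ψ a) = (e ψ k g').left.appTop.hom (fn ψ a) ↔ _
  rw [appTop_fn, appTop_fn]
  exact ((ConcreteCategory.bijective_of_isIso
    (Scheme.ΓSpecIso (CommRingCat.of k)).inv).1).eq_iff

end Scheme

end Groth.Agent.GMod80
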