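import Groth.Agent.GMod80.Alg
import Mathlib.Algebra.TrivSqZeroExt.Basic
import Mathlib.RingTheory.FiniteType

/-!
Invariants of finite modules, by the square-zero extension.
-/

set_option autoImplicit false
set_option linter.unusedSectionVars false
set_option linter.style.haveILetI false

universe u v

open CategoryTheory MonoidalCategory CartesianMonoidalCategory MonObj GrpObj AlgebraicGeometry
open scoped TensorProduct
open WithConv TensorProduct TrivSqZeroExt

noncomputable section

namespace Groth.Agent.GMod80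

variable {k : Type u} [Field k] {G : Over (Spec (CommRingCat.of k))} [GrpObj G]
  {A : Type u} [CommRing A] [Algebra k A] {M : Type u} [AddCommGroup M] [Module A M] [Module k M]
  [IsScalarTower k A M]

theorem exists_finset_invariants [IsAffine G.left] (hG : VecGrp.IsReductiveGrp k G)
    (thmA : VecGrp.ReductiveInvariantsFG k) [Algebra.FiniteType k A]
    (ρA : VecGrp.GMod G A) (hρ : ρA.IsMult) [Module.Finite A M] (ρM : VecGrp.GMod G M)
    (hc : VecGrp.GMod.IsCompat ρA ρM) :
    ∃ s : Finset M, (↑s : Set M) ⊆ ρM.fixedUnder (𝟙 G) ∧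
      ρM.fixedUnder (𝟙 G) ≤
        (Submodule.span ↥(ρA.fixedSubalgebra hρ (𝟙 G)) (↑s : Set M)).restrictScalars k := by
  classical
  obtain ⟨R, _, _, ψ, _⟩ := exists_coord G
  letI : Module Aᵐᵒᵖ M := Module.compHom M ((RingHom.id A).fromOpposite mul_comm)
  haveI : IsCentralScalar A M := ⟨fun a m => rfl⟩
  haveI : IsScalarTower k Aᵐᵒᵖ M := ⟨fun c a m => by
    change (MulOpposite.unop (c • a)) • m = c • (MulOpposite.unop a • m)
    rw [MulOpposite.unop_smul, smul_assoc]⟩
  let T := TrivSqZeroExt A M
  let el : A →ₗ[k] T := (inlAlgHom k A M).toLinearMap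
  let er : M →ₗ[k] T := (inrHom A M).restrictScalars k
  let eT : (A × M) ≃ₗ[k] T :=
    { toFun := fun p => el p.1 + er p.2
      invFun := fun t => (fst t, snd t)
      map_add' := fun p q => by simp only [Prod.fst_add, Prod.snd_add, map_add]; abel
      map_smul' := fun r p => by simp only [Prod.smul_fst, Prod.smul_snd, map_smul, smul_add,
        RingHom.id_apply]
      left_inv := fun p => Prod.ext
        ((TrivSqZeroExt.fst_add (R := A) _ _).trans (by simp [el, er]))
        ((TrivSqZeroExt.snd_add (R := A) _ _).trans (by simp [el, er]))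
      right_inv := fun t => inl_fst_add_inr_snd_eq t }
  let cA : HopfRep.Comod k R A := toComod ψ ρA
  let cM : HopfRep.Comod k R M := toComod ψ ρM
  let cT : HopfRep.Comod k R T := ComodTens.Comod.ofEquiv eT (ComodTens.Comod.prod cA cM)
  have hcT : ∀ a m, cT.coact (inl a + inr m) = el.rTensor R (cA.coact a) + er.rTensor R (cM.coact m) := by
    intro a m
    have h : inl a + inr m = eT (a, m) := rfl
    rw [h, show cT.coact (eT (a, m)) = _ from
      ComodTens.ofEquiv_coact_apply eT (ComodTens.Comod.prod cA cM) (a, m), ComodTens.prod_coact,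
      map_add, ← LinearMap.rTensor_comp_apply, ← LinearMap.rTensor_comp_apply]
    congr 3 <;> ext z <;> simp [eT, el, er]
  have hl : ∀ a, cT.coact (inl a) = el.rTensor R (cA.coact a) := fun a => by
    simpa using hcT a 0
  have hr : ∀ m, cT.coact (inr m) = er.rTensor R (cM.coact m) := fun m => by
    simpa using hcT 0 m
  let sm := TensorProduct.map₂ (Algebra.lsmul k k M : A →ₐ[k] Module.End k M).toLinearMap
    (LinearMap.mul k R)
  have hsm : ∀ a m, cM.coact (a • m) = sm (cA.coact a) (cM.coact m) := by
    intro a m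
    have h := hc R (e ψ R (toConv (AlgHom.id k R))) ((1 : R) ⊗ₜ[k] a) ((1 : R) ⊗ₜ[k] m)
    have h1 : VecGrp.GMod.smulW k A M R ((1 : R) ⊗ₜ[k] a) ((1 : R) ⊗ₜ[k] m) =
        (1 : R) ⊗ₜ[k] (a • m) := by
      simp [VecGrp.GMod.smulW]
    rw [h1] at h
    change TensorProduct.comm k R M (ρM.ρ R (e ψ R (toConv (AlgHom.id k R))) ((1 : R) ⊗ₜ[k] (a • m)))
      = sm (TensorProduct.comm k R A (ρA.ρ R (e ψ R (toConv (AlgHom.id k R))) ((1 : R) ⊗ₜ[k] a)))
        (TensorProduct.comm k R M (ρM.ρ R (e ψ R (toConv (AlgHom.id k R))) ((1 : R) ⊗ₜ[k] m)))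
    rw [h]
    generalize ρA.ρ R (e ψ R (toConv (AlgHom.id k R))) ((1 : R) ⊗ₜ[k] a) = x
    generalize ρM.ρ R (e ψ R (toConv (AlgHom.id k R))) ((1 : R) ⊗ₜ[k] m) = y
    induction x using TensorProduct.induction_on with
    | zero => simp
    | add p q hp hq => simp only [map_add, LinearMap.add_apply, hp, hq]
    | tmul p q =>
      induction y using TensorProduct.induction_on with
      | zero => simp
      | add p q hp hq => simp only [map_add, hp, hq]
      | tmul p' q' => simp [sm, VecGrp.GMod.smulW]
  have hlr : ∀ x y, el.rTensor R x * er.rTensor R y = er.rTensor R (sm x y) := by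
    intro x y
    induction x using TensorProduct.induction_on with
    | zero => simp
    | add p q hp hq => simp only [map_add, add_mul, LinearMap.add_apply, hp, hq]
    | tmul p q =>
      induction y using TensorProduct.induction_on with
      | zero => simp
      | add p q hp hq => simp only [map_add, mul_add, hp, hq]
      | tmul p' q' =>
        simp [sm, el, er]
        exact congrArg (· ⊗ₜ[k] (q * q')) ((inl_mul_inr p p').trans (inr_smul A p p'))
  have hrr : ∀ x y, er.rTensor R x * er.rTensor R y = 0 := by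
    intro x y
    induction x using TensorProduct.induction_on with
    | zero => simp
    | add p q hp hq => simp only [map_add, add_mul, hp, hq, add_zero]
    | tmul p q =>
      induction y using TensorProduct.induction_on with
      | zero => simp
      | add p q hp hq => simp only [map_add, mul_add, hp, hq, add_zero]
      | tmul p' q' =>
        simp [er]
        exact (congrArg (· ⊗ₜ[k] (q * q')) (inr_mul_inr A p p')).trans (TensorProduct.zero_tmul _ _)
  have hmul : ∀ x y : T, cT.coact (x * y) = cT.coact x * cT.coact y := by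
    intro x y
    rw [← inl_fst_add_inr_snd_eq x, ← inl_fst_add_inr_snd_eq y, add_mul, mul_add, mul_add,
      inl_mul_inl, inl_mul_inr, inr_mul_inl, inr_mul_inr, add_zero, map_add, map_add, map_add,
      map_add, op_smul_eq_smul, hl, hl, hl, hr, hr, hr, hr, hsm, hsm, add_mul, mul_add, mul_add]
    have e1 : el.rTensor R (cA.coact (fst x * fst y)) =
        el.rTensor R (cA.coact (fst x)) * el.rTensor R (cA.coact (fst y)) := by
      rw [show cA.coact (fst x * fst y) = cA.coact (fst x) * cA.coact (fst y) from
        coactOf_mul ψ ρA hρ _ _]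
      exact map_mul (Algebra.TensorProduct.map (inlAlgHom k A M) (AlgHom.id k R)) _ _
    rw [e1, hlr, mul_comm (er.rTensor R _) (el.rTensor R _), hlr, hrr, add_zero, add_assoc]
  have hone : cT.coact 1 = 1 := by
    rw [← inl_one, hl, show cA.coact 1 = 1 from coactOf_one ψ ρA hρ]
    exact map_one (Algebra.TensorProduct.map (inlAlgHom k A M) (AlgHom.id k R))
  let ρT : VecGrp.GMod G T := ofComod ψ cT
  have hρT : ρT.IsMult := isMult_ofComod ψ cT hmul hone
  haveI : Module.Finite A T := inferInstanceAs (Module.Finite A (A × M))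
  haveI : Algebra.FiniteType k T := Algebra.FiniteType.trans (R := k) (S := A) (A := T)
    inferInstance inferInstance
  obtain ⟨S, hS, hS'⟩ := thmA G hG T ρT hρT inferInstance
  have hfix : ∀ t : T, t ∈ ρT.fixedUnder (𝟙 G) ↔
      fst t ∈ ρA.fixedUnder (𝟙 G) ∧ snd t ∈ ρM.fixedUnder (𝟙 G) := by
    intro t
    rw [mem_fixedUnder_id_iff ψ, mem_fixedUnder_id_iff ψ, mem_fixedUnder_id_iff ψ, coactOf_ofComod]
    conv_lhs => rw [← inl_fst_add_inr_snd_eq t, hcT]
    constructor
    · intro h
      have h1 := congrArg ((fstHom k A M).toLinearMap.rTensor R) h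
      have h2 := congrArg (((sndHom A M).restrictScalars k).rTensor R) h
      rw [map_add, ← LinearMap.rTensor_comp_apply, ← LinearMap.rTensor_comp_apply,
        LinearMap.rTensor_tmul] at h1 h2
      have a1 : (fstHom k A M).toLinearMap ∘ₗ el = LinearMap.id := by ext z; simp [el]
      have a2 : (fstHom k A M).toLinearMap ∘ₗ er = 0 := by ext z; simp [er]
      have a3 : (sndHom A M).restrictScalars k ∘ₗ el = 0 := by ext z; simp [el]
      have a4 : (sndHom A M).restrictScalars k ∘ₗ er = LinearMap.id := by ext z; simp [er]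
      rw [a1, a2] at h1
      rw [a3, a4] at h2
      simp at h1 h2
      exact ⟨h1, h2⟩
    · rintro ⟨h1, h2⟩
      rw [show cA.coact (fst t) = _ from h1, show cM.coact (snd t) = _ from h2,
        LinearMap.rTensor_tmul, LinearMap.rTensor_tmul, ← TensorProduct.add_tmul]
      rfl
  refine ⟨S.image snd, ?_, ?_⟩
  · intro m hm
    obtain ⟨t, ht, rfl⟩ := Finset.mem_image.1 hm
    exact ((hfix t).1 (hS ht)).2
  · intro m hm
    let N := Submodule.span ↥(ρA.fixedSubalgebra hρ (𝟙 G)) (↑(S.image snd) : Set M)
    let P : Subalgebra k T :=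
      { carrier := {t | fst t ∈ ρA.fixedSubalgebra hρ (𝟙 G) ∧ snd t ∈ N}
        mul_mem' := fun {x y} hx hy => ⟨by rw [fst_mul]; exact mul_mem hx.1 hy.1, by
          rw [snd_mul, op_smul_eq_smul]
          exact add_mem (N.smul_mem ⟨_, hx.1⟩ hy.2) (N.smul_mem ⟨_, hy.1⟩ hx.2)⟩
        one_mem' := ⟨by rw [fst_one]; exact one_mem _, by rw [snd_one]; exact zero_mem _⟩
        add_mem' := fun {x y} hx hy => ⟨by rw [fst_add]; exact add_mem hx.1 hy.1,
          by rw [snd_add]; exact add_mem hx.2 hy.2⟩
        zero_mem' := ⟨by rw [fst_zero]; exact zero_mem _, by rw [snd_zero]; exact zero_mem _⟩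
        algebraMap_mem' := fun r => ⟨by
            rw [show fst (algebraMap k T r) = algebraMap k A r from rfl]
            exact Subalgebra.algebraMap_mem _ r,
          by rw [show snd (algebraMap k T r) = 0 from rfl]; exact zero_mem _⟩ }
    have hP : Algebra.adjoin k (S : Set T) ≤ P := Algebra.adjoin_le fun t ht =>
      ⟨((hfix t).1 (hS ht)).1, Submodule.subset_span (Finset.mem_image_of_mem _ ht)⟩
    have hm' : (inr m : T) ∈ ρT.fixedUnder (𝟙 G) := (hfix _).2
      ⟨by rw [fst_inr]; exact zero_mem _, by rw [snd_inr]; exact hm⟩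
    have := (hP (hS' hm')).2
    rw [snd_inr] at this
    exact this

end Groth.Agent.GMod80
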