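import Groth.Agent.GMod80.CharPts
import Groth.Agent.GMod80.Transfer
import Mathlib.RingTheory.Ideal.AssociatedPrime.Localization
import Mathlib.RingTheory.Ideal.Height

/-!
The map to the spectrum of a translation-stable algebra of functions.
-/

set_option autoImplicit false
set_option linter.unusedSectionVars false
set_option linter.style.haveILetI false

universe u

open TensorProduct WithConv

noncomputable section

namespace Groth.Agent.GMod80.Open

theorem comap_equiv_mem_minimalPrimes {R : Type u} [CommRing R] (e : R ≃+* R) {P : Ideal R}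
    (hP : P ∈ minimalPrimes R) : P.comap e.toRingHom ∈ minimalPrimes R := by
  haveI := hP.1.1
  refine ⟨⟨inferInstance, bot_le⟩, fun Q hQ hQle => ?_⟩
  haveI := hQ.1
  intro x hx
  have h1 : Q.comap e.symm.toRingHom ≤ P := fun z hz => by
    have := hQle hz
    change e (e.symm z) ∈ P at this
    rwa [e.apply_symm_apply] at this
  have h3 : e.symm (e x) ∈ Q := hP.2 ⟨inferInstance, bot_le⟩ h1 hx
  rwa [e.symm_apply_apply] at h3

variable {k : Type u} [Field k] {A : Type u} [CommRing A] [HopfAlgebra k A]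

/-- Left translation as an automorphism. -/
def ltrEquiv (g : WithConv (A →ₐ[k] k)) : A ≃ₐ[k] A :=
  AlgEquiv.ofAlgHom (ltr g) (ltr g⁻¹) (by rw [ltr_ltr, inv_mul_cancel, ltr_one])
    (by rw [ltr_ltr, mul_inv_cancel, ltr_one])

variable {R : Type u} [CommRing R] [Algebra k R] (j : R →ₐ[k] A) (hj : Function.Injective j)
  (hst : ∀ (g : WithConv (A →ₐ[k] k)) (r : R), ltr g (j r) ∈ j.range)

/-- The translation induced on the subalgebra. -/
def trans (g : WithConv (A →ₐ[k] k)) : R →ₐ[k] R :=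
  (AlgEquiv.ofInjective j hj).symm.toAlgHom.comp (((ltr g).comp j).codRestrict j.range (hst g))

theorem j_trans (g : WithConv (A →ₐ[k] k)) (r : R) : j (trans j hj hst g r) = ltr g (j r) :=
  congrArg Subtype.val ((AlgEquiv.ofInjective j hj).apply_symm_apply ⟨_, hst g r⟩)

/-- The translation as an automorphism. -/
def transEquiv (g : WithConv (A →ₐ[k] k)) : R ≃ₐ[k] R :=
  AlgEquiv.ofAlgHom (trans j hj hst g) (trans j hj hst g⁻¹)
    (AlgHom.ext fun r => hj (by
      rw [AlgHom.comp_apply, j_trans, j_trans, ← AlgHom.comp_apply, ltr_ltr, inv_mul_cancel, ltr_one]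
      rfl))
    (AlgHom.ext fun r => hj (by
      rw [AlgHom.comp_apply, j_trans, j_trans, ← AlgHom.comp_apply, ltr_ltr, mul_inv_cancel, ltr_one]
      rfl))

theorem comap_trans (g : WithConv (A →ₐ[k] k)) (q : Ideal A) :
    (q.comap (ltr g).toRingHom).comap j.toRingHom =
      (q.comap j.toRingHom).comap (transEquiv j hj hst g).toRingEquiv.toRingHom := by
  ext r
  change ltr g (j r) ∈ q ↔ j (trans j hj hst g r) ∈ q
  rw [j_trans]

variable [IsAlgClosed k] [Algebra.FiniteType k A] [_root_.IsReduced A] [Algebra.FiniteType k R]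

theorem exists_ltr_notMem {f : A} (hf : f ≠ 0) (q : Ideal A) [hq : q.IsPrime] :
    ∃ g : WithConv (A →ₐ[k] k), ltr g f ∉ q := by
  by_contra hall
  push Not at hall
  obtain ⟨y, hy⟩ : ∃ y : WithConv (A →ₐ[k] k), y.ofConv f ≠ 0 := by
    by_contra h
    push Not at h
    exact hf (Comod33.Conn.eq_zero_of_forall_point (k := k) h)
  obtain ⟨m, hm, hqm⟩ := Ideal.exists_le_maximal q hq.ne_top
  obtain ⟨x, hx⟩ := Comod33.Aug.exists_point_ker (k := k) m
  have h1 := hqm (hall (y * (toConv x)⁻¹))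
  rw [hx, RingHom.mem_ker] at h1
  have h2 : x (ltr (y * (toConv x)⁻¹) f) = (y * (toConv x)⁻¹ * toConv x).ofConv f :=
    congrArg (fun p : WithConv (A →ₐ[k] k) => p.ofConv f)
      (point_comp_ltr (toConv x) (y * (toConv x)⁻¹))
  rw [inv_mul_cancel_right] at h2
  exact hy (h2.symm.trans h1)

theorem exists_point_unique_minimal {q : Ideal A} (hq : q ∈ minimalPrimes A) :
    ∃ x : A →ₐ[k] k, q ≤ RingHom.ker x ∧
      ∀ Q ∈ minimalPrimes A, Q ≤ RingHom.ker x → Q = q := by
  classical
  haveI : IsNoetherianRing A := Algebra.FiniteType.isNoetherianRing k A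
  haveI : IsJacobsonRing A := isJacobsonRing_of_finiteType (A := k)
  haveI := hq.1.1
  have hfin : (minimalPrimes A).Finite := minimalPrimes.finite_of_isNoetherianRing A
  have hJ : ¬ (hfin.toFinset.erase q).inf id ≤ q := fun h => by
    obtain ⟨Q, hQ, hle'⟩ := (Ideal.IsPrime.inf_le' (s := hfin.toFinset.erase q) (f := id)
      inferInstance).1 h
    obtain ⟨hne, hQS⟩ := Finset.mem_erase.1 hQ
    exact hne (le_antisymm hle' (hq.2 (hfin.mem_toFinset.1 hQS).1 hle'))
  obtain ⟨f, hfJ, hfq⟩ := SetLike.not_le_iff_exists.1 hJ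
  obtain ⟨m, hm, hqm, hfm⟩ : ∃ m : Ideal A, m.IsMaximal ∧ q ≤ m ∧ f ∉ m := by
    by_contra h
    push Not at h
    apply hfq
    rw [← IsJacobsonRing.out' q hq.1.1.isRadical]
    exact Ideal.mem_sInf.2 fun {I} hI => h I hI.2 hI.1
  obtain ⟨x, hx⟩ := Comod33.Aug.exists_point_ker (k := k) m
  refine ⟨x, hx ▸ hqm, fun Q hQ hQle => ?_⟩
  by_contra hne
  exact hfm (hx ▸ hQle ((Finset.inf_le (f := id)
    (Finset.mem_erase.2 ⟨hne, hfin.mem_toFinset.2 hQ⟩)) hfJ))

include hj hst in
theorem comap_mem_minimalPrimes {q : Ideal A} (hq : q ∈ minimalPrimes A) :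
    q.comap j.toRingHom ∈ minimalPrimes R := by
  obtain ⟨⟨P₀, hP₀⟩⟩ : Nonempty (minimalPrimes R) := by
    haveI : Nontrivial R := by
      rcases subsingleton_or_nontrivial R with h | h
      · have h1 : (1 : A) = 0 := by rw [← map_one j, ← map_zero j, Subsingleton.elim (1 : R) 0]
        exact absurd ((Ideal.eq_top_iff_one q).2 (h1 ▸ q.zero_mem)) hq.1.1.ne_top
      · exact h
    exact Ideal.nonempty_minimalPrimes (I := (⊥ : Ideal R)) bot_ne_top
  obtain ⟨q₁, hq₁, hq₁P⟩ := Ideal.exists_comap_eq_of_mem_minimalPrimes_of_injective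
    (f := j.toRingHom) hj P₀ hP₀
  obtain ⟨q₀, hq₀, hq₀le⟩ := Ideal.exists_minimalPrimes_le (I := (⊥ : Ideal A)) (J := q₁) bot_le
  haveI := hq₀.1.1
  haveI := hP₀.1.1
  have hq₀P : q₀.comap j.toRingHom = P₀ :=
    le_antisymm ((Ideal.comap_mono hq₀le).trans hq₁P.le)
      (hP₀.2 ⟨inferInstance, bot_le⟩ ((Ideal.comap_mono hq₀le).trans hq₁P.le))
  obtain ⟨x, hqx, -⟩ := exists_point_unique_minimal (k := k) hq
  obtain ⟨y, -, hy⟩ := exists_point_unique_minimal (k := k) hq₀
  let g : WithConv (A →ₐ[k] k) := toConv y * (toConv x)⁻¹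
  have hmin : q.comap (ltr g).toRingHom ∈ minimalPrimes A :=
    comap_equiv_mem_minimalPrimes (ltrEquiv g).toRingEquiv hq
  have heq : q.comap (ltr g).toRingHom = q₀ := hy _ hmin fun a ha => by
    have h2 : x (ltr g a) = (g * toConv x).ofConv a :=
      congrArg (fun p : WithConv (A →ₐ[k] k) => p.ofConv a) (point_comp_ltr (toConv x) g)
    rw [inv_mul_cancel_right] at h2
    exact RingHom.mem_ker.2 (h2.symm.trans (RingHom.mem_ker.1 (hqx ha)))
  have h3 : (q.comap j.toRingHom).comap (transEquiv j hj hst g).toRingEquiv.toRingHom = P₀ := by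
    rw [← comap_trans, heq, hq₀P]
  have h4 := comap_equiv_mem_minimalPrimes (transEquiv j hj hst g).toRingEquiv.symm (h3 ▸ hP₀)
  rw [Ideal.comap_comap] at h4
  convert h4 using 1
  ext r
  simp only [Ideal.mem_comap, RingHom.comp_apply]
  exact iff_of_eq (congrArg (· ∈ q) (congrArg j
    ((transEquiv j hj hst g).apply_symm_apply r).symm))

include hj hst in
theorem isOpen_range : IsOpen (Set.range (PrimeSpectrum.comap j.toRingHom)) := by
  classical
  rcases subsingleton_or_nontrivial A with hA | hA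
  · haveI : IsEmpty (PrimeSpectrum A) := inferInstance
    rw [Set.range_eq_empty]
    exact isOpen_empty
  haveI : _root_.IsReduced R := isReduced_of_injective j hj
  haveI : IsNoetherianRing R := Algebra.FiniteType.isNoetherianRing k R
  have hfp : j.toRingHom.FinitePresentation := by
    algebraize [j.toRingHom]
    haveI : IsScalarTower k R A := IsScalarTower.of_algebraMap_eq fun c => (j.commutes c).symm
    refine RingHom.FinitePresentation.of_finiteType.1 ?_
    exact (Algebra.FiniteType.of_restrictScalars_finiteType k R A : Algebra.FiniteType R A)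
  have hIm := PrimeSpectrum.isConstructible_range_comap hfp
  obtain ⟨⟨q, hq⟩⟩ := Ideal.nonempty_minimalPrimes (I := (⊥ : Ideal A)) bot_ne_top
  have hP := comap_mem_minimalPrimes j hj hst hq
  haveI := hq.1.1
  haveI := hP.1.1
  let P := q.comap j.toRingHom
  have hmem : (⟨P, inferInstance⟩ : PrimeSpectrum R) ∈ Set.range (PrimeSpectrum.comap j.toRingHom) :=
    ⟨⟨q, inferInstance⟩, rfl⟩
  obtain ⟨S, hS⟩ := PrimeSpectrum.exists_constructibleSetData_iff.mpr hIm
  rw [← hS, PrimeSpectrum.ConstructibleSetData.toSet, Set.mem_iUnion₂] at hmem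
  obtain ⟨C, hC, hptC⟩ := hmem
  rw [PrimeSpectrum.BasicConstructibleSetData.toSet, Set.mem_sdiff] at hptC
  obtain ⟨hg', hf'⟩ := hptC
  rw [PrimeSpectrum.mem_zeroLocus] at hg' hf'
  have hfP : C.f ∉ P := fun h => hf' (Set.singleton_subset_iff.2 h)
  obtain ⟨t, htP, ht⟩ : ∃ t, t ∉ P ∧ ∀ a ∈ P, t * a = 0 := by
    have hfin : (minimalPrimes R).Finite := minimalPrimes.finite_of_isNoetherianRing R
    let J : Ideal R := (hfin.toFinset.erase P).inf id
    have hJ : ¬ J ≤ P := fun h => by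
      obtain ⟨Q, hQ, hle'⟩ := (Ideal.IsPrime.inf_le' (s := hfin.toFinset.erase P) (f := id)
        inferInstance).1 h
      obtain ⟨hne, hQS⟩ := Finset.mem_erase.1 hQ
      exact hne (le_antisymm hle' (hP.2 (hfin.mem_toFinset.1 hQS).1 hle'))
    obtain ⟨t, ht, htP⟩ := SetLike.not_le_iff_exists.1 hJ
    refine ⟨t, htP, fun a ha => ?_⟩
    have h1 : t * a ∈ sInf (minimalPrimes R) := by
      rw [Ideal.mem_sInf]
      intro Q hQ
      by_cases h : Q = P
      · exact h ▸ P.mul_mem_left _ ha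
      · exact Q.mul_mem_right _
          ((Finset.inf_le (f := id) (Finset.mem_erase.2 ⟨h, hfin.mem_toFinset.2 hQ⟩)) ht)
    rw [show minimalPrimes R = (⊥ : Ideal R).minimalPrimes from rfl, Ideal.sInf_minimalPrimes] at h1
    exact (Ideal.isRadical_bot_iff.2 inferInstance) h1
  let s : R := C.f * t
  have hs0 : j s ≠ 0 := fun h => by
    have h1 : C.f * t ∈ P := by
      rw [show C.f * t = 0 from hj (h.trans (map_zero j).symm)]
      exact P.zero_mem
    exact (Ideal.IsPrime.mem_or_mem inferInstance h1).elim hfP htP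
  have hsub : ∀ Q : PrimeSpectrum R, s ∉ Q.asIdeal →
      Q ∈ Set.range (PrimeSpectrum.comap j.toRingHom) := by
    intro Q hQ
    rw [← hS, PrimeSpectrum.ConstructibleSetData.toSet, Set.mem_iUnion₂]
    refine ⟨C, hC, ?_⟩
    rw [PrimeSpectrum.BasicConstructibleSetData.toSet, Set.mem_sdiff,
      PrimeSpectrum.mem_zeroLocus, PrimeSpectrum.mem_zeroLocus]
    refine ⟨fun a ha => ?_, fun h => hQ (Q.asIdeal.mul_mem_right _ (h rfl))⟩
    have h1 : t * a ∈ Q.asIdeal := by rw [ht a (hg' ha)]; exact Q.asIdeal.zero_mem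
    exact (Q.isPrime.mem_or_mem h1).resolve_left fun h => hQ (Q.asIdeal.mul_mem_left _ h)
  have hU : Set.range (PrimeSpectrum.comap j.toRingHom) =
      ⋃ g : WithConv (A →ₐ[k] k),
        (PrimeSpectrum.basicOpen (trans j hj hst g s) : Set (PrimeSpectrum R)) := by
    refine Set.Subset.antisymm ?_ ?_
    · rintro _ ⟨q', rfl⟩
      obtain ⟨g, hg⟩ := exists_ltr_notMem (k := k) hs0 q'.asIdeal
      refine Set.mem_iUnion.2 ⟨g, ?_⟩
      change j (trans j hj hst g s) ∉ q'.asIdeal
      rw [j_trans]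
      exact hg
    · refine Set.iUnion_subset fun g Q hQ => ?_
      obtain ⟨q', hq'⟩ := hsub (PrimeSpectrum.comap (trans j hj hst g).toRingHom Q) hQ
      refine ⟨PrimeSpectrum.comap (ltr g⁻¹).toRingHom q', ?_⟩
      ext r
      change ltr g⁻¹ (j r) ∈ q'.asIdeal ↔ r ∈ Q.asIdeal
      rw [← j_trans j hj hst]
      change trans j hj hst g⁻¹ r ∈ (PrimeSpectrum.comap j.toRingHom q').asIdeal ↔ _
      rw [hq']
      change trans j hj hst g (trans j hj hst g⁻¹ r) ∈ Q.asIdeal ↔ _
      exact iff_of_eq (congrArg (· ∈ Q.asIdeal) ((transEquiv j hj hst g).apply_symm_apply r))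
  rw [hU]
  exact isOpen_iUnion fun g => (PrimeSpectrum.basicOpen _).isOpen

include hj hst in
theorem two_le_height
    (hdiv : ∀ (t s : R) (F : A), j s ∈ nonZeroDivisors A → j s * F = j t → F ∈ j.range)
    (P : PrimeSpectrum R) (hP : P ∉ Set.range (PrimeSpectrum.comap j.toRingHom)) :
    (2 : ℕ∞) ≤ P.asIdeal.height := by
  classical
  by_contra hlt
  rw [not_le] at hlt
  haveI : IsNoetherianRing R := Algebra.FiniteType.isNoetherianRing k R
  haveI : IsNoetherianRing A := Algebra.FiniteType.isNoetherianRing k A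
  have hPmin : P.asIdeal ∉ minimalPrimes R := fun h => by
    obtain ⟨q, hq, hqP⟩ := Ideal.exists_comap_eq_of_mem_minimalPrimes_of_injective
      (f := j.toRingHom) hj P.asIdeal h
    exact hP ⟨⟨q, hq⟩, PrimeSpectrum.ext hqP⟩
  have hfin : (minimalPrimes R).Finite := minimalPrimes.finite_of_isNoetherianRing R
  obtain ⟨s, hsP, hs⟩ : ∃ s ∈ P.asIdeal, ∀ Q ∈ minimalPrimes R, s ∉ Q := by
    by_contra h
    push Not at h
    have hsub : (P.asIdeal : Set R) ⊆ ⋃ Q ∈ (hfin.toFinset : Set (Ideal R)), (Q : Set R) :=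
      fun x hx => by
        obtain ⟨Q, hQ, hxQ⟩ := h x hx
        exact Set.mem_biUnion (hfin.mem_toFinset.2 hQ) hxQ
    obtain ⟨Q, hQ, hle⟩ := (Ideal.subset_union_prime (f := id) ⊥ ⊥
      fun Q hQ _ _ => (hfin.mem_toFinset.1 hQ).1.1).1 hsub
    haveI := P.isPrime
    exact hPmin ((le_antisymm hle ((hfin.mem_toFinset.1 hQ).2 ⟨P.isPrime, bot_le⟩ hle) :
      P.asIdeal = Q) ▸ hfin.mem_toFinset.1 hQ)
  have hnzd : j s ∈ nonZeroDivisors A := by
    rw [mem_nonZeroDivisors_iff_right]
    intro z hz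
    have h1 : z ∈ sInf (minimalPrimes A) := by
      rw [Ideal.mem_sInf]
      intro q hq
      have := (hq.1.1.mem_or_mem (show z * j s ∈ q by rw [hz]; exact q.zero_mem))
      exact this.resolve_right fun h => hs _ (comap_mem_minimalPrimes j hj hst hq) h
    rw [show minimalPrimes A = (⊥ : Ideal A).minimalPrimes from rfl, Ideal.sInf_minimalPrimes] at h1
    exact (Ideal.isRadical_bot_iff.2 inferInstance) h1
  have hmin : P.asIdeal ∈ (Ideal.span {s}).minimalPrimes := by
    refine ⟨⟨P.isPrime, (Ideal.span_singleton_le_iff_mem _).2 hsP⟩, fun Q hQ hle => ?_⟩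
    by_contra hne
    haveI := hQ.1
    haveI := P.isPrime
    have hQmin : Q ∉ minimalPrimes R := fun h =>
      hs Q h ((Ideal.span_singleton_le_iff_mem _).1 hQ.2)
    have h1 : 1 ≤ Q.height := by
      rw [Order.one_le_iff_ne_zero, Ne, Ideal.height_eq_zero_iff]
      exact hQmin
    haveI : P.asIdeal.FiniteHeight :=
      P.asIdeal.finiteHeight_iff.mpr (Or.inr (ne_top_of_lt hlt))
    have h2 : Q.height < P.asIdeal.height :=
      Ideal.height_strict_mono_of_isPrime_of_isPrime (lt_of_le_not_ge hle hne)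
    have h3 : Q.height + 1 ≤ P.asIdeal.height :=
      (ENat.add_one_le_iff (ne_top_of_lt h2)).2 h2
    exact absurd hlt (not_lt.2 ((le_of_eq (by norm_num : (2 : ℕ∞) = 1 + 1)).trans
      ((add_le_add h1 le_rfl).trans h3)))
  obtain ⟨-, tb, htb⟩ := isAssociatedPrime_iff.1
    (Module.associatedPrimes.minimalPrimes_annihilator_subset_associatedPrimes
    R (R ⧸ Ideal.span {s}) (by rw [Ideal.annihilator_quotient]; exact hmin))
  obtain ⟨t, rfl⟩ := Ideal.Quotient.mk_surjective tb
  have hmemP : ∀ p, p ∈ P.asIdeal ↔ p * t ∈ Ideal.span {s} := fun p => by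
    rw [htb, Submodule.mem_colon_singleton, Submodule.mem_bot, ← Ideal.Quotient.mk_eq_mk,
      ← Submodule.Quotient.mk_smul, Submodule.Quotient.mk_eq_zero, smul_eq_mul]
  have hopen := isOpen_range j hj hst
  have htop : (Ideal.span {j s}).colon ({j t} : Set A) = ⊤ := by
    by_contra hne
    obtain ⟨m, hm, hle⟩ := Ideal.exists_le_maximal _ hne
    let Q : PrimeSpectrum R := PrimeSpectrum.comap j.toRingHom ⟨m, hm.isPrime⟩
    have hnle : ¬ P.asIdeal ≤ Q.asIdeal := fun h => hP
      (hopen.stableUnderGeneralization ((PrimeSpectrum.le_iff_specializes P Q).1 h) ⟨_, rfl⟩)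
    obtain ⟨p, hp, hpQ⟩ := SetLike.not_le_iff_exists.1 hnle
    refine hpQ (hle ?_)
    obtain ⟨r, hr⟩ := Ideal.mem_span_singleton'.1 ((hmemP p).1 hp)
    refine Submodule.mem_colon_singleton.2 (Ideal.mem_span_singleton'.2 ⟨j r, ?_⟩)
    change j r * j s = j p * j t
    rw [← map_mul, ← map_mul, hr]
  have h1 : (1 : A) ∈ (Ideal.span {j s}).colon ({j t} : Set A) := htop ▸ Submodule.mem_top
  rw [Submodule.mem_colon_singleton, one_smul, Ideal.mem_span_singleton'] at h1
  obtain ⟨F, hF⟩ := h1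
  obtain ⟨r, rfl⟩ := hdiv t s F hnzd (by rw [mul_comm, hF])
  refine P.isPrime.ne_top ((Ideal.eq_top_iff_one _).2 ((hmemP 1).2 ?_))
  rw [_root_.one_mul]
  exact Ideal.mem_span_singleton'.2 ⟨r, hj (by rw [map_mul]; exact hF)⟩

end Groth.Agent.GMod80.Open
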