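import Groth.Agent.GMod80.Dict
import Groth.Agent.GMod80.Alg
import Groth.Agent.Comod33.Connected
import Groth.Agent.AlgGrp79.Cover
import Groth.Agent.Unr55.FppfScheme
import Groth.Prelude.Def_AGF
import Groth.Prelude.Def_W4bk4grossh111Obs
import Mathlib.AlgebraicGeometry.Morphisms.Proper
import Mathlib.FieldTheory.IsAlgClosed.Basic

/-! Invariant functions and proper quotients. -/

set_option autoImplicit false
set_option linter.style.haveILetI false

universe u

open CategoryTheory MonoidalCategory CartesianMonoidalCategory MonObj GrpObj AlgebraicGeometry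
open scoped TensorProduct
open WithConv

noncomputable section

namespace Groth.Agent.GMod80

open Polynomial in
/-- Global functions descend along fppf covers. -/
theorem exists_appTop_eq {P X Y : Scheme.{u}} {p q : P ⟶ X} {f : X ⟶ Y} [Flat f] [Surjective f]
    [LocallyOfFinitePresentation f] (hpb : IsPullback p q f f) (ψ : Γ(X, ⊤))
    (h : p.appTop ψ = q.appTop ψ) : ∃ c : Γ(Y, ⊤), f.appTop c = ψ := by
  let R := CommRingCat.of ((ULift.{u} ℤ)[X])
  let ρ : R ⟶ Γ(X, ⊤) := CommRingCat.ofHom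
    (eval₂RingHom ((Int.castRingHom Γ(X, ⊤)).comp ULift.ringEquiv.toRingHom) ψ)
  let φ : X ⟶ Spec R := X.toSpecΓ ≫ Spec.map ρ
  have hρ : ρ ≫ p.appTop = ρ ≫ q.appTop := by
    apply CommRingCat.hom_ext
    refine Polynomial.ringHom_ext (fun n => ?_) ?_
    · exact RingHom.congr_fun (RingHom.ext_int (((ρ ≫ p.appTop).hom.comp C).comp ULift.ringEquiv.symm.toRingHom)
        (((ρ ≫ q.appTop).hom.comp C).comp ULift.ringEquiv.symm.toRingHom)) n.down
    · simpa [ρ] using h
  have hpq : p ≫ φ = q ≫ φ := by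
    simp only [φ, Scheme.toSpecΓ_naturality_assoc, ← Spec.map_comp, hρ]
  have hd : ∀ {T : Scheme.{u}} (a b : T ⟶ X), a ≫ f = b ≫ f → a ≫ φ = b ≫ φ := fun a b hab => by
    obtain ⟨l, rfl, rfl⟩ : ∃ l, l ≫ p = a ∧ l ≫ q = b :=
      ⟨hpb.lift a b hab, hpb.lift_fst _ _ _, hpb.lift_snd _ _ _⟩
    rw [Category.assoc, Category.assoc, hpq]
  refine ⟨(EffectiveEpi.desc f φ hd).appTop ((Scheme.ΓSpecIso R).inv Polynomial.X), ?_⟩
  rw [← ConcreteCategory.comp_apply, ← Scheme.Hom.comp_appTop, EffectiveEpi.fac]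
  simp only [φ, Scheme.Hom.comp_appTop, Scheme.toSpecΓ_appTop, ← ConcreteCategory.comp_apply]
  rw [Scheme.ΓSpecIso_naturality, Iso.inv_hom_id_assoc]
  simp [ρ]
  exact Polynomial.eval₂_X _ _

variable {k : Type u} [Field k] [IsAlgClosed k]

/-- A function invariant under a subgroup with proper irreducible quotient is constant. -/
theorem exists_const_of_proper_quotient {G H X : Over (Spec (CommRingCat.of k))} [GrpObj G] [GrpObj H]
    [Smooth G.hom] (i : H ⟶ G) (a : AlgGrp.Action G X) (o : 𝟙_ (Over (Spec (CommRingCat.of k))) ⟶ X)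
    (hX : AGF.IsQuotient i X a o) [IsProper X.hom] [IrreducibleSpace X.left]
    (ψ : Γ(G.left, ⊤)) (h : AGF.IsRTransInv i ψ) :
    ∃ c : k, ψ = G.hom.appTop ((Scheme.ΓSpecIso (CommRingCat.of k)).inv c) := by
  obtain ⟨hlft, hflat, hsurj, hpb⟩ := hX
  haveI := AlgGrp79.lfp_left (a.orbitMap o)
  haveI : Smooth X.hom := by
    haveI : Smooth ((a.orbitMap o).left ≫ X.hom) := by rw [Over.w]; infer_instance
    exact Unr55.smooth_of_fppf_comp (a.orbitMap o).left X.hom
  haveI : IsReduced X.left := AlgGrp79.isReduced_of_smooth X.hom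
  haveI : IsIntegral X.left := isIntegral_of_irreducibleSpace_of_isReduced X.left
  have hpb' := hpb.map (Over.forget (Spec (CommRingCat.of k)))
  simp only [Over.forget_map] at hpb'
  obtain ⟨c, rfl⟩ := @exists_appTop_eq _ _ _ _ _ _ hflat hsurj (AlgGrp79.lfp_left (a.orbitMap o)) hpb' ψ h.symm
  let F : k →+* Γ(X.left, ⊤) := ((Scheme.ΓSpecIso (CommRingCat.of k)).inv ≫ X.hom.appTop).hom
  have hFfin : F.Finite := (finite_appTop_of_universallyClosed k X.hom).comp
    (RingHom.Finite.of_surjective _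
      (ConcreteCategory.bijective_of_isIso (Scheme.ΓSpecIso (CommRingCat.of k)).inv).2)
  letI := F.toAlgebra
  haveI : Module.Finite k Γ(X.left, ⊤) := hFfin
  haveI : IsDomain Γ(X.left, ⊤) := inferInstance
  obtain ⟨r, rfl⟩ := (IsAlgClosed.algebraMap_bijective_of_isIntegral (k := k) (K := Γ(X.left, ⊤))).2 c
  refine ⟨r, ?_⟩
  change (a.orbitMap o).left.appTop (X.hom.appTop _) = _
  rw [← ConcreteCategory.comp_apply, ← Scheme.Hom.comp_appTop, Over.w]
  rfl

variable {A : Type u} [CommRing A] [HopfAlgebra k A] [Algebra.FiniteType k A] [IsReduced A]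
  {A₂ : Type u} [CommRing A₂] [HopfAlgebra k A₂] {A₁ : Type u} [CommRing A₁]

omit [IsAlgClosed k] [Algebra.FiniteType k A] [IsReduced A] in
theorem pull_comp [HopfAlgebra k A₁] {G H K : Over (Spec (CommRingCat.of k))} [GrpObj G] [GrpObj H]
    [GrpObj K] (ψ : sp k A ≅ G) [IsMonHom ψ.hom] (ψ₂ : sp k A₂ ≅ H) [IsMonHom ψ₂.hom]
    (ψ₁ : sp k A₁ ≅ K) [IsMonHom ψ₁.hom] (j : K ⟶ H) (i : H ⟶ G) :
    pull ψ ψ₁ (j ≫ i) = (pull ψ₂ ψ₁ j).comp (pull ψ ψ₂ i) := by
  have h1 := e_comp ψ₂ ψ₁ j (toConv (AlgHom.id k A₁))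
  rw [ofConv_toConv, AlgHom.id_comp] at h1
  rw [pull, ← Category.assoc, h1, e_comp ψ ψ₂ i, MulEquiv.symm_apply_apply, ofConv_toConv, ofConv_toConv]

omit [IsAlgClosed k] [Algebra.FiniteType k A] [IsReduced A] in
theorem isInv_slice [Algebra k A₁] (π₂ : A →ₐc[k] A₂) (π₁ : A₂ →ₐ[k] A₁) {a : A}
    (ha : (π₁.comp (π₂ : A →ₐ[k] A₂)).toLinearMap.lTensor A (CoalgebraStruct.comul (R := k) a) =
      a ⊗ₜ[k] (1 : A₁)) (g : WithConv (A →ₐ[k] k)) :
    π₁.toLinearMap.lTensor A₂ (CoalgebraStruct.comul (R := k) (π₂ (ltr g a))) =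
      π₂ (ltr g a) ⊗ₜ[k] (1 : A₁) := by
  have h1 : CoalgebraStruct.comul (R := k) (π₂ (ltr g a)) =
      Algebra.TensorProduct.map (π₂ : A →ₐ[k] A₂) (π₂ : A →ₐ[k] A₂)
        (Algebra.TensorProduct.map (ltr g) (AlgHom.id k A) (CoalgebraStruct.comul (R := k) a)) := by
    rw [← CoalgHomClass.map_comp_comul_apply π₂]
    exact congrArg _ (AlgHom.congr_fun (comul_ltr g) a)
  rw [h1]
  have h2 : ∀ x : A ⊗[k] A, π₁.toLinearMap.lTensor A₂
      (Algebra.TensorProduct.map (π₂ : A →ₐ[k] A₂) (π₂ : A →ₐ[k] A₂)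
        (Algebra.TensorProduct.map (ltr g) (AlgHom.id k A) x)) =
      ((π₂ : A →ₐ[k] A₂).comp (ltr g)).toLinearMap.rTensor A₁
        ((π₁.comp (π₂ : A →ₐ[k] A₂)).toLinearMap.lTensor A x) := by
    intro x
    induction x using TensorProduct.induction_on with
    | zero => simp
    | add p q hp hq => simp only [map_add, hp, hq]
    | tmul p q => simp
  rw [h2, ha]
  rfl

theorem lTensor_comul_eq_of_slices (π₂ : A →ₐc[k] A₂) {a : A}
    (h : ∀ g : WithConv (A →ₐ[k] k), ∃ c : k, π₂ (ltr g a) = c • (1 : A₂)) :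
    (π₂ : A →ₐ[k] A₂).toLinearMap.lTensor A (CoalgebraStruct.comul (R := k) a) = a ⊗ₜ[k] (1 : A₂) := by
  refine Comod33.eq_of_rc fun f => sub_eq_zero.1 (Comod33.Conn.eq_zero_of_forall_point (k := k) fun g => ?_)
  rw [map_sub, sub_eq_zero]
  obtain ⟨c, hc⟩ := h g
  have hsl : ∀ x : A ⊗[k] A₂, g.ofConv (Comod33.rc f x) =
      f (TensorProduct.lid k A₂ (g.ofConv.toLinearMap.rTensor A₂ x)) := by
    intro x
    induction x using TensorProduct.induction_on with
    | zero => simp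
    | add p q hp hq => simp only [map_add, hp, hq]
    | tmul p q => simp [Comod33.rc, mul_comm]
  have h3 : TensorProduct.lid k A₂ (g.ofConv.toLinearMap.rTensor A₂
      ((π₂ : A →ₐ[k] A₂).toLinearMap.lTensor A (CoalgebraStruct.comul (R := k) a))) = π₂ (ltr g a) := by
    rw [ltr, AlgHom.convMul_apply]
    generalize CoalgebraStruct.comul (R := k) a = x
    induction x using TensorProduct.induction_on with
    | zero => simp
    | add p q hp hq => simp only [map_add, hp, hq]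
    | tmul p q => simp [cst, Algebra.smul_def, AlgHomClass.commutes π₂]
  have hgc : g.ofConv a = c := by
    have h4 := congrArg (Bialgebra.counitAlgHom k A₂) hc
    rw [map_smul, map_one, smul_eq_mul, _root_.mul_one] at h4
    rw [← h4]
    show _ = CoalgebraStruct.counit (R := k) (π₂ (ltr g a))
    rw [CoalgHomClass.counit_comp_apply]
    have h5 := point_comp_ltr (1 : WithConv (A →ₐ[k] k)) g
    rw [_root_.mul_one] at h5
    exact (AlgHom.congr_fun (congrArg WithConv.ofConv h5) a).symm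
  rw [hsl, hsl, h3, hc, LinearMap.rTensor_tmul, TensorProduct.lid_tmul, AlgHom.toLinearMap_apply, hgc]

end Groth.Agent.GMod80
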