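import Groth.Agent.GMod80.Alg
import Groth.Agent.GMod80.Observable
import Groth.Agent.Comod33.Push
import Mathlib.RingTheory.Jacobson.Ring

/-!
Reductive subgroups are observable, granting geometric invariant theory.
-/

set_option autoImplicit false
set_option linter.unusedSectionVars false
set_option linter.style.haveILetI false

universe u v

open CategoryTheory MonoidalCategory CartesianMonoidalCategory MonObj GrpObj AlgebraicGeometry
open scoped TensorProduct
open WithConv TensorProduct

noncomputable section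

namespace Groth.Agent.GMod80

variable {k : Type u} [Field k] [IsAlgClosed k] {G : Over (Spec (CommRingCat.of k))} [GrpObj G]
  {H : Over (Spec (CommRingCat.of k))} [GrpObj H] (i : H ⟶ G) [IsMonHom i]

theorem isObservableIn_of_reductive [IsAffine G.left] [Smooth G.hom] [Smooth H.hom]
    [IsClosedImmersion i.left] (hH : VecGrp.IsReductiveGrp k H)
    (hsep : AGF.ReductiveQuotSeparates k) : AGF.IsObservableIn k i := by
  have : IsAffine H.left := isAffine_of_isAffineHom i.left
  obtain ⟨A, _, _, ψ, _⟩ := exists_coord G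
  obtain ⟨A', _, _, ψ', _⟩ := exists_coord H
  have := finiteType ψ
  have := isReduced ψ
  have := finiteType ψ'
  have := isReduced ψ'
  haveI : IsJacobsonRing A := isJacobsonRing_of_finiteType (A := k)
  let π := pull ψ ψ' i
  have hπs := pull_surjective ψ ψ' i
  intro g hg
  obtain ⟨f, rfl⟩ := (e ψ k).surjective g
  by_contra hno
  let c : HopfRep.Comod k A' A :=
    Comod33.push (pullBialg ψ ψ' i).toCoalgHom (HopfRep.Comod.regular k A)
  let ρ : VecGrp.GMod H A := ofComod ψ' c
  have hc : ∀ a, c.coact a =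
      (Algebra.TensorProduct.map (AlgHom.id k A) π).comp (Bialgebra.comulAlgHom k A) a := fun a => rfl
  have hρ : ρ.IsMult := isMult_ofComod ψ' c
    (fun x y => by rw [hc, hc, hc, map_mul]) (by rw [hc, map_one])
  have hstable : ∀ φ : A →ₐ[k] A,
      (Bialgebra.comulAlgHom k A).comp φ =
        (Algebra.TensorProduct.map φ (AlgHom.id k A)).comp (Bialgebra.comulAlgHom k A) →
      ρ.IsStable (𝟙 H) ((RingHom.ker (π.comp φ)).restrictScalars k) := by
    intro φ hφ
    rw [isStable_id_iff ψ']
    intro a ha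
    change coactOf ψ' ρ a ∈ _
    rw [coactOf_ofComod, hc]
    have hmem : (Algebra.TensorProduct.map (π.comp φ) (AlgHom.id k A'))
        ((Algebra.TensorProduct.map (AlgHom.id k A) π) (Bialgebra.comulAlgHom k A a)) = 0 := by
      have h1 : (Algebra.TensorProduct.map π π) (Bialgebra.comulAlgHom k A (φ a)) =
          CoalgebraStruct.comul (R := k) (π (φ a)) :=
        LinearMap.congr_fun (pullBialg ψ ψ' i).map_comp_comul (φ a)
      rw [show π (φ a) = 0 from ha, map_zero] at h1
      rw [← AlgHom.comp_apply (Bialgebra.comulAlgHom k A) φ, hφ, AlgHom.comp_apply] at h1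
      rw [← h1]
      generalize Bialgebra.comulAlgHom k A a = z
      induction z using TensorProduct.induction_on with
      | zero => simp
      | add p q hp hq => simp only [map_add, hp, hq]
      | tmul p q => simp
    have := ker_rTensor (π.comp φ).toLinearMap A'
      ((Algebra.TensorProduct.map (AlgHom.id k A) π) (Bialgebra.comulAlgHom k A a)) hmem
    exact this
  let I₁ := RingHom.ker (π.comp (AlgHom.id k A))
  let I₂ := RingHom.ker (π.comp (ltr f))
  have hr : ∀ φ : A →ₐ[k] A, (RingHom.ker (π.comp φ)).IsRadical := fun φ x hx => by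
    obtain ⟨n, hn⟩ := hx
    rw [RingHom.mem_ker, map_pow] at hn
    exact RingHom.mem_ker.2 (IsReduced.eq_zero _ ⟨n, hn⟩)
  have hcop : I₁ ⊔ I₂ = ⊤ := by
    by_contra hne
    obtain ⟨m, hm, hle⟩ := Ideal.exists_le_maximal _ hne
    obtain ⟨p, hp⟩ := Comod33.Aug.exists_point_ker (k := k) m
    have hfac : ∀ q : A →ₐ[k] k, (∀ a, π a = 0 → q a = 0) →
        ∃ q' : WithConv (A' →ₐ[k] k), q'.ofConv.comp π = q := fun q hq =>
      ⟨toConv ((Ideal.Quotient.liftₐ (RingHom.ker π) q (fun a ha => hq a ha)).comp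
        (Ideal.quotientKerAlgEquivOfSurjective hπs).symm.toAlgHom), by
          refine AlgHom.ext fun a => ?_
          change Ideal.Quotient.liftₐ (RingHom.ker π) q (fun a ha => hq a ha)
            ((Ideal.quotientKerAlgEquivOfSurjective hπs).symm (π a)) = q a
          rw [show (Ideal.quotientKerAlgEquivOfSurjective hπs).symm (π a) =
            Ideal.Quotient.mk (RingHom.ker π.toRingHom) a from
            (Ideal.quotientKerAlgEquivOfSurjective hπs).symm_apply_eq.2 rfl]
          rfl⟩
    have hpk : ∀ a, a ∈ I₁ ⊔ I₂ → p a = 0 := fun a ha => by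
      have := hle ha
      rw [hp] at this
      exact this
    obtain ⟨q₁, hq₁⟩ := hfac p fun a ha => hpk a (Ideal.mem_sup_left ha)
    obtain ⟨q₂, hq₂⟩ := hfac (p.comp (ltr f⁻¹)) fun a ha => by
      refine hpk _ (Ideal.mem_sup_right ?_)
      change π (ltr f (ltr f⁻¹ a)) = 0
      rw [← AlgHom.comp_apply (ltr f) (ltr f⁻¹), ltr_ltr, inv_mul_cancel, ltr_one]
      exact ha
    have e2 : toConv (q₂.ofConv.comp π) = f⁻¹ * toConv (q₁.ofConv.comp π) := by
      rw [hq₂, hq₁]
      exact point_comp_ltr (toConv p) f⁻¹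
    refine hno ⟨e ψ' k q₁ * (e ψ' k q₂)⁻¹, ?_⟩
    rw [MonObj.mul_comp, GrpObj.inv_comp, e_comp ψ, e_comp ψ, e2, map_mul, map_inv, _root_.mul_inv_rev,
      _root_.inv_inv, mul_inv_cancel_left]
  have key := hsep H hH A ρ hρ inferInstance I₁ I₂ (hr _) (hr _)
    (hstable _ (by ext a; simp)) (hstable _ (comul_ltr f)) hcop
  have h1 : (1 : ρ.fixedSubalgebra hρ (𝟙 H)) ∈ (⊤ : Ideal _) := trivial
  rw [← key, Submodule.mem_sup] at h1
  obtain ⟨u, hu, v, hv, huv⟩ := h1
  have hinv : ∀ w : ρ.fixedSubalgebra hρ (𝟙 H),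
      f.ofConv (w : A) = CoalgebraStruct.counit (R := k) (w : A) := fun w => by
    have hw : (w : A) ∈ ρ.fixedUnder (𝟙 H) := w.2
    rw [mem_fixedUnder_id_iff ψ', coactOf_ofComod, hc] at hw
    have hw' : AGF.IsRTransInv i (fn ψ (w : A)) := (isRTransInv_iff ψ ψ' i _).2 hw
    have h2 := (isRTransInv_pt_iff_act ψ f _).1 (hg _ hw')
    have h3 := Comod33.counit_act f.ofConv (w : A)
    rw [h2] at h3
    exact h3.symm
  have hu0 : f.ofConv (u : A) = 0 := by
    rw [hinv, ← CoalgHomClass.counit_comp_apply (pullBialg ψ ψ' i) (u : A)]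
    change CoalgebraStruct.counit (R := k) (π (u : A)) = 0
    rw [show π (u : A) = 0 from hu, map_zero]
  have hv0 : f.ofConv (v : A) = 0 := by
    have h2 := congrArg (fun q : WithConv (A →ₐ[k] k) => q.ofConv (v : A))
      (point_comp_ltr (1 : WithConv (A →ₐ[k] k)) f)
    rw [_root_.mul_one] at h2
    change CoalgebraStruct.counit (R := k) (ltr f (v : A)) = f.ofConv (v : A) at h2
    rw [← h2, ← CoalgHomClass.counit_comp_apply (pullBialg ψ ψ' i) (ltr f (v : A))]
    change CoalgebraStruct.counit (R := k) (π (ltr f (v : A))) = 0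
    rw [show π (ltr f (v : A)) = 0 from hv, map_zero]
  have := congrArg (fun w : ρ.fixedSubalgebra hρ (𝟙 H) => f.ofConv (w : A)) huv
  simp only [AddMemClass.coe_add, OneMemClass.coe_one, map_add, map_one, hu0, hv0, add_zero] at this
  exact zero_ne_one this

end Groth.Agent.GMod80
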