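import Groth.Agent.GMod80.ObsChar
import Groth.Agent.GMod80.Finite
import Groth.Agent.Comod33.LieKolchin
import Groth.Agent.Comod33.IdentityComp

/-!
Closed subgroups of solvable groups are observable.
-/

set_option autoImplicit false
set_option linter.unusedSectionVars false
set_option linter.style.haveILetI false

universe u

open CategoryTheory MonoidalCategory CartesianMonoidalCategory MonObj GrpObj AlgebraicGeometry
open scoped TensorProduct
open WithConv TensorProduct

noncomputable section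

namespace Groth.Agent.GMod80

variable {k : Type u} [Field k] {A : Type u} [CommRing A] [HopfAlgebra k A]

/-- The map on rational points of a homomorphism. -/
def ptsHom {A₀ : Type u} [CommRing A₀] [HopfAlgebra k A₀] (π : A →ₐc[k] A₀) :
    WithConv (A₀ →ₐ[k] k) →* WithConv (A →ₐ[k] k) where
  toFun q := toConv (q.ofConv.comp (π : A →ₐ[k] A₀))
  map_one' := by
    apply WithConv.ofConv_injective
    ext a
    change algebraMap k k (CoalgebraStruct.counit (R := k) (π a)) = _
    rw [CoalgHomClass.counit_comp_apply]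
    rfl
  map_mul' q q' := by
    apply WithConv.ofConv_injective
    ext a
    change (q * q').ofConv (π a) = _
    rw [AlgHom.convMul_apply, AlgHom.convMul_apply, ← CoalgHomClass.map_comp_comul_apply]
    generalize CoalgebraStruct.comul (R := k) a = z
    induction z using TensorProduct.induction_on with
    | zero => simp
    | add p q hp hq => simp only [map_add, hp, hq]
    | tmul p q => simp

theorem ptsHom_injective {A₀ : Type u} [CommRing A₀] [HopfAlgebra k A₀] (π : A →ₐc[k] A₀)
    (hπ : Function.Surjective π) : Function.Injective (ptsHom π) := fun q q' h =>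
  WithConv.ofConv_injective (AlgHom.ext fun x => by
    obtain ⟨a, rfl⟩ := hπ x
    exact congrArg (fun p : WithConv (A →ₐ[k] k) => p.ofConv a) h)

theorem quotient_idem_props [_root_.IsReduced A] (e : A) (he : IsIdempotentElem e)
    (hε : CoalgebraStruct.counit (R := k) e = 1)
    (hmin : ∀ e' : A, IsIdempotentElem e' → CoalgebraStruct.counit (R := k) e' = 1 → e * e' = e) :
    _root_.IsReduced (A ⧸ Ideal.span {1 - e}) ∧
      ∀ x : A ⧸ Ideal.span {1 - e}, IsIdempotentElem x → x = 0 ∨ x = 1 := by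
  have he1 : Ideal.Quotient.mk (Ideal.span {1 - e}) e = 1 :=
    (Ideal.Quotient.eq.2 (Ideal.mem_span_singleton'.2 ⟨-1, by ring⟩)).trans (map_one _)
  refine ⟨⟨fun x hx => ?_⟩, fun x hx => ?_⟩
  · obtain ⟨n, hn⟩ := hx
    obtain ⟨h, rfl⟩ := Ideal.Quotient.mk_surjective x
    rw [← map_pow, Ideal.Quotient.eq_zero_iff_mem, Ideal.mem_span_singleton'] at hn
    obtain ⟨a, ha⟩ := hn
    have h2 : h * e = 0 := eq_zero_of_pow_eq_zero (n := n + 1) (by
      rw [mul_pow, he.pow_succ_eq n, pow_succ]
      linear_combination (-(h * e)) * ha - a * h * he.eq)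
    rw [← _root_.mul_one (Ideal.Quotient.mk _ h), ← he1, ← map_mul, h2, map_zero]
  · obtain ⟨h, rfl⟩ := Ideal.Quotient.mk_surjective x
    obtain ⟨a, ha⟩ := Ideal.mem_span_singleton'.1 (Ideal.Quotient.eq.1 ((map_mul _ h h).trans hx.eq))
    have hi : IsIdempotentElem (h * e) := by
      show h * e * (h * e) = h * e
      linear_combination (-e ^ 2) * ha + (h - a * e) * he.eq
    rcases IsIdempotentElem.iff_eq_zero_or_one.1 (hi.map (Bialgebra.counitAlgHom k A)) with h0 | h1
    · left
      have h2 := hmin _ hi.one_sub (show Bialgebra.counitAlgHom k A (1 - h * e) = 1 by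
        rw [map_sub, map_one, h0, sub_zero])
      have h3 : h * e = 0 := by linear_combination (-1 : A) * h2 - h * he.eq
      rw [← _root_.mul_one (Ideal.Quotient.mk _ h), ← he1, ← map_mul, h3, map_zero]
    · right
      have h2 := hmin _ hi h1
      have h3 : h * e = e := by linear_combination h2 - h * he.eq
      rw [← _root_.mul_one (Ideal.Quotient.mk _ h), ← he1, ← map_mul, h3]

variable [IsAlgClosed k] [Algebra.FiniteType k A] [_root_.IsReduced A]
  {A' : Type u} [CommRing A'] [HopfAlgebra k A'] [Algebra.FiniteType k A'] [_root_.IsReduced A']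

/-- A semi-invariant function on a solvable group gives one with the inverse character. -/
theorem exists_semi_inv_of_solvable (π : A →ₐc[k] A') [Group.IsSolvable (WithConv (A →ₐ[k] k))]
    (c c' : A') (hcc : c * c' = 1) (f : A) (hf0 : f ≠ 0)
    (hf : (π : A →ₐ[k] A').toLinearMap.lTensor A (CoalgebraStruct.comul (R := k) f) = f ⊗ₜ[k] c) :
    ∃ q : A, q ≠ 0 ∧
      (π : A →ₐ[k] A').toLinearMap.lTensor A (CoalgebraStruct.comul (R := k) q) = q ⊗ₜ[k] c' := by
  classical
  haveI : IsJacobsonRing A := isJacobsonRing_of_finiteType (A := k)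
  haveI : IsNoetherianRing A := Algebra.FiniteType.isNoetherianRing k A
  obtain ⟨e, he, hεe, hmin, hI⟩ := Comod33.IdComp.exists_idem k A
  haveI := hI
  let I : Ideal A := Ideal.span {1 - e}
  obtain ⟨hred, hconn⟩ := quotient_idem_props (k := k) e he hεe hmin
  haveI := hred
  let π₀ : A →ₐc[k] A ⧸ I := Bialgebra.Quotient.mkBialgHom I
  haveI : Algebra.FiniteType k (A ⧸ I) :=
    Algebra.FiniteType.of_surjective (π₀ : A →ₐ[k] A ⧸ I) Ideal.Quotient.mk_surjective
  haveI : Group.IsSolvable (WithConv ((A ⧸ I) →ₐ[k] k)) :=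
    solvable_of_solvable_injective (ptsHom_injective π₀ Ideal.Quotient.mk_surjective)
  let T : A →ₐ[k] A ⊗[k] A' :=
    (Algebra.TensorProduct.map (AlgHom.id k A) (π : A →ₐ[k] A')).comp (Bialgebra.comulAlgHom k A)
  have hT : ∀ a, T a =
      (π : A →ₐ[k] A').toLinearMap.lTensor A (CoalgebraStruct.comul (R := k) a) := fun a => rfl
  have hTq : ∀ (a : A) (x : WithConv (A →ₐ[k] k)) (q : A' →ₐ[k] k),
      Algebra.TensorProduct.lift x.ofConv q (fun _ _ => Commute.all _ _) (T a) =
        (x * toConv (q.comp (π : A →ₐ[k] A'))).ofConv a := by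
    intro a x q
    rw [AlgHom.convMul_apply, hT]
    generalize CoalgebraStruct.comul (R := k) a = z
    induction z using TensorProduct.induction_on with
    | zero => simp
    | add p q hp hq => simp only [map_add, hp, hq]
    | tmul p q => simp
  let S : Submodule k A := LinearMap.ker (T.toLinearMap - (TensorProduct.mk k A A').flip c)
  have hS : ∀ a, a ∈ S ↔ T a = a ⊗ₜ[k] c := fun a => by
    rw [LinearMap.mem_ker, LinearMap.sub_apply, sub_eq_zero]
    rfl
  have hSltr : ∀ g : WithConv (A →ₐ[k] k), ∀ a ∈ S, ltr g a ∈ S := by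
    intro g a ha
    rw [hS] at ha ⊢
    have h1 : T (ltr g a) = (ltr g).toLinearMap.rTensor A' (T a) := by
      rw [hT, hT, ← Bialgebra.comulAlgHom_apply k A (ltr g a), ← AlgHom.comp_apply, comul_ltr,
        AlgHom.comp_apply, Bialgebra.comulAlgHom_apply]
      generalize CoalgebraStruct.comul (R := k) a = z
      induction z using TensorProduct.induction_on with
      | zero => simp
      | add p q hp hq => simp only [map_add, hp, hq]
      | tmul p q => simp
    rw [h1, ha, LinearMap.rTensor_tmul]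
    rfl
  letI cL : HopfRep.Comod k (A ⧸ I) A := Comod33.push π₀.toCoalgHom (leftReg k A)
  have hact : ∀ (p : WithConv ((A ⧸ I) →ₐ[k] k)) (a : A),
      HopfRep.Comod.act k (A ⧸ I) A p.ofConv a = ltr (ptsHom π₀ p)⁻¹ a := by
    intro p a
    rw [← act_leftReg]
    change TensorProduct.rid k A (p.ofConv.toLinearMap.lTensor A
        ((π₀ : A →ₗ[k] A ⧸ I).lTensor A ((leftReg k A).coact a))) =
      TensorProduct.rid k A ((p.ofConv.comp (π₀ : A →ₐ[k] A ⧸ I)).toLinearMap.lTensor A
        ((leftReg k A).coact a))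
    rw [AlgHom.comp_toLinearMap, LinearMap.lTensor_comp_apply]
    rfl
  have hSsub : HopfRep.IsSubcomod (k := k) (A := A ⧸ I) S :=
    Comod33.Conn.isSubcomod_of_forall_point (V := A) S fun p u hu => by
      rw [Comod33.actHom_apply, hact]
      exact hSltr _ u hu
  obtain ⟨E, hEfin, hfE, hE⟩ := Comod33.exists_finite_subcomod_mem (k := k) (A := A ⧸ I) f
  have hES := Comod33.isSubcomod_inf hE hSsub
  haveI : Module.Finite k ↥(E ⊓ S) := Submodule.finiteDimensional_of_le inf_le_left
  have hne : (⊥ : Submodule k ↥(E ⊓ S)) ≠ ⊤ := by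
    intro h
    have hmem : (⟨f, hfE, (hS f).2 hf⟩ : ↥(E ⊓ S)) ∈ (⊥ : Submodule k ↥(E ⊓ S)) :=
      h ▸ Submodule.mem_top
    rw [Submodule.mem_bot] at hmem
    exact hf0 (congrArg Subtype.val hmem)
  letI cr : HopfRep.Comod k (A ⧸ I) ↥(E ⊓ S) := ComodSub.Comod.restr cL (E ⊓ S) hES
  obtain ⟨L, -, hL, hfr⟩ := Comod33.exists_succ_subcomod
    (Comod33.LK.isTrigonalizable (k := k) hconn) (⊥ : Submodule k ↥(E ⊓ S))
    Comod33.isSubcomod_bot hne
  rw [finrank_bot, zero_add] at hfr
  haveI : Module.Free k L := Module.Free.of_divisionRing k L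
  obtain ⟨x₀, hx₀, hx₀span⟩ := (finrank_eq_one_iff' (K := k) (V := L)).1 hfr
  let x : A := ((x₀ : ↥(E ⊓ S)) : A)
  have hx0 : x ≠ 0 := fun h => hx₀ (Subtype.ext (Subtype.ext h))
  have hTx : T x = x ⊗ₜ[k] c := (hS x).1 (x₀ : ↥(E ⊓ S)).2.2
  have heig : ∀ p : WithConv ((A ⧸ I) →ₐ[k] k), ∃ l : k, ltr (ptsHom π₀ p) x = l • x := by
    intro p
    have hmem : HopfRep.Comod.act k (A ⧸ I) ↥(E ⊓ S) (p⁻¹).ofConv (x₀ : ↥(E ⊓ S)) ∈ L := by
      have := Comod33.rc_mem_of_mem_range (U := L) (p⁻¹).ofConv.toLinearMap (hL _ x₀.2)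
      exact this
    obtain ⟨l, hl⟩ := hx₀span ⟨_, hmem⟩
    refine ⟨l, ?_⟩
    have h1 : ((HopfRep.Comod.act k (A ⧸ I) ↥(E ⊓ S) (p⁻¹).ofConv (x₀ : ↥(E ⊓ S))) : A) =
        HopfRep.Comod.act k (A ⧸ I) A (p⁻¹).ofConv x :=
      Comod33.IsComodHom.dact (ComodSub.isComodHom_subtype cL (E ⊓ S) hES) _ _
    rw [hact, map_inv, _root_.inv_inv] at h1
    rw [← h1]
    exact (congrArg (fun z : L => (((z : ↥(E ⊓ S))) : A)) hl).symm
  have hcover : Ideal.span {x} ⊔ Submodule.annihilator (Ideal.span {x}) = ⊤ := by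
    by_contra hne'
    obtain ⟨m, hm, hle⟩ := Ideal.exists_le_maximal _ hne'
    haveI := hm
    obtain ⟨y, hy⟩ := Comod33.Aug.exists_point_ker (k := k) m
    have hyx : y x = 0 := RingHom.mem_ker.1
      (hy ▸ hle (Submodule.mem_sup_left (Ideal.mem_span_singleton_self x)))
    let ε := rTransl (toConv y)⁻¹ e
    have hz : ∀ z : WithConv (A →ₐ[k] k), z.ofConv (ε * x) = 0 := by
      intro z
      rw [map_mul, apply_rTransl]
      rcases IsIdempotentElem.iff_eq_zero_or_one.1 (he.map (z * (toConv y)⁻¹).ofConv) with h0 | h1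
      · rw [h0, zero_mul]
      · have hk : ∀ a ∈ I, (z * (toConv y)⁻¹).ofConv a = 0 := fun a ha =>
          RingHom.mem_ker.1 ((Ideal.span_le (I := RingHom.ker (z * (toConv y)⁻¹).ofConv)).2 (by
            rintro _ rfl
            rw [SetLike.mem_coe, RingHom.mem_ker, map_sub, map_one, h1, sub_self]) ha)
        let p : WithConv ((A ⧸ I) →ₐ[k] k) :=
          toConv (Ideal.Quotient.liftₐ I (z * (toConv y)⁻¹).ofConv hk)
        have hp : ptsHom π₀ p = z * (toConv y)⁻¹ := rfl
        obtain ⟨l, hl⟩ := heig p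
        have h2 := congrArg (fun q : WithConv (A →ₐ[k] k) => q.ofConv x)
          (point_comp_ltr (toConv y) (ptsHom π₀ p))
        simp only [ofConv_toConv, AlgHom.comp_apply] at h2
        rw [hl, map_smul, hyx, smul_zero, hp, inv_mul_cancel_right] at h2
        rw [← h2, mul_zero]
    have hεann : ε ∈ Submodule.annihilator (Ideal.span {x}) := by
      rw [Ideal.span, Submodule.mem_annihilator_span_singleton]
      exact Comod33.Conn.eq_zero_of_forall_point (k := k) hz
    have hyε : y ε = 0 := RingHom.mem_ker.1 (hy ▸ hle (Submodule.mem_sup_right hεann))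
    have h3 : (toConv y).ofConv ε = 1 := by
      rw [apply_rTransl, mul_inv_cancel]
      exact hεe
    exact one_ne_zero (h3.symm.trans hyε)
  obtain ⟨u, hu, v, hv, huv⟩ := Submodule.mem_sup.1 (hcover ▸ Submodule.mem_top :
    (1 : A) ∈ Ideal.span {x} ⊔ Submodule.annihilator (Ideal.span {x}))
  obtain ⟨a, rfl⟩ := Ideal.mem_span_singleton'.1 hu
  rw [Ideal.span, Submodule.mem_annihilator_span_singleton, smul_eq_mul] at hv
  have haxx : a * x * x = x := by linear_combination x * huv - hv
  let d := a * x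
  have hd : IsIdempotentElem d := by
    show a * x * (a * x) = a * x
    linear_combination a * haxx
  have hd01 : ∀ z : WithConv (A →ₐ[k] k),
      z.ofConv d = 0 ∧ z.ofConv x = 0 ∨ z.ofConv d = 1 ∧ z.ofConv x ≠ 0 := by
    intro z
    have h1 := congrArg z.ofConv haxx
    rw [map_mul] at h1
    rcases IsIdempotentElem.iff_eq_zero_or_one.1 (hd.map z.ofConv) with h0 | h1'
    · exact Or.inl ⟨h0, by rw [← h1, h0, zero_mul]⟩
    · refine Or.inr ⟨h1', fun h2 => ?_⟩
      rw [map_mul, h2, mul_zero] at h1'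
      exact zero_ne_one h1'
  have hTd : T d = d ⊗ₜ[k] (1 : A') := by
    rw [hT]
    refine fixed_of_points (M := A) (π : A →ₐ[k] A') fun q => sub_eq_zero.1
      (Comod33.Conn.eq_zero_of_forall_point (k := k) fun z => ?_)
    let g : WithConv (A →ₐ[k] k) := toConv (q.comp (π : A →ₐ[k] A'))
    rw [map_sub, sub_eq_zero]
    change z.ofConv (HopfRep.Comod.act k A A g.ofConv d) = z.ofConv d
    rw [← rTransl_eq_act, apply_rTransl]
    have hx : (z * g).ofConv x = z.ofConv x * q c := by
      rw [← hTq x z q, hTx, Algebra.TensorProduct.lift_tmul]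
    have hqc : q c ≠ 0 := fun h => by
      have := congrArg q hcc
      rw [map_mul, h, zero_mul, map_one] at this
      exact zero_ne_one this
    rcases hd01 z with ⟨h0, h0x⟩ | ⟨h1, h1x⟩
    · rcases hd01 (z * g) with ⟨h0', -⟩ | ⟨-, h1x'⟩
      · rw [h0, h0']
      · exact absurd (by rw [hx, h0x, zero_mul]) h1x'
    · rcases hd01 (z * g) with ⟨-, h0x'⟩ | ⟨h1', -⟩
      · exact absurd (hx.symm.trans h0x') (mul_ne_zero h1x hqc)
      · rw [h1, h1']
  refine ⟨a * d, fun h => hx0 ?_, ?_⟩
  · rw [← haxx]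
    linear_combination x ^ 2 * h + (-x) * (a * haxx)
  · rw [← hT]
    have hxq : x * (a * d) = d := by
      show x * (a * (a * x)) = a * x
      linear_combination a * haxx
    have h1 : (x ⊗ₜ[k] c) * T (a * d) = d ⊗ₜ[k] (1 : A') := by
      rw [← hTx, ← map_mul, hxq, hTd]
    have hqd : a * d * d = a * d := by rw [_root_.mul_assoc, hd.eq]
    calc T (a * d) = T (a * d) * (d ⊗ₜ[k] (1 : A')) := by rw [← hTd, ← map_mul, hqd]
      _ = (x ⊗ₜ[k] c) * T (a * d) * ((a * d) ⊗ₜ[k] c') := by
          rw [mul_comm (x ⊗ₜ[k] c), _root_.mul_assoc, Algebra.TensorProduct.tmul_mul_tmul, hcc, hxq]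
      _ = (a * d) ⊗ₜ[k] c' := by
          rw [h1, Algebra.TensorProduct.tmul_mul_tmul, _root_.one_mul, mul_comm d, hqd]

end Groth.Agent.GMod80

namespace Groth.Agent.GMod80

variable {k : Type u} [Field k] [IsAlgClosed k] {A : Type u} [CommRing A] [HopfAlgebra k A]
  [Algebra.FiniteType k A] [_root_.IsReduced A]
  {A' : Type u} [CommRing A'] [HopfAlgebra k A'] [Algebra.FiniteType k A'] [_root_.IsReduced A']

/-- In a solvable group the inverse of an occurring character occurs. -/
theorem occurs_inv_of_solvable (π : A →ₐc[k] A') [Group.IsSolvable (WithConv (A →ₐ[k] k))]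
    (χ χ' : A') (hχ : χ * χ' = 1) (h : Extend.Occurs π χ) : Extend.Occurs π χ' := by
  obtain ⟨U, _, _, cU, _, u, hu, heig⟩ := h
  obtain ⟨φ, hφ⟩ := Module.Projective.exists_dual_eq_one k hu
  let f := Comod33.cf (A := A) φ u
  have hf0 : f ≠ 0 := fun h0 => by
    have h3 := Comod33.counit_cf (A := A) φ u
    rw [show Comod33.cf (A := A) φ u = 0 from h0, map_zero, hφ] at h3
    exact zero_ne_one h3
  have hf : (π : A →ₐ[k] A').toLinearMap.lTensor A (CoalgebraStruct.comul (R := k) f) =
      f ⊗ₜ[k] χ := by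
    change (π : A →ₐ[k] A').toLinearMap.lTensor A
      (CoalgebraStruct.comul (R := k) (Comod33.cf (A := A) φ u)) = _
    rw [Comod33.comul_cf, ← LinearMap.comp_apply, LinearMap.lTensor_comp_rTensor,
      ← LinearMap.rTensor_comp_lTensor, LinearMap.comp_apply, heig, LinearMap.rTensor_tmul]
  obtain ⟨q, hq0, hq⟩ := exists_semi_inv_of_solvable π χ χ' hχ f hf0 hf
  obtain ⟨W, hfin, hqW, hW⟩ := Comod33.exists_finite_subcomod_mem (k := k) (A := A) q
  refine ⟨W, inferInstance, inferInstance, ComodSub.Comod.restr (HopfRep.Comod.regular k A) W hW,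
    hfin, ⟨q, hqW⟩, fun h0 => hq0 (congrArg Subtype.val h0), ?_⟩
  apply Module.Flat.rTensor_preserves_injective_linearMap (M := A') W.subtype W.injective_subtype
  rw [← LinearMap.comp_apply, LinearMap.rTensor_comp_lTensor, ← LinearMap.lTensor_comp_rTensor,
    LinearMap.comp_apply, ComodSub.restr_coact_coe, LinearMap.rTensor_tmul]
  exact hq

end Groth.Agent.GMod80
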