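import Groth.Agent.GMod80.NoTorus
import Groth.Agent.GMod80.Observable
import Groth.Agent.Comod33.Connected
import Groth.Agent.Comod33.Push
import Groth.Agent.Comod33.Units
import Mathlib.RingTheory.Nilpotent.Lemmas
import Mathlib.RingTheory.Ideal.MinimalPrime.Basic
import Mathlib.RingTheory.Spectrum.Prime.Noetherian

/-!
Fixed vectors of unipotent subgroups and their consequences.
-/

set_option autoImplicit false
set_option linter.unusedSectionVars false
set_option linter.style.haveILetI false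

universe u v

open CategoryTheory MonoidalCategory CartesianMonoidalCategory MonObj GrpObj AlgebraicGeometry
open scoped TensorProduct
open WithConv TensorProduct

noncomputable section

namespace Groth.Agent.GMod80

variable {k : Type u} [Field k] {A : Type u} [CommRing A] [HopfAlgebra k A]
  {G : Over (Spec (CommRingCat.of k))} [GrpObj G] (ψ : sp k A ≅ G) [IsMonHom ψ.hom]

section Fixed

variable {M : Type u} [AddCommGroup M] [Module k M] (ρ : VecGrp.GMod G M)
  {A' : Type u} [CommRing A'] [HopfAlgebra k A']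
  {H : Over (Spec (CommRingCat.of k))} [GrpObj H] (ψ' : sp k A' ≅ H) [IsMonHom ψ'.hom]
  (i : H ⟶ G) [IsMonHom i]

include ψ ψ' in
theorem exists_fixed_ne_zero (hU : HopfRep.IsUnipotent k A') (W : Submodule k M) (hne : W ≠ ⊥)
    (hst : ρ.IsStable (𝟙 G) W) : ∃ m ∈ W, m ≠ 0 ∧ m ∈ ρ.fixedUnder i := by
  let c := toComod ψ ρ
  let c' : HopfRep.Comod k A' M := Comod33.push (pullBialg ψ ψ' i).toCoalgHom c
  have hW : @HopfRep.IsSubcomod k A' _ _ _ _ M _ _ c' W :=
    Comod33.isSubcomod_push _ c ((isStable_id_iff ψ ρ W).1 hst)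
  obtain ⟨v, hvW, hv⟩ := (Submodule.ne_bot_iff W).1 hne
  letI := c'
  obtain ⟨U, hUfin, hvU, hUsub⟩ := Comod33.exists_finite_subcomod_mem (k := k) (A := A') v
  have hsub := Comod33.isSubcomod_inf hW hUsub
  let cr : HopfRep.Comod k A' ↥(W ⊓ U) := ComodSub.Comod.restr c' (W ⊓ U) hsub
  haveI : Module.Finite k ↥(W ⊓ U) := Submodule.finiteDimensional_of_le inf_le_right
  haveI : Nontrivial ↥(W ⊓ U) :=
    ⟨⟨⟨v, hvW, hvU⟩, 0, fun h => hv (congrArg Subtype.val h)⟩⟩
  obtain ⟨m, hm, hm0⟩ := (Submodule.ne_bot_iff _).1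
    (@hU ↥(W ⊓ U) _ _ cr inferInstance inferInstance)
  refine ⟨m, m.2.1, fun h => hm0 (Subtype.ext h), (mem_fixedUnder_iff ψ ρ ψ' i m).2 ?_⟩
  have h1 : c'.coact (m : M) = (W ⊓ U).subtype.rTensor A' (cr.coact m) :=
    (ComodSub.restr_coact_coe c' (W ⊓ U) hsub m).symm
  rw [show cr.coact m = _ from hm, LinearMap.rTensor_tmul] at h1
  exact h1

end Fixed

section Mult

variable {R : Type u} [CommRing R] [Algebra k R] (ρ : VecGrp.GMod G R) (hρ : ρ.IsMult)

/-- The action of a rational point by an algebra endomorphism. -/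
def actAlg (g : WithConv (A →ₐ[k] k)) : R →ₐ[k] R :=
  (Algebra.TensorProduct.rid k k R).toAlgHom.comp
    ((Algebra.TensorProduct.map (AlgHom.id k R) g.ofConv).comp
      (AlgHom.ofLinearMap (coactOf ψ ρ) (coactOf_one ψ ρ hρ) (coactOf_mul ψ ρ hρ)))

theorem actAlg_apply (g : WithConv (A →ₐ[k] k)) (r : R) :
    actAlg ψ ρ hρ g r = @HopfRep.Comod.act k A _ _ _ R _ _ (toComod ψ ρ) g.ofConv r := by
  change Algebra.TensorProduct.rid k k R
      (Algebra.TensorProduct.map (AlgHom.id k R) g.ofConv (coactOf ψ ρ r)) =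
    TensorProduct.rid k R (g.ofConv.toLinearMap.lTensor R (coactOf ψ ρ r))
  generalize coactOf ψ ρ r = z
  induction z using TensorProduct.induction_on with
  | zero => simp
  | add p q hp hq => simp only [map_add, hp, hq]
  | tmul p q => simp

theorem actAlg_mul (g h : WithConv (A →ₐ[k] k)) (r : R) :
    actAlg ψ ρ hρ (g * h) r = actAlg ψ ρ hρ g (actAlg ψ ρ hρ h r) := by
  letI := toComod ψ ρ
  rw [actAlg_apply, actAlg_apply, actAlg_apply]
  exact LinearMap.congr_fun (Comod33.act_mul g h) r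

theorem actAlg_one (r : R) : actAlg ψ ρ hρ 1 r = r := by
  letI := toComod ψ ρ
  rw [actAlg_apply]
  exact LinearMap.congr_fun Comod33.act_one r

theorem actAlg_injective (g : WithConv (A →ₐ[k] k)) : Function.Injective (actAlg ψ ρ hρ g) := by
  intro x y h
  rw [← actAlg_one ψ ρ hρ x, ← actAlg_one ψ ρ hρ y, ← inv_mul_cancel g, actAlg_mul, h, ← actAlg_mul]

variable [IsAlgClosed k] [Algebra.FiniteType k A] [_root_.IsReduced A]

theorem isStable_of_points (W : Submodule k R)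
    (h : ∀ g : WithConv (A →ₐ[k] k), ∀ x ∈ W, actAlg ψ ρ hρ g x ∈ W) : ρ.IsStable (𝟙 G) W := by
  letI := toComod ψ ρ
  refine (isStable_id_iff ψ ρ W).2 (Comod33.Conn.isSubcomod_of_forall_point (V := R) W fun g u hu => ?_)
  have := h g u hu
  rwa [actAlg_apply] at this

variable {A' : Type u} [CommRing A'] [HopfAlgebra k A']
  {H : Over (Spec (CommRingCat.of k))} [GrpObj H] (ψ' : sp k A' ≅ H) [IsMonHom ψ'.hom]
  (i : H ⟶ G) [IsMonHom i]

include ψ ψ' in
theorem isReduced_iff_fixed (hU : HopfRep.IsUnipotent k A') :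
    _root_.IsReduced R ↔ _root_.IsReduced ↥(ρ.fixedSubalgebra hρ i) := by
  constructor
  · intro hR
    exact isReduced_of_injective (ρ.fixedSubalgebra hρ i).val Subtype.val_injective
  · intro hF
    by_contra hne
    have hne' : (nilradical R).restrictScalars k ≠ ⊥ := fun h0 => hne ⟨fun x hx => by
      have : x ∈ (nilradical R).restrictScalars k := hx
      rwa [h0, Submodule.mem_bot] at this⟩
    obtain ⟨m, hm, hm0, hfix⟩ := exists_fixed_ne_zero ψ ρ ψ' i hU _ hne'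
      (isStable_of_points ψ ρ hρ _ fun g x hx => IsNilpotent.map hx (actAlg ψ ρ hρ g))
    obtain ⟨n, hn⟩ : IsNilpotent m := hm
    exact hm0 (congrArg Subtype.val (hF.eq_zero (⟨m, hfix⟩ : ρ.fixedSubalgebra hρ i)
      ⟨n, Subtype.ext hn⟩))

include ψ ψ' in
theorem exists_mul_eq_zero_fixed (hU : HopfRep.IsUnipotent k A')
    (hconn : ∀ e : A, IsIdempotentElem e → e = 0 ∨ e = 1) (a b : R) (ha : a ≠ 0) (hb : b ≠ 0)
    (hab : a * b = 0) :
    ∃ a b : ↥(ρ.fixedSubalgebra hρ i), a ≠ 0 ∧ b ≠ 0 ∧ a * b = 0 := by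
  classical
  by_cases hred : _root_.IsReduced R
  swap
  · rw [isReduced_iff_fixed ψ ρ hρ ψ' i hU, isReduced_iff] at hred
    push_neg at hred
    obtain ⟨x, hx, hx0⟩ := hred
    obtain ⟨n, hn, hn'⟩ : ∃ n, x ^ (n + 1) = 0 ∧ x ^ n ≠ 0 := by
      have hne : ∃ n, x ^ n = 0 := hx
      have hpos : Nat.find hne ≠ 0 := fun h0 => by
        have := Nat.find_spec hne
        rw [h0, pow_zero] at this
        exact hx0 (by rw [← _root_.mul_one x, this, mul_zero])
      refine ⟨Nat.find hne - 1, ?_, Nat.find_min hne (by omega)⟩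
      rw [Nat.sub_add_cancel (Nat.one_le_iff_ne_zero.2 hpos)]
      exact Nat.find_spec hne
    exact ⟨x ^ n, x, hn', hx0, by rw [← pow_succ, hn]⟩
  haveI : IsDomain A := Comod33.Units.isDomain k hconn
  letI := toComod ψ ρ
  haveI := Module.Finite.span_of_finite k (Set.toFinite ({a, b} : Set R))
  obtain ⟨W, hWfin, hle, hW⟩ := Comod33.exists_finite_subcomod_le (k := k) (A := A)
    (Submodule.span k ({a, b} : Set R))
  let R₀ := Algebra.adjoin k (W : Set R)
  haveI : Algebra.FiniteType k R₀ := by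
    obtain ⟨t, ht⟩ := Module.Finite.iff_fg.1 hWfin
    refine (Subalgebra.fg_iff_finiteType _).1 ⟨t, ?_⟩
    refine le_antisymm (Algebra.adjoin_mono (ht ▸ Submodule.subset_span)) (Algebra.adjoin_le ?_)
    rw [← ht]
    exact fun x hx => Algebra.span_le_adjoin k _ hx
  haveI : IsNoetherianRing R₀ := Algebra.FiniteType.isNoetherianRing k R₀
  have hmap : ∀ g, ∀ x ∈ R₀, actAlg ψ ρ hρ g x ∈ R₀ := by
    intro g x hx
    have h1 : R₀.map (actAlg ψ ρ hρ g) ≤ R₀ := by
      rw [AlgHom.map_adjoin]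
      refine Algebra.adjoin_mono ?_
      rintro _ ⟨w, hw, rfl⟩
      rw [actAlg_apply]
      exact Comod33.rc_mem_of_mem_range _ (hW w hw)
    exact h1 ⟨x, hx, rfl⟩
  let act₀ : WithConv (A →ₐ[k] k) → (R₀ →ₐ[k] R₀) := fun g =>
    ((actAlg ψ ρ hρ g).comp R₀.val).codRestrict R₀ fun x => hmap g x x.2
  have act₀_mul : ∀ g h x, act₀ (g * h) x = act₀ g (act₀ h x) := fun g h x =>
    Subtype.ext (actAlg_mul ψ ρ hρ g h x)
  have act₀_one : ∀ x, act₀ 1 x = x := fun x => Subtype.ext (actAlg_one ψ ρ hρ x)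
  have hfin : (minimalPrimes R₀).Finite := minimalPrimes.finite_of_isNoetherianRing R₀
  let S := hfin.toFinset
  have hstab : ∀ P ∈ minimalPrimes R₀, ∀ g, P.comap (act₀ g) = P := by
    intro P hP g
    haveI := hP.1.1
    let I : Ideal R₀ → Ideal A := fun Q => Ideal.span {c : A | ∃ x ∈ Q, ∃ φ : R →ₗ[k] k,
      (∀ y ∈ P, φ (y : R) = 0) ∧ c = Comod33.cf (A := A) φ (x : R)}
    have hmin : ∀ g, P.comap (act₀ g) ∈ minimalPrimes R₀ := by
      intro g
      haveI : (P.comap (act₀ g)).IsPrime := inferInstance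
      refine ⟨⟨inferInstance, bot_le⟩, fun Q hQ hQle => ?_⟩
      haveI := hQ.1
      have h1 : Q.comap (act₀ g⁻¹) ≤ P := fun x hx => by
        have := hQle hx
        rw [Ideal.mem_comap, ← act₀_mul, mul_inv_cancel, act₀_one] at this
        exact this
      have h2 := hP.2 ⟨inferInstance, bot_le⟩ h1
      intro x hx
      have h3 := h2 hx
      rw [Ideal.mem_comap, ← act₀_mul, inv_mul_cancel, act₀_one] at h3
      exact h3
    have hprod : ∏ Q ∈ S, I Q = ⊥ := by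
      refine eq_bot_iff.2 fun c hc => ?_
      refine Comod33.Conn.eq_zero_of_forall_point (k := k) fun q => ?_
      have hQ : P.comap (act₀ q) ∈ S := hfin.mem_toFinset.2 (hmin q)
      have h1 : c ∈ I (P.comap (act₀ q)) :=
        (Ideal.prod_le_inf.trans (Finset.inf_le hQ)) hc
      refine RingHom.mem_ker.1 ((Ideal.span_le (I := RingHom.ker q.ofConv)).2 ?_ h1)
      rintro _ ⟨x, hx, φ, hφ, rfl⟩
      rw [SetLike.mem_coe, RingHom.mem_ker, apply_cf']
      have := hφ _ hx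
      change φ (actAlg ψ ρ hρ q (x : R)) = 0 at this
      rwa [actAlg_apply] at this
    obtain ⟨Q, hQS, hQ⟩ := Finset.prod_eq_zero_iff.1 (show ∏ Q ∈ S, I Q = 0 from hprod)
    have hall : ∀ g, Q ≤ P.comap (act₀ g) := by
      intro g x hx
      by_contra hne
      have hne' : (act₀ g x : R) ∉ (P.restrictScalars k).map R₀.val.toLinearMap := by
        rintro ⟨y, hy, hy'⟩
        exact hne (by rwa [Ideal.mem_comap, ← show y = act₀ g x from Subtype.ext hy'])
      obtain ⟨φ, hφ, hle'⟩ := Submodule.exists_le_ker_of_notMem hne'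
      refine hφ ?_
      have h0 : Comod33.cf (A := A) φ (x : R) = 0 := by
        have : Comod33.cf (A := A) φ (x : R) ∈ I Q :=
          Ideal.subset_span ⟨x, hx, φ, fun y hy => hle' ⟨y, hy, rfl⟩, rfl⟩
        rwa [hQ] at this
      change φ (actAlg ψ ρ hρ g (x : R)) = 0
      rw [actAlg_apply, ← apply_cf', h0, map_zero]
    have heq : ∀ g, P.comap (act₀ g) = Q := fun g =>
      le_antisymm ((hmin g).2 (hfin.mem_toFinset.1 hQS).1 (hall g)) (hall g)
    rw [heq g, ← heq 1]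
    ext x
    rw [Ideal.mem_comap, act₀_one]
  haveI : _root_.IsReduced R₀ := isReduced_of_injective R₀.val Subtype.val_injective
  have haR : a ∈ R₀ := Algebra.subset_adjoin (hle (Submodule.subset_span (Or.inl rfl)))
  have hbR : b ∈ R₀ := Algebra.subset_adjoin (hle (Submodule.subset_span (Or.inr rfl)))
  haveI : Nontrivial R₀ := ⟨⟨⟨a, haR⟩, 0, fun h => ha (congrArg Subtype.val h)⟩⟩
  obtain ⟨⟨P, hP⟩⟩ := Ideal.nonempty_minimalPrimes (I := (⊥ : Ideal R₀)) bot_ne_top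
  let J : Ideal R₀ := (S.erase P).inf id
  have hPJ : P ⊓ J = ⊥ := by
    refine eq_bot_iff.2 fun x hx => ?_
    have h1 : x ∈ sInf (minimalPrimes R₀) := by
      rw [Ideal.mem_sInf]
      intro Q hQ
      by_cases h : Q = P
      · exact h ▸ hx.1
      · exact (Finset.inf_le (f := id) (Finset.mem_erase.2 ⟨h, hfin.mem_toFinset.2 hQ⟩)) hx.2
    rw [show minimalPrimes R₀ = (⊥ : Ideal R₀).minimalPrimes from rfl,
      Ideal.sInf_minimalPrimes] at h1
    exact (Ideal.isRadical_bot_iff.2 inferInstance) h1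
  haveI := hP.1.1
  have hPne : P ≠ ⊥ := by
    intro h0
    have := (Ideal.IsPrime.mem_or_mem (I := P) inferInstance
      (x := ⟨a, haR⟩) (y := ⟨b, hbR⟩) (by rw [h0, Ideal.mem_bot]; exact Subtype.ext hab))
    rw [h0, Ideal.mem_bot, Ideal.mem_bot] at this
    exact this.elim (fun h => ha (congrArg Subtype.val h)) (fun h => hb (congrArg Subtype.val h))
  have hJne : J ≠ ⊥ := by
    intro h0
    obtain ⟨Q, hQ, hle'⟩ := (Ideal.IsPrime.inf_le' (s := S.erase P) (f := id) inferInstance).1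
      (show (S.erase P).inf id ≤ P from (le_of_eq h0).trans bot_le)
    obtain ⟨hne, hQS⟩ := Finset.mem_erase.1 hQ
    exact hne (le_antisymm hle' (hP.2 (hfin.mem_toFinset.1 hQS).1 hle'))
  have hJs : ∀ g, J ≤ J.comap (act₀ g) := by
    intro g x hx
    rw [Ideal.mem_comap, Submodule.mem_finsetInf]
    intro Q hQ
    have h1 : x ∈ Q := (Submodule.mem_finsetInf.1 hx) Q hQ
    rw [← hstab Q (hfin.mem_toFinset.1 (Finset.mem_erase.1 hQ).2) g] at h1
    exact h1
  have key : ∀ K : Ideal R₀, K ≠ ⊥ → (∀ g, K ≤ K.comap (act₀ g)) →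
      ∃ m : ρ.fixedSubalgebra hρ i, m ≠ 0 ∧ ∃ y ∈ K, (y : R) = (m : R) := by
    intro K hK hKs
    obtain ⟨y, hy, hy0⟩ := (Submodule.ne_bot_iff K).1 hK
    obtain ⟨m, hm, hm0, hfix⟩ := exists_fixed_ne_zero ψ ρ ψ' i hU
      ((K.restrictScalars k).map R₀.val.toLinearMap)
      ((Submodule.ne_bot_iff _).2 ⟨y, ⟨y, hy, rfl⟩, fun h => hy0 (Subtype.ext h)⟩)
      (isStable_of_points ψ ρ hρ _ fun g x ⟨z, hz, hzx⟩ =>
        ⟨act₀ g z, hKs g hz, by rw [← hzx]; rfl⟩)
    obtain ⟨z, hz, rfl⟩ := hm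
    exact ⟨⟨_, hfix⟩, fun h => hm0 (congrArg Subtype.val h), z, hz, rfl⟩
  obtain ⟨m, hm0, y, hy, hym⟩ := key P hPne (fun g => (hstab P hP g).ge)
  obtain ⟨n, hn0, z, hz, hzn⟩ := key J hJne hJs
  refine ⟨m, n, hm0, hn0, Subtype.ext ?_⟩
  have : y * z = 0 := by
    have h1 : y * z ∈ P ⊓ J := ⟨P.mul_mem_right _ hy, J.mul_mem_left _ hz⟩
    rwa [hPJ, Ideal.mem_bot] at h1
  change (m : R) * (n : R) = 0
  rw [← hym, ← hzn]
  exact congrArg Subtype.val this

end Mult

section Frac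

variable {R : Type u} [CommRing R] [IsDomain R] [Algebra k R] (ρ : VecGrp.GMod G R) (hρ : ρ.IsMult)
  [IsAlgClosed k] [Algebra.FiniteType k A] [_root_.IsReduced A]

include ψ hρ in
theorem exists_invariant_frac (hU : HopfRep.IsUnipotent k A) (a₀ b₀ : R) (hb₀ : b₀ ≠ 0)
    (hinv : ∀ (B : Type u) [CommRing B] [Algebra k B] (h : VecGrp.pt k B ⟶ G),
      ρ.ρ B h ((1 : B) ⊗ₜ[k] a₀) * ((1 : B) ⊗ₜ[k] b₀) =
        ((1 : B) ⊗ₜ[k] a₀) * ρ.ρ B h ((1 : B) ⊗ₜ[k] b₀)) :
    ∃ a b : R, a ∈ ρ.fixedUnder (𝟙 G) ∧ b ∈ ρ.fixedUnder (𝟙 G) ∧ b ≠ 0 ∧ a * b₀ = b * a₀ := by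
  have hp : ∀ g, actAlg ψ ρ hρ g a₀ * b₀ = a₀ * actAlg ψ ρ hρ g b₀ := by
    intro g
    have h := hinv k (e ψ k g)
    rw [rho_pt, rho_pt, Algebra.TensorProduct.tmul_mul_tmul, Algebra.TensorProduct.tmul_mul_tmul] at h
    have h1 := congrArg (TensorProduct.lid k R) h
    simp only [_root_.one_mul, TensorProduct.lid_tmul, one_smul] at h1
    rw [actAlg_apply, actAlg_apply]
    exact h1
  let J : Submodule k R := (Submodule.colon (Ideal.span {b₀}) ({a₀} : Set R)).restrictScalars k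
  have hJ : ∀ b, b ∈ J ↔ ∃ c, c * b₀ = b * a₀ := fun b => by
    change b ∈ Submodule.colon _ _ ↔ _
    rw [Submodule.mem_colon_singleton, smul_eq_mul, Ideal.mem_span_singleton']
  have hgb : ∀ g, actAlg ψ ρ hρ g b₀ ≠ 0 := fun g h =>
    hb₀ (actAlg_injective ψ ρ hρ g (h.trans (map_zero _).symm))
  have hst : ρ.IsStable (𝟙 G) J := by
    refine isStable_of_points ψ ρ hρ J fun g b hb => ?_
    obtain ⟨c, hc⟩ := (hJ b).1 hb
    refine (hJ _).2 ⟨actAlg ψ ρ hρ g c, mul_right_cancel₀ (hgb g) ?_⟩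
    have h1 := congrArg (actAlg ψ ρ hρ g) hc
    rw [map_mul, map_mul] at h1
    calc actAlg ψ ρ hρ g c * b₀ * actAlg ψ ρ hρ g b₀
        = b₀ * (actAlg ψ ρ hρ g b * actAlg ψ ρ hρ g a₀) := by rw [← h1]; ring
      _ = actAlg ψ ρ hρ g b * (actAlg ψ ρ hρ g a₀ * b₀) := by ring
      _ = actAlg ψ ρ hρ g b * a₀ * actAlg ψ ρ hρ g b₀ := by rw [hp]; ring
  have hne : J ≠ ⊥ := (Submodule.ne_bot_iff _).2 ⟨b₀, (hJ b₀).2 ⟨a₀, mul_comm _ _⟩, hb₀⟩
  obtain ⟨b, hb, hb0, hbfix⟩ := exists_fixed_ne_zero ψ ρ ψ (𝟙 G) hU J hne hst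
  obtain ⟨a, ha⟩ := (hJ b).1 hb
  refine ⟨a, b, ?_, hbfix, hb0, ha⟩
  rw [mem_fixedUnder_id_iff ψ]
  letI := toComod ψ ρ
  have := fixed_of_points (AlgHom.id k A) (M := R) (m := a) fun q => by
    rw [AlgHom.comp_id, ← actAlg_apply ψ ρ hρ (toConv q)]
    have hbq : actAlg ψ ρ hρ (toConv q) b = b := by
      have := hbfix k (e ψ k (toConv q))
      rw [Category.comp_id, rho_pt] at this
      rw [actAlg_apply]
      simpa using congrArg (TensorProduct.lid k R) this
    have h1 := congrArg (actAlg ψ ρ hρ (toConv q)) ha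
    rw [map_mul, map_mul, hbq] at h1
    refine mul_right_cancel₀ (mul_ne_zero (hgb (toConv q)) hb₀) ?_
    calc actAlg ψ ρ hρ (toConv q) a * (actAlg ψ ρ hρ (toConv q) b₀ * b₀)
        = b * (actAlg ψ ρ hρ (toConv q) a₀ * b₀) := by rw [← _root_.mul_assoc, h1, _root_.mul_assoc]
      _ = (b * a₀) * actAlg ψ ρ hρ (toConv q) b₀ := by rw [hp, _root_.mul_assoc]
      _ = a * (actAlg ψ ρ hρ (toConv q) b₀ * b₀) := by rw [← ha]; ring
  rwa [AlgHom.toLinearMap_id, LinearMap.lTensor_id] at this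

end Frac

end Groth.Agent.GMod80
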